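import Cfsg.Agent.H856.ThreeM24
import Cfsg.Agent.SmallSimple.BurnsideNC
import Cfsg.Agent.SporadicStructure.M24Frame

/-!
# The normaliser of a Sylow 3-subgroup of `M22 : 2`

* `card_norm` : it has order 144.
-/

set_option autoImplicit false

namespace Cfsg.Agent.H856.NormT

open Subgroup Cfsg Cfsg.Agent.SporadicA.GolayBase Cfsg.Agent.SporadicA.GolayPerm
open Cfsg.Agent.J4Type Cfsg.Agent.J4Type.CocodeMask Cfsg.Agent.J4Type.POuter

/-- powers of tables -/
def ppow (P : ℕ) : ℕ → ℕ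
  | 0 => pone
  | n + 1 => CocodeMask.pcomp (ppow P n) P

theorem isTab_pow {g : M24} {P : ℕ} (h : IsTab g P) (n : ℕ) : IsTab (g ^ n) (ppow P n) := by
  induction n with
  | zero => exact isTab_one
  | succ n ih =>
    rw [pow_succ]
    exact ih.mul h

/-- the table of `s ^ a * s' ^ b` -/
def tt (a b : ℕ) : ℕ := CocodeMask.pcomp (ppow Ts a) (ppow Ts' b)

theorem isTab_tt (a b : ℕ) : IsTab (s ^ a * s' ^ b) (tt a b) := (isTab_pow tab_s a).mul (isTab_pow tab_s' b)

/-- the sixteen elements of the normaliser fixing the point 5 -/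
def tabs16 : List ℕ := [29423617025262996122360935273760887, 979289420919007590795002067488385632,
  976571469083726465425904061025236064, 18268175374482588334305708763928183,
  984818244535754528103549039458486304, 21200959128333255214641258505024663,
  966559588463784527718760631028583744, 7972342954368862525091283303302583,
  11171060285075701836147671699885751, 967121590612945502585551371308961856,
  23918178083769712434620360278255671, 973662282954993102379918393154851968,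
  963348944821157766008893886471505568, 9223833831075780390489660637760599,
  11745625044920120703790219017654615, 964613226099185803740758244155542944]

def gt (i : Fin 16) : ℕ := tabs16.getD i 0

noncomputable def gg (i : Fin 16) : M24 := mk (gt i) (by revert i; decide +kernel)

theorem tab_gg (i : Fin 16) : IsTab (gg i) (gt i) := isTab_mk _ _

theorem gg_mem (i : Fin 16) : (gg i : Equiv.Perm GolayPt) ∈ M22d := by
  rw [← duad_eq_M22d, Cfsg.Agent.BabyM.DuadGen.mem_duad]
  refine ⟨(gg i).2, ?_⟩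
  have h : ∀ i : Fin 16, (papp (gt i) 23 = 23 ∧ papp (gt i) 0 = 0) ∨ (papp (gt i) 23 = 0 ∧ papp (gt i) 0 = 23) := by
    decide +kernel
  rcases h i with ⟨h1, h2⟩ | ⟨h1, h2⟩
  · exact Or.inl ⟨apply_eq (tab_gg i) h1, apply_eq (tab_gg i) h2⟩
  · exact Or.inr ⟨apply_eq (tab_gg i) h1, apply_eq (tab_gg i) h2⟩

theorem gg_s (i : Fin 16) : ∃ a b : Fin 3, gg i * s = s ^ (a : ℕ) * s' ^ (b : ℕ) * gg i := by
  have h : ∀ i : Fin 16, ∃ a b : Fin 3, CocodeMask.pcomp (gt i) Ts = CocodeMask.pcomp (tt a b) (gt i) := by decide +kernel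
  obtain ⟨a, b, h1⟩ := h i
  exact ⟨a, b, eq_of_tab ((tab_gg i).mul tab_s) ((isTab_tt a b).mul (tab_gg i)) h1⟩

theorem gg_s' (i : Fin 16) : ∃ a b : Fin 3, gg i * s' = s ^ (a : ℕ) * s' ^ (b : ℕ) * gg i := by
  have h : ∀ i : Fin 16, ∃ a b : Fin 3, CocodeMask.pcomp (gt i) Ts' = CocodeMask.pcomp (tt a b) (gt i) := by decide +kernel
  obtain ⟨a, b, h1⟩ := h i
  exact ⟨a, b, eq_of_tab ((tab_gg i).mul tab_s') ((isTab_tt a b).mul (tab_gg i)) h1⟩

theorem gg_five (i : Fin 16) : (gg i : Equiv.Perm GolayPt) (some 5) = some 5 :=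
  apply_eq (tab_gg i) (by revert i; decide +kernel)

theorem gg_inj : Function.Injective gg := by
  intro i j h
  have h1 : ∀ i j : Fin 16, (∀ p : GolayPt, papp (gt i) (idx p) = papp (gt j) (idx p)) → i = j := by decide +kernel
  apply h1
  intro p
  rw [← tab_gg i p, ← tab_gg j p, h]

theorem tt_five : ∀ a b a' b' : Fin 3, papp (tt a b) 5 = papp (tt a' b') 5 → a = a' ∧ b = b' := by decide +kernel

/-! ### the Sylow subgroup -/

theorem s_memD : (s : Equiv.Perm GolayPt) ∈ M22d := by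
  rw [← duad_eq_M22d, Cfsg.Agent.BabyM.DuadGen.mem_duad]
  exact ⟨s.2, Or.inl ⟨apply_eq tab_s (by decide +kernel), apply_eq tab_s (by decide +kernel)⟩⟩

theorem s'_memD : (s' : Equiv.Perm GolayPt) ∈ M22d := by
  rw [← duad_eq_M22d, Cfsg.Agent.BabyM.DuadGen.mem_duad]
  exact ⟨s'.2, Or.inl ⟨apply_eq tab_s' (by decide +kernel), apply_eq tab_s' (by decide +kernel)⟩⟩

theorem card_D : Nat.card M22d = 887040 := by
  rw [← duad_eq_M22d]
  exact Cfsg.Agent.BabyM.DuadGen.card_duad

instance : Finite M22d := Nat.finite_of_card_ne_zero (by rw [card_D]; norm_num)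

/-- `s` in `M22 : 2` -/
noncomputable def S : M22d := ⟨s, s_memD⟩
noncomputable def S' : M22d := ⟨s', s'_memD⟩
noncomputable def X (i : Fin 16) : M22d := ⟨gg i, gg_mem i⟩

theorem val_inj {g h : M24} {x y : M22d} (hx : (x : Equiv.Perm GolayPt) = g) (hy : (y : Equiv.Perm GolayPt) = h)
    (e : g = h) : x = y := by
  apply Subtype.ext
  rw [hx, hy, e]

theorem S_cube : S ^ 3 = 1 := val_inj (g := s ^ 3) (h := 1) rfl rfl s_cube
theorem S'_cube : S' ^ 3 = 1 := val_inj (g := s' ^ 3) (h := 1) rfl rfl s'_cube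
theorem S_comm : S * S' = S' * S := val_inj (g := s * s') (h := s' * s) rfl rfl s_comm
theorem S_ne : S ≠ 1 := fun e => s_ne (Subtype.ext (congrArg (fun x : M22d => (x : Equiv.Perm GolayPt)) e))
theorem S'_ne : S' ≠ 1 := fun e => s'_ne (Subtype.ext (congrArg (fun x : M22d => (x : Equiv.Perm GolayPt)) e))
theorem S'_ne_S : S' ≠ S := fun e => s'_ne_s (Subtype.ext (congrArg (fun x : M22d => (x : Equiv.Perm GolayPt)) e))
theorem S'_ne_S2 : S' ≠ S ^ 2 := fun e => s'_ne_s2 (Subtype.ext (congrArg (fun x : M22d => (x : Equiv.Perm GolayPt)) e))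

theorem pow_eq_one_of {G : Type*} [Group G] {a : G} (ha : a ^ 3 = 1) {n : ℕ} (h : 3 ∣ n) : a ^ n = 1 := by
  obtain ⟨m, rfl⟩ := h
  rw [pow_mul, ha, one_pow]

theorem mul4 (i j k l : ℕ) : S ^ i * S' ^ j * (S ^ k * S' ^ l) = S ^ (i + k) * S' ^ (j + l) := by
  have h2 := ((show Commute S S' from S_comm).pow_pow k j).eq
  calc S ^ i * S' ^ j * (S ^ k * S' ^ l) = S ^ i * (S' ^ j * S ^ k) * S' ^ l := by group
    _ = S ^ i * (S ^ k * S' ^ j) * S' ^ l := by rw [h2]
    _ = _ := by rw [pow_add, pow_add]; simp only [mul_assoc]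

/-- the group `⟨s, s'⟩` -/
noncomputable def T : Subgroup M22d where
  carrier := {g | ∃ i j : ℕ, g = S ^ i * S' ^ j}
  one_mem' := ⟨0, 0, by rw [pow_zero, pow_zero, one_mul]⟩
  mul_mem' := by
    rintro _ _ ⟨i, j, rfl⟩ ⟨k, l, rfl⟩
    exact ⟨_, _, mul4 i j k l⟩
  inv_mem' := by
    rintro _ ⟨i, j, rfl⟩
    refine ⟨2 * i, 2 * j, ?_⟩
    rw [inv_eq_iff_mul_eq_one, mul4, pow_eq_one_of S_cube ⟨i, by ring⟩, pow_eq_one_of S'_cube ⟨j, by ring⟩, one_mul]

theorem S_mem : S ∈ T := ⟨1, 0, by rw [pow_one, pow_zero, mul_one]⟩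
theorem S'_mem : S' ∈ T := ⟨0, 1, by rw [pow_one, pow_zero, one_mul]⟩

theorem T_comm : ∀ x ∈ T, ∀ y ∈ T, x * y = y * x := by
  rintro _ ⟨i, j, rfl⟩ _ ⟨k, l, rfl⟩
  rw [mul4, mul4, add_comm i, add_comm j]

theorem T_pGroup : IsPGroup 3 T := by
  rintro ⟨_, i, j, rfl⟩
  refine ⟨1, Subtype.ext ?_⟩
  change (S ^ i * S' ^ j) ^ 3 ^ 1 = 1
  rw [pow_one, pow_succ, pow_two, mul4, mul4, pow_eq_one_of S_cube ⟨i, by ring⟩, pow_eq_one_of S'_cube ⟨j, by ring⟩,
    one_mul]

theorem card_T : Nat.card T = 9 := by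
  have hp : Fact (Nat.Prime 3) := ⟨Nat.prime_three⟩
  have h9 : 9 ∣ Nat.card T := by
    have h1 := NonAb.nine_dvd S_cube S'_cube S_comm S_ne S'_ne S'_ne_S S'_ne_S2
    refine h1.trans (Subgroup.card_dvd_of_le ?_)
    rw [Subgroup.closure_le]
    rintro y (rfl | rfl)
    · exact S_mem
    · exact S'_mem
  obtain ⟨k, hk⟩ := IsPGroup.iff_card.1 T_pGroup
  have hd : Nat.card T ∣ 887040 := by rw [← card_D]; exact card_subgroup_dvd_card T
  have hk2 : k ≤ 2 := by
    by_contra hcon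
    have h1 : 3 ^ 3 ∣ Nat.card T := by rw [hk]; exact pow_dvd_pow 3 (by omega)
    have h2 := h1.trans hd
    norm_num at h2
  have h3 : Nat.card T ≤ 9 := by
    rw [hk]
    exact Nat.pow_le_pow_right (by norm_num) hk2
  have h4 := Nat.le_of_dvd Nat.card_pos h9
  omega

/-- `T` as a Sylow subgroup -/
noncomputable def TS : Sylow 3 M22d :=
  have : Fact (Nat.Prime 3) := ⟨Nat.prime_three⟩
  Sylow.ofCard T (by
    rw [card_T, card_D]
    have h : Nat.factorization 887040 3 = 2 := by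
      rw [Nat.factorization_def _ Nat.prime_three]
      have h1 : (887040 : ℕ) = 3 ^ 2 * 98560 := by norm_num
      rw [h1, padicValNat.mul (by norm_num) (by norm_num), padicValNat.prime_pow,
        padicValNat.eq_zero_of_not_dvd (by norm_num)]
    rw [h]
    norm_num)

theorem TS_coe : (TS : Subgroup M22d) = T := rfl

/-! ### the centraliser of `T` -/

/-- the octad -/
theorem oct_mem : fin 6750560 ∈ octads := (fin_mem_octads_iff (by norm_num)).2 ⟨by decide +kernel, by decide +kernel⟩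

theorem cent_T {c : M22d} (h1 : c * S = S * c) (h2 : c * S' = S' * c) : c ∈ T := by
  obtain ⟨c, hc⟩ := c
  have hcM : c ∈ M24 := by
    rw [← duad_eq_M22d, Cfsg.Agent.BabyM.DuadGen.mem_duad] at hc
    exact hc.1
  have hcomm : ∀ a b : ℕ, ∀ q, c (((s ^ a * s' ^ b : M24) : Equiv.Perm GolayPt) q) =
      ((s ^ a * s' ^ b : M24) : Equiv.Perm GolayPt) (c q) := by
    intro a b q
    have e1 : Commute (⟨c, hc⟩ : M22d) (S ^ a * S' ^ b) :=
      ((show Commute (⟨c, hc⟩ : M22d) S from h1).pow_right a).mul_right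
        ((show Commute (⟨c, hc⟩ : M22d) S' from h2).pow_right b)
    have e2 := congrArg (fun x : M22d => (x : Equiv.Perm GolayPt) q) e1.eq
    exact e2
  have hkey : ∀ p : GolayPt, (∀ a b : Fin 3, ¬ (a = 0 ∧ b = 0) → papp (tt a b) (idx p) ≠ idx p) →
      ∃ a b : Fin 3, papp (tt a b) 5 = idx p := by decide +kernel
  have hreg : ∀ a b : Fin 3, ¬ (a = 0 ∧ b = 0) → papp (tt a b) 5 ≠ 5 := by decide +kernel
  have h5 : idx (some 5 : GolayPt) = 5 := by decide +kernel
  obtain ⟨a, b, hab⟩ := hkey (c (some 5)) (by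
    intro a b hab e
    have e1 : ((s ^ (a : ℕ) * s' ^ (b : ℕ) : M24) : Equiv.Perm GolayPt) (c (some 5)) = c (some 5) :=
      apply_eq (isTab_tt a b) e
    rw [← hcomm] at e1
    have e2 := c.injective e1
    have e3 := isTab_tt a b (some 5)
    rw [e2, h5] at e3
    exact hreg a b hab e3.symm)
  let t : M24 := s ^ (a : ℕ) * s' ^ (b : ℕ)
  have ht5 : (t : Equiv.Perm GolayPt) (some 5) = c (some 5) := apply_eq (isTab_tt a b) (by rw [h5]; exact hab)
  let d : Equiv.Perm GolayPt := (t : Equiv.Perm GolayPt)⁻¹ * c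
  have hd5 : d (some 5) = some 5 := by
    change (t : Equiv.Perm GolayPt)⁻¹ (c (some 5)) = some 5
    rw [← ht5]
    exact Equiv.symm_apply_apply _ _
  have hdfix : ∀ a' b' : ℕ, ∀ p, papp (tt a' b') 5 = idx p → d p = p := by
    intro a' b' p hp
    have e1 : ((s ^ a' * s' ^ b' : M24) : Equiv.Perm GolayPt) (some 5) = p := apply_eq (isTab_tt a' b') (by rw [h5]; exact hp)
    have e2 : t * (s ^ a' * s' ^ b') = (s ^ a' * s' ^ b') * t := by
      have cc : Commute s s' := s_comm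
      have k1 : Commute (s ^ (a : ℕ) * s' ^ (b : ℕ)) s := (((Commute.refl s).pow_left _).mul_left (cc.symm.pow_left _))
      have k2 : Commute (s ^ (a : ℕ) * s' ^ (b : ℕ)) s' := ((cc.pow_left _).mul_left ((Commute.refl s').pow_left _))
      exact ((k1.pow_right a').mul_right (k2.pow_right b')).eq
    have e3 : (t : Equiv.Perm GolayPt) p = c p := by
      rw [← e1]
      have e4 := congrArg (fun x : M24 => (x : Equiv.Perm GolayPt) (some 5)) e2
      change (t : Equiv.Perm GolayPt) (((s ^ a' * s' ^ b' : M24) : Equiv.Perm GolayPt) (some 5)) =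
        ((s ^ a' * s' ^ b' : M24) : Equiv.Perm GolayPt) ((t : Equiv.Perm GolayPt) (some 5)) at e4
      rw [e4, ht5, ← hcomm]
    change (t : Equiv.Perm GolayPt)⁻¹ (c p) = p
    rw [← e3]
    exact Equiv.symm_apply_apply _ _
  have hd1 : d = 1 := by
    have k6 : ∀ z ∈ ({some 5, some 6, some 8, some 16, some 18, some 22} : Finset GolayPt),
        ∃ a b : Fin 3, papp (tt a b) 5 = idx z := by decide +kernel
    have k7 : ∃ a b : Fin 3, papp (tt a b) 5 = idx (some 7 : GolayPt) := by decide +kernel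
    refine Cfsg.Agent.SporadicStructure.M24Frame.eq_one_of_fix_frame (M24.mul_mem (M24.inv_mem t.2) hcM) oct_mem
      (s := {some 5, some 6, some 8, some 16, some 18, some 22}) ?_ ?_ ?_ (p := some 7) ?_ ?_
    · intro p hp
      rw [mem_fin]
      revert p
      decide +kernel
    · decide +kernel
    · intro z hz
      obtain ⟨a', b', h⟩ := k6 z hz
      exact hdfix a' b' z h
    · rw [mem_fin]
      decide +kernel
    · obtain ⟨a', b', h⟩ := k7
      exact hdfix a' b' _ h
  refine ⟨a, b, Subtype.ext ?_⟩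
  change c = (t : Equiv.Perm GolayPt)
  exact (inv_mul_eq_one.1 hd1).symm

theorem centralizer_T : centralizer (T : Set M22d) = T := by
  apply le_antisymm
  · intro c hc
    exact cent_T (hc S S_mem).symm (hc S' S'_mem).symm
  · intro x hx
    rw [mem_centralizer_iff]
    exact fun y hy => T_comm y hy x hx

/-! ### the normaliser -/

theorem X_norm (i : Fin 16) : X i ∈ normalizer (T : Set M22d) := by
  have h1 : X i * S * (X i)⁻¹ ∈ T := by
    obtain ⟨a, b, h⟩ := gg_s i
    have h2 : X i * S = S ^ (a : ℕ) * S' ^ (b : ℕ) * X i := val_inj (g := gg i * s) (h := _) rfl rfl h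
    exact ⟨a, b, by rw [h2]; group⟩
  have h2 : X i * S' * (X i)⁻¹ ∈ T := by
    obtain ⟨a, b, h⟩ := gg_s' i
    have h2 : X i * S' = S ^ (a : ℕ) * S' ^ (b : ℕ) * X i := val_inj (g := gg i * s') (h := _) rfl rfl h
    exact ⟨a, b, by rw [h2]; group⟩
  have h3 : ∀ x ∈ T, X i * x * (X i)⁻¹ ∈ T := by
    rintro _ ⟨a, b, rfl⟩
    have h4 : X i * (S ^ a * S' ^ b) * (X i)⁻¹ = (X i * S * (X i)⁻¹) ^ a * (X i * S' * (X i)⁻¹) ^ b := by
      rw [conj_pow, conj_pow]; group
    rw [h4]
    exact mul_mem (pow_mem h1 a) (pow_mem h2 b)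
  have h4 : T.map (MulAut.conj (X i)).toMonoidHom = T := by
    apply eq_of_le_of_card_ge
    · rintro _ ⟨x, hx, rfl⟩
      exact h3 x hx
    · rw [card_map_of_injective (MulAut.conj (X i)).injective]
  rw [mem_normalizer_iff]
  intro x
  refine ⟨fun hx => h3 x hx, fun hx => ?_⟩
  rw [← h4] at hx
  obtain ⟨y, hy, hyx⟩ := hx
  have h5 : X i * y * (X i)⁻¹ = X i * x * (X i)⁻¹ := hyx
  have h6 : y = x := by
    have h7 := mul_right_cancel h5
    exact mul_left_cancel h7
  rw [← h6]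
  exact hy

theorem card_ge : 144 ≤ Nat.card (normalizer (T : Set M22d)) := by
  let f : Fin 16 × Fin 3 × Fin 3 → normalizer (T : Set M22d) := fun x =>
    ⟨S ^ (x.2.1 : ℕ) * S' ^ (x.2.2 : ℕ) * X x.1,
      mul_mem (le_normalizer (show S ^ (x.2.1 : ℕ) * S' ^ (x.2.2 : ℕ) ∈ T from ⟨_, _, rfl⟩)) (X_norm x.1)⟩
  have hf : Function.Injective f := by
    rintro ⟨i, a, b⟩ ⟨j, a', b'⟩ h
    have h1 : ((s ^ (a : ℕ) * s' ^ (b : ℕ) : M24) : Equiv.Perm GolayPt) * gg i =
        ((s ^ (a' : ℕ) * s' ^ (b' : ℕ) : M24) : Equiv.Perm GolayPt) * gg j :=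
      congrArg (fun x : normalizer (T : Set M22d) => ((x : M22d) : Equiv.Perm GolayPt)) h
    have h2 := congrArg (fun g : Equiv.Perm GolayPt => idx (g (some 5))) h1
    change idx (((s ^ (a : ℕ) * s' ^ (b : ℕ) : M24) : Equiv.Perm GolayPt) ((gg i : Equiv.Perm GolayPt) (some 5))) =
      idx (((s ^ (a' : ℕ) * s' ^ (b' : ℕ) : M24) : Equiv.Perm GolayPt) ((gg j : Equiv.Perm GolayPt) (some 5))) at h2
    rw [gg_five, gg_five, isTab_tt, isTab_tt] at h2
    obtain ⟨rfl, rfl⟩ := tt_five a b a' b' h2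
    have h3 : gg i = gg j := Subtype.ext (mul_left_cancel h1)
    rw [gg_inj h3]
  have h1 := Nat.card_le_card_of_injective f hf
  rwa [Nat.card_prod, Nat.card_prod, Nat.card_fin, Nat.card_fin] at h1

theorem card_le : Nat.card (normalizer (T : Set M22d)) ≤ 144 := by
  have hp : Fact (Nat.Prime 3) := ⟨Nat.prime_three⟩
  have hcomm : IsMulCommutative TS := ⟨⟨fun x y => Subtype.ext (T_comm x x.2 y y.2)⟩⟩
  let A : Subgroup (MulAut T) := T.normalizerMonoidHom.range
  have hAcard : Nat.card A = (centralizer (T : Set M22d)).relIndex (normalizer (T : Set M22d)) := by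
    rw [← Subgroup.index_ker, normalizerMonoidHom_ker]
    rfl
  have h1 : Nat.card A ∣ 48 := by
    have h2 : Nat.card A ∣ Nat.card (MulAut T) := card_subgroup_dvd_card A
    have h3 := Cfsg.Agent.SmallSimple.BurnsideNC.card_mulAut_dvd_of_card_eq_sq (P := T) (p := 3) (by rw [card_T]; norm_num)
    have h4 := h2.trans h3
    norm_num at h4
    exact h4
  have h2 : ¬ 3 ∣ Nat.card A := by
    rw [hAcard]
    have h3 := Cfsg.Agent.SmallSimple.BurnsideNC.coprime_relIndex TS hcomm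
    exact (Nat.Prime.coprime_iff_not_dvd Nat.prime_three).1 h3
  have h3 : Nat.card A ∣ 16 := by
    have h4 : (Nat.card A).Coprime 3 := ((Nat.Prime.coprime_iff_not_dvd Nat.prime_three).2 h2).symm
    have h5 : Nat.card A ∣ 3 * 16 := by
      rw [show 3 * 16 = 48 by norm_num]
      exact h1
    exact h4.dvd_of_dvd_mul_left h5
  have h4 : Nat.card (normalizer (T : Set M22d)) = Nat.card A * 9 := by
    rw [hAcard, centralizer_T, ← card_T, mul_comm, ← relIndex_bot_left, ← relIndex_bot_left,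
      relIndex_mul_relIndex ⊥ T _ bot_le le_normalizer]
  rw [h4]
  have h5 := Nat.le_of_dvd (by norm_num) h3
  omega

theorem card_norm_T : Nat.card (normalizer (T : Set M22d)) = 144 := le_antisymm card_le card_ge

end Cfsg.Agent.H856.NormT
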