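import Cfsg.Agent.H856.CentRho
import Cfsg.Agent.H856.Heis
import Cfsg.Agent.H856.NormT

/-!
# The Sylow 3-subgroup of a group with the structure `J4Type.Compl`

For `F : J4Type.Compl K`, `K` finite:
* `R1 F` : a group of order 27 and exponent 3, `exists_sylow` : it is a Sylow 3-subgroup of `K`;
* `norm_R1` : `N(R1) ≤ C(z)`; `card_norm_R1` : `|N(R1)| = 864`;
* `not_dvd_index` : 3 does not divide `|K : C(z)|`;
* `one_class` : all elements of order 3 are conjugate.
-/

set_option autoImplicit false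

namespace Cfsg.Agent.H856.SylowThree

open Subgroup Cfsg Cfsg.Agent.J4Type Cfsg.Agent.J4Type.CocodeMask Cfsg.Agent.J4Type.POuter
open Cfsg.Agent.H856.ThreeM24 Cfsg.Agent.H856.ThreeRho Cfsg.Agent.H856.CentRho
open scoped Pointwise

/-! ### general facts -/

section Gen

variable {G : Type*} [Group G] [Finite G] {p : ℕ} [hpf : Fact p.Prime]

/-- Frattini: elements normalising the image of a Sylow subgroup. -/
theorem exists_normalizer {H : Type*} [Group H] (π : G →* H) (hπ : Function.Surjective π) (P : Sylow p G) {y : H}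
    (hy : y ∈ normalizer (((P : Subgroup G).map π : Subgroup H) : Set H)) :
    ∃ n ∈ normalizer ((P : Subgroup G) : Set G), π n = y := by
  obtain ⟨g, rfl⟩ := hπ y
  let K : Subgroup G := ((P : Subgroup G).map π).comap π
  have h1 : (P : Subgroup G) ≤ K := le_comap_map _ _
  have h2 : ((g • P : Sylow p G) : Subgroup G) ≤ K := by
    intro x hx
    rw [Sylow.coe_subgroup_smul] at hx
    obtain ⟨z, hz, rfl⟩ := hx
    change π (g * z * g⁻¹) ∈ (P : Subgroup G).map π
    rw [map_mul, map_mul, map_inv]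
    exact (mem_normalizer_iff.1 hy (π z)).1 (mem_map_of_mem π hz)
  obtain ⟨k, hk⟩ := MulAction.exists_smul_eq K (P.subtype h1) ((g • P : Sylow p G).subtype h2)
  have hk' : ∀ x : G, x ∈ (P : Subgroup G) → (k : G) * x * (k : G)⁻¹ ∈ ((g • P : Sylow p G) : Subgroup G) := by
    intro x hx
    have h3 : (⟨x, h1 hx⟩ : K) ∈ (P.subtype h1 : Subgroup K) := hx
    have h4 : k * ⟨x, h1 hx⟩ * k⁻¹ ∈ ((k • P.subtype h1 : Sylow p K) : Subgroup K) := by
      rw [Sylow.coe_subgroup_smul]
      exact ⟨_, h3, rfl⟩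
    rw [hk] at h4
    exact h4
  have hkg : (k : G)⁻¹ * g ∈ normalizer ((P : Subgroup G) : Set G) := by
    rw [← inv_mem_iff]
    refine mem_normalizer_fintype ?_
    intro x hx
    have h5 := hk' x hx
    rw [Sylow.coe_subgroup_smul] at h5
    obtain ⟨z, hz, hzx⟩ := h5
    have h6 : g * z * g⁻¹ = (k : G) * x * (k : G)⁻¹ := hzx
    have h7 : ((k : G)⁻¹ * g)⁻¹ * x * ((k : G)⁻¹ * g)⁻¹⁻¹ = z := by
      calc ((k : G)⁻¹ * g)⁻¹ * x * ((k : G)⁻¹ * g)⁻¹⁻¹ = g⁻¹ * ((k : G) * x * (k : G)⁻¹) * g := by group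
        _ = z := by rw [← h6]; group
    rw [h7]
    exact hz
  obtain ⟨a, ha, hak⟩ : π (k : G) ∈ (P : Subgroup G).map π := k.2
  refine ⟨a * ((k : G)⁻¹ * g), mul_mem (le_normalizer ha) hkg, ?_⟩
  rw [map_mul, map_mul, map_inv, hak, mul_inv_cancel_left]

/-- a `p`-subgroup `R` of `C` of order `p ^ n`, where `p ^ (n + 1)` does not divide `|C|` and `N(R) ≤ C`, is a Sylow
subgroup of the whole group -/
theorem sylow_of_norm {R C : Subgroup G} {n : ℕ} (hR : Nat.card R = p ^ n) (hRC : R ≤ C) (hC : ¬ p ^ (n + 1) ∣ Nat.card C)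
    (hN : normalizer (R : Set G) ≤ C) : ∃ S : Sylow p G, (S : Subgroup G) = R := by
  have hRp : IsPGroup p R := IsPGroup.of_card hR
  obtain ⟨S, hS⟩ := hRp.exists_le_sylow
  refine ⟨S, ?_⟩
  by_contra hne
  have hlt : R.subgroupOf (S : Subgroup G) < ⊤ := by
    rw [lt_top_iff_ne_top, Ne, subgroupOf_eq_top]
    exact fun h => hne (le_antisymm h hS)
  have hnil : Group.IsNilpotent (S : Subgroup G) := S.isPGroup'.isNilpotent
  have hnc := Group.normalizerCondition_of_isNilpotent (G := (S : Subgroup G)) _ hlt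
  obtain ⟨x, hx, hxR⟩ := SetLike.exists_of_lt hnc
  have hxN : (x : G) ∈ normalizer (R : Set G) := by
    rw [mem_normalizer_iff]
    intro y
    constructor
    · intro hy
      exact (mem_normalizer_iff.1 hx ⟨y, hS hy⟩).1 hy
    · intro hy
      have h1 : y ∈ (S : Subgroup G) := by
        have h2 : y = (x : G)⁻¹ * ((x : G) * y * (x : G)⁻¹) * x := by group
        rw [h2]
        exact mul_mem (mul_mem (inv_mem x.2) (hS hy)) x.2
      exact (mem_normalizer_iff.1 hx ⟨y, h1⟩).2 hy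
  have hD : IsPGroup p ((S : Subgroup G) ⊓ C : Subgroup G) := S.isPGroup'.to_le inf_le_left
  obtain ⟨k, hk⟩ := IsPGroup.iff_card.1 hD
  have hRD : R ≤ (S : Subgroup G) ⊓ C := le_inf hS hRC
  have h1 : n ≤ k := by
    have h2 := card_dvd_of_le hRD
    rw [hR, hk] at h2
    exact (Nat.pow_dvd_pow_iff_le_right hpf.out.one_lt).1 h2
  rcases h1.eq_or_lt with h2 | h2
  · apply hxR
    have h3 : R = (S : Subgroup G) ⊓ C := eq_of_le_of_card_ge hRD (by rw [hR, hk, h2])
    change (x : G) ∈ R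
    rw [h3]
    exact ⟨x.2, hN hxN⟩
  · apply hC
    have h3 : p ^ (n + 1) ∣ Nat.card ((S : Subgroup G) ⊓ C : Subgroup G) := by
      rw [hk]
      exact pow_dvd_pow p h2
    exact h3.trans (card_dvd_of_le inf_le_right)

end Gen

/-! ### the group `R1` -/

theorem m2_m1 : m2 * m1 = m1 * m2 * w0 :=
  eq_of_tab ((isTab_mk _ _).mul (isTab_mk _ _)) (((isTab_mk _ _).mul (isTab_mk _ _)).mul (isTab_mk _ _))
    (by decide +kernel)

theorem m2_cube : m2 * m2 * m2 = 1 :=
  eq_of_tab (((isTab_mk _ _).mul (isTab_mk _ _)).mul (isTab_mk _ _)) isTab_one (by decide +kernel)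

theorem w0_tet : (w0 : Equiv.Perm GolayPt) • tet 0 = tet 0 := smul_tet fun c => ⟨_, w0_mog 0 c⟩

variable {K : Type*} [Group K] (F : J4Type.Compl K)

theorem phi_w0 : F.φ w0 = F.ρ ∨ F.φ w0 = F.ρ⁻¹ := by
  obtain ⟨g, hg, rfl | rfl⟩ := exists_g F
  · exact Or.inl hg
  · right
    rw [← hg, wi_eq, map_inv, inv_inv]

theorem zp_w0 : zpowers (F.φ w0) = zpowers F.ρ := by
  rcases phi_w0 F with h | h
  · rw [h]
  · rw [h, zpowers_inv]

theorem rel : Heis.Rel (F.φ m1) (F.φ m2) (F.φ w0) where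
  a3 := by rw [← map_pow, pow_succ, pow_two, m1_cube, map_one]
  b3 := by rw [← map_pow, pow_succ, pow_two, m2_cube, map_one]
  w3 := by rw [← map_pow, pow_succ, pow_two, w0_cube, map_one]
  aw := by rw [← map_mul, ← map_mul, comm1]
  bw := by rw [← map_mul, ← map_mul, comm2]
  ba := by rw [← map_mul, ← map_mul, ← map_mul, m2_m1]
  w1 := by
    intro h
    apply rho_ne F
    rcases phi_w0 F with h1 | h1
    · rw [← h1, h]
    · rw [← inv_inv F.ρ, ← h1, h, inv_one]

/-- the Sylow 3-subgroup -/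
noncomputable def R1 : Subgroup K := Heis.gp (rel F)

theorem card_R1 : Nat.card (R1 F) = 27 := Heis.card (rel F)

theorem cube_R1 {x : K} (hx : x ∈ R1 F) : x ^ 3 = 1 := Heis.cube (rel F) hx

theorem rho_mem : F.ρ ∈ R1 F := by
  have h1 : F.ρ ∈ zpowers (F.φ w0) := by rw [zp_w0]; exact mem_zpowers _
  have h2 : zpowers (F.φ w0) ≤ R1 F := by rw [zpowers_le]; exact Heis.w_mem (rel F)
  exact h2 h1

theorem R1_le : R1 F ≤ centralizer ({F.z} : Set K) :=
  Heis.gp_le (rel F) (mem_centralizer_singleton_iff.2 (phi_z F m1_tet))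
    (mem_centralizer_singleton_iff.2 (phi_z F m2_tet)) (mem_centralizer_singleton_iff.2 (phi_z F w0_tet))

theorem not_comm_R1 : ∃ x ∈ R1 F, ∃ y ∈ R1 F, x * y ≠ y * x :=
  ⟨_, Heis.b_mem (rel F), _, Heis.a_mem (rel F), Heis.not_comm (rel F)⟩

theorem norm_R1 [Finite K] : normalizer (R1 F : Set K) ≤ centralizer ({F.z} : Set K) := by
  intro g hg
  have h1 := Heis.norm_le (rel F) hg
  rw [zp_w0] at h1
  exact mem_centralizer_singleton_iff.2 (norm_rho F h1)

/-- `P` as a homomorphism onto `M22 : 2` -/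
noncomputable def Pd : centralizer ({F.z} : Set K) →* M22d :=
  F.P.codRestrict M22d fun c => by rw [← F.P_range]; exact ⟨c, rfl⟩

theorem Pd_surj : Function.Surjective (Pd F) := by
  rintro ⟨w, hw⟩
  rw [← F.P_range] at hw
  obtain ⟨c, rfl⟩ := hw
  exact ⟨c, rfl⟩

theorem Pd_ker : (Pd F).ker = F.P.ker := by
  ext c
  rw [MonoidHom.mem_ker, MonoidHom.mem_ker]
  exact ⟨fun h => congrArg Subtype.val h, fun h => Subtype.ext h⟩

theorem card_C [Finite K] : Nat.card (centralizer ({F.z} : Set K)) = Nat.card F.P.ker * 887040 := by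
  rw [← card_mul_index F.P.ker, index_ker, F.P_range, NormT.card_D]

theorem not_dvd_C [Finite K] : ¬ 81 ∣ Nat.card (centralizer ({F.z} : Set K)) := by
  intro h
  rw [card_C, show 887040 = 9 * 98560 by norm_num, show Nat.card F.P.ker * (9 * 98560) = Nat.card F.P.ker * 98560 * 9 by ring] at h
  have h1 : 9 ∣ Nat.card F.P.ker * 98560 := Nat.dvd_of_mul_dvd_mul_right (k := 9) (by norm_num) h
  exact card_ker F.toCent ((Nat.Coprime.dvd_mul_right (by norm_num)).1 h1)

theorem exists_sylow [Finite K] [Fact (Nat.Prime 3)] : ∃ S : Sylow 3 K, (S : Subgroup K) = R1 F :=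
  sylow_of_norm (p := 3) (n := 3) (by rw [card_R1]; norm_num) (R1_le F) (by
    have h := not_dvd_C F
    norm_num
    exact h) (norm_R1 F)

theorem not_dvd_index [Finite K] : ¬ 3 ∣ (centralizer ({F.z} : Set K)).index := by
  have : Fact (Nat.Prime 3) := ⟨Nat.prime_three⟩
  obtain ⟨S, hS⟩ := exists_sylow F
  intro h
  have h1 : (centralizer ({F.z} : Set K)).index ∣ (S : Subgroup K).index := index_dvd_of_le (hS ▸ R1_le F)
  exact S.not_dvd_index (h.trans h1)

/-! ### one class of elements of order 3 -/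

/-- `ρ` is conjugate to its inverse -/
theorem rho_inv : ∃ g : K, g * F.ρ * g⁻¹ = F.ρ⁻¹ := by
  have h1 : (u : Equiv.Perm GolayPt) ∈ F.P.range := by rw [F.P_range]; exact u_mem
  obtain ⟨c, hc⟩ := h1
  have h2 : F.P c none ≠ none := by
    rw [hc]
    have h3 : (u : Equiv.Perm GolayPt) none = some 0 := apply_eq tab_u (by decide +kernel)
    rw [h3]
    decide
  obtain ⟨x, -, h3⟩ := NormRho.exists_inv F.toHex c h2
  exact ⟨_, h3⟩

include F in
/-- **all elements of order 3 are conjugate** -/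
theorem one_class [Finite K] {x y : K} (hx : orderOf x = 3) (hy : orderOf y = 3) : IsConj x y := by
  have key : ∀ x : K, orderOf x = 3 → IsConj x F.ρ := by
    intro x hx
    obtain ⟨g, h | h⟩ := conj_rho F (not_dvd_index F) hx
    · exact isConj_iff.2 ⟨g, h⟩
    · obtain ⟨k, hk⟩ := rho_inv F
      refine (isConj_iff.2 ⟨g, h⟩ : IsConj x F.ρ⁻¹).trans ?_
      exact (isConj_iff.2 ⟨k, hk⟩ : IsConj F.ρ F.ρ⁻¹).symm
  exact (key x hx).trans (key y hy).symm

/-! ### the normaliser of `R1` -/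

/-- `R1 ∩ Q = 1` -/
theorem R1_Q {x : K} (hx : x ∈ R1 F) (hQ : x ∈ F.Q) : x = 1 := by
  obtain ⟨n, hn⟩ := Q2 F.toCent ⟨x, hQ⟩
  have hn' : x ^ 2 ^ n = 1 := congrArg Subtype.val hn
  have h4 : orderOf x ∣ Nat.gcd (2 ^ n) 3 :=
    Nat.dvd_gcd (orderOf_dvd_of_pow_eq_one hn') (orderOf_dvd_of_pow_eq_one (cube_R1 F hx))
  rw [Nat.Coprime.pow_left n (by norm_num)] at h4
  exact orderOf_eq_one_iff.1 (Nat.dvd_one.1 h4)

/-- elements of `Q` normalising `R1` -/
theorem Q_norm {q : K} (hq : q ∈ F.Q) (hn : q ∈ normalizer (R1 F : Set K)) : q = 1 ∨ q = F.z := by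
  apply F.ρ_fix q hq
  have h1 : q * F.ρ * q⁻¹ * F.ρ⁻¹ ∈ R1 F := mul_mem ((mem_normalizer_iff.1 hn F.ρ).1 (rho_mem F)) (inv_mem (rho_mem F))
  have h2 : q * F.ρ * q⁻¹ * F.ρ⁻¹ ∈ F.Q := by
    have h3 : q * F.ρ * q⁻¹ * F.ρ⁻¹ = q * (F.ρ * q⁻¹ * F.ρ⁻¹) := by group
    rw [h3]
    exact mul_mem hq (F.Q_conj F.ρ F.ρ_comm _ (inv_mem hq))
  have h3 := R1_Q F h1 h2
  calc F.ρ * q = (q * F.ρ * q⁻¹ * F.ρ⁻¹)⁻¹ * (q * F.ρ) := by group
    _ = q * F.ρ := by rw [h3]; group

theorem orderOf_zrho : orderOf (F.z * F.ρ) = 6 := by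
  have h : Commute F.z F.ρ := F.ρ_comm.symm
  rw [h.orderOf_mul_eq_mul_orderOf_of_coprime (by rw [F.z_order, F.ρ_order]; norm_num), F.z_order, F.ρ_order]

/-- the kernel of `P` in the normaliser of `R1` -/
theorem ker_norm [Finite K] {c : centralizer ({F.z} : Set K)} (hc : (c : K) ∈ normalizer (R1 F : Set K)) :
    F.P c = 1 ↔ (c : K) ∈ zpowers (F.z * F.ρ) := by
  have hz3 : (F.z * F.ρ) ^ 3 = F.z := by
    have h : Commute F.z F.ρ := F.ρ_comm.symm
    rw [h.mul_pow, rho3, mul_one, pow_succ, pow_two, zz, one_mul]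
  have hz4 : (F.z * F.ρ) ^ 4 = F.ρ := by
    have h : Commute F.z F.ρ := F.ρ_comm.symm
    rw [h.mul_pow, pow_succ F.ρ 3, rho3, one_mul, show (4 : ℕ) = 2 + 2 by norm_num, pow_add, pow_two, zz, one_mul, one_mul]
  have hzm : F.z ∈ zpowers (F.z * F.ρ) := by
    have h := pow_mem (mem_zpowers (F.z * F.ρ)) 3
    rwa [hz3] at h
  have hρm : F.ρ ∈ zpowers (F.z * F.ρ) := by
    have h := pow_mem (mem_zpowers (F.z * F.ρ)) 4
    rwa [hz4] at h
  constructor
  · intro h
    obtain ⟨q, hq, i, h1⟩ := (F.P_ker c).1 h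
    have h2 : q ∈ normalizer (R1 F : Set K) := by
      have h3 : q = (c : K) * (F.ρ ^ i)⁻¹ := by rw [h1]; group
      rw [h3]
      exact mul_mem hc (inv_mem (le_normalizer (pow_mem (rho_mem F) i)))
    rw [h1]
    rcases Q_norm F hq h2 with rfl | rfl
    · rw [one_mul]
      exact pow_mem hρm i
    · exact mul_mem hzm (pow_mem hρm i)
  · intro h
    obtain ⟨n, hn⟩ := mem_powers_iff_mem_zpowers.2 h
    rw [F.P_ker]
    have h1 : (F.z * F.ρ) ^ n = F.z ^ n * F.ρ ^ n := (show Commute F.z F.ρ from F.ρ_comm.symm).mul_pow n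
    exact ⟨F.z ^ n, pow_mem F.z_mem_Q n, n, by rw [← hn, ← h1]⟩

theorem zrho_norm : zpowers (F.z * F.ρ) ≤ normalizer (R1 F : Set K) := by
  rw [zpowers_le]
  apply mul_mem
  · rw [mem_normalizer_iff]
    have h1 : ∀ y ∈ R1 F, F.z * y * F.z⁻¹ = y := by
      intro y hy
      have h2 := mem_centralizer_singleton_iff.1 (R1_le F hy)
      rw [← h2, mul_inv_cancel_right]
    intro y
    refine ⟨fun hy => by rw [h1 y hy]; exact hy, fun hy => ?_⟩
    have h2 := h1 _ hy
    have h3 : F.z * y * F.z⁻¹ = y := by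
      have h4 : F.z * (F.z * y * F.z⁻¹) * F.z⁻¹ = F.z * y * F.z⁻¹ := h2
      have h5 := mul_right_cancel h4
      exact mul_left_cancel h5
    rw [h3] at hy
    exact hy
  · exact le_normalizer (rho_mem F)

variable [Finite K] [Fact (Nat.Prime 3)]

/-- `R1` as a Sylow subgroup of `C(z)` -/
noncomputable def RC : Sylow 3 (centralizer ({F.z} : Set K)) :=
  (exists_sylow F).choose.subtype ((exists_sylow F).choose_spec.le.trans (R1_le F))

theorem RC_coe : (RC F : Subgroup (centralizer ({F.z} : Set K))) = (R1 F).subgroupOf _ := by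
  change ((exists_sylow F).choose : Subgroup K).subgroupOf _ = _
  rw [(exists_sylow F).choose_spec]

theorem mem_norm_RC {c : centralizer ({F.z} : Set K)} :
    c ∈ normalizer ((RC F : Subgroup (centralizer ({F.z} : Set K))) : Set (centralizer ({F.z} : Set K))) ↔
      (c : K) ∈ normalizer (R1 F : Set K) := by
  rw [RC_coe, mem_normalizer_iff, mem_normalizer_iff]
  constructor
  · intro h y
    constructor
    · intro hy
      exact (h ⟨y, R1_le F hy⟩).1 hy
    · intro hy
      have h1 : y ∈ centralizer ({F.z} : Set K) := by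
        have h2 : y = (c : K)⁻¹ * ((c : K) * y * (c : K)⁻¹) * c := by group
        rw [h2]
        exact mul_mem (mul_mem (inv_mem c.2) (R1_le F hy)) c.2
      exact (h ⟨y, h1⟩).2 hy
  · intro h y
    exact h y

/-- the image of `R1` is a Sylow 3-subgroup of `M22 : 2` -/
theorem card_map : Nat.card ((RC F : Subgroup (centralizer ({F.z} : Set K))).map (Pd F)) = 9 := by
  have hi : ¬ 3 ∣ ((RC F : Subgroup (centralizer ({F.z} : Set K))).map (Pd F)).index := by
    intro h
    have h1 := index_map_dvd (RC F : Subgroup (centralizer ({F.z} : Set K))) (Pd_surj F)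
    exact (RC F).not_dvd_index (h.trans h1)
  have hp : IsPGroup 3 ((RC F : Subgroup (centralizer ({F.z} : Set K))).map (Pd F)) := (RC F).isPGroup'.map _
  obtain ⟨k, hk⟩ := IsPGroup.iff_card.1 hp
  have h1 := card_mul_index ((RC F : Subgroup (centralizer ({F.z} : Set K))).map (Pd F))
  rw [NormT.card_D, hk] at h1
  rw [hk]
  have hk2 : k ≤ 2 := by
    by_contra hcon
    have h2 : 3 ^ 3 ∣ 887040 := by
      rw [← h1]
      exact (pow_dvd_pow 3 (by omega)).trans (dvd_mul_right _ _)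
    norm_num at h2
  interval_cases k
  · exfalso
    apply hi
    rw [pow_zero, one_mul] at h1
    rw [h1]
    norm_num
  · exfalso
    apply hi
    have h2 : ((RC F : Subgroup (centralizer ({F.z} : Set K))).map (Pd F)).index = 295680 := by omega
    rw [h2]
    norm_num
  · norm_num

/-- the Sylow 3-subgroups of `M22 : 2` have normalisers of order 144 -/
theorem card_norm_sylow (R : Sylow 3 M22d) : Nat.card (normalizer ((R : Subgroup M22d) : Set M22d)) = 144 := by
  have h2 : (normalizer ((NormT.TS : Subgroup M22d) : Set M22d)).index =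
      (normalizer ((R : Subgroup M22d) : Set M22d)).index :=
    NormT.TS.card_eq_index_normalizer.symm.trans R.card_eq_index_normalizer
  have h3 := card_mul_index (normalizer ((NormT.TS : Subgroup M22d) : Set M22d))
  have h4 := card_mul_index (normalizer ((R : Subgroup M22d) : Set M22d))
  have h5 : Nat.card (normalizer ((NormT.TS : Subgroup M22d) : Set M22d)) = 144 := NormT.card_norm_T
  rw [← h2, ← h3, h5] at h4
  exact Nat.eq_of_mul_eq_mul_right (Nat.pos_of_ne_zero index_ne_zero_of_finite) h4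

/-- **the normaliser of `R1` has order 864** -/
theorem card_norm_R1 : Nat.card (normalizer (R1 F : Set K)) = 864 := by
  let C := centralizer ({F.z} : Set K)
  let N : Subgroup C := normalizer ((RC F : Subgroup C) : Set C)
  have hNK : N.map C.subtype = normalizer (R1 F : Set K) := by
    ext x
    constructor
    · rintro ⟨c, hc, rfl⟩
      exact (mem_norm_RC F).1 hc
    · intro hx
      exact ⟨⟨x, norm_R1 F hx⟩, (mem_norm_RC F).2 hx, rfl⟩
  rw [← hNK, card_map_of_injective (subtype_injective C)]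
  let f : N →* M22d := (Pd F).comp N.subtype
  have hcard : Nat.card N = Nat.card f.ker * Nat.card f.range := by
    rw [← card_mul_index f.ker, index_ker]
  have hker : Nat.card f.ker = 6 := by
    have h1 : (f.ker.map N.subtype).map C.subtype = zpowers (F.z * F.ρ) := by
      ext x
      constructor
      · rintro ⟨_, ⟨n, hn, rfl⟩, rfl⟩
        have h2 : F.P (n : C) = 1 := congrArg Subtype.val hn
        exact (ker_norm F ((mem_norm_RC F).1 n.2)).1 h2
      · intro hx
        have h2 : x ∈ normalizer (R1 F : Set K) := zrho_norm F hx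
        have h3 : (⟨x, norm_R1 F h2⟩ : C) ∈ N := (mem_norm_RC F).2 h2
        refine ⟨⟨x, norm_R1 F h2⟩, ⟨⟨_, h3⟩, ?_, rfl⟩, rfl⟩
        apply Subtype.ext
        exact (ker_norm F (c := ⟨x, norm_R1 F h2⟩) h2).2 hx
    have h2 : Nat.card ((f.ker.map N.subtype).map C.subtype) = Nat.card f.ker := by
      rw [card_map_of_injective (subtype_injective C), card_map_of_injective (subtype_injective N)]
    rw [← h2, h1, Nat.card_zpowers, orderOf_zrho]
  have hrange : f.range = normalizer (((RC F : Subgroup C).map (Pd F) : Subgroup M22d) : Set M22d) := by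
    apply le_antisymm
    · rintro _ ⟨n, rfl⟩
      exact le_normalizer_map (Pd F) ⟨(n : C), n.2, rfl⟩
    · intro y hy
      obtain ⟨n, hn, rfl⟩ := exists_normalizer (Pd F) (Pd_surj F) (RC F) hy
      exact ⟨⟨n, hn⟩, rfl⟩
  have hr : Nat.card f.range = 144 := by
    have h9 : Nat.card ((RC F : Subgroup C).map (Pd F)) = 3 ^ Nat.factorization (Nat.card M22d) 3 := by
      rw [card_map, NormT.card_D]
      have h : Nat.factorization 887040 3 = 2 := by
        rw [Nat.factorization_def _ Nat.prime_three]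
        have h1 : (887040 : ℕ) = 3 ^ 2 * 98560 := by norm_num
        rw [h1, padicValNat.mul (by norm_num) (by norm_num), padicValNat.prime_pow,
          padicValNat.eq_zero_of_not_dvd (by norm_num)]
      rw [h]
      norm_num
    rw [hrange]
    exact card_norm_sylow (Sylow.ofCard _ h9)
  rw [hcard, hker, hr]

/-! ### arbitrary Sylow subgroups in `C(z)` -/

theorem exists_conj (R : Sylow 3 K) (hR : (R : Subgroup K) ≤ centralizer ({F.z} : Set K)) :
    ∃ g ∈ centralizer ({F.z} : Set K), (R : Subgroup K) = (R1 F).map (MulAut.conj g).toMonoidHom := by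
  obtain ⟨g, hg⟩ := MulAction.exists_smul_eq (centralizer ({F.z} : Set K)) (RC F) (R.subtype hR)
  refine ⟨g, g.2, ?_⟩
  have h1 : (R.subtype hR : Subgroup (centralizer ({F.z} : Set K))) =
      (RC F : Subgroup (centralizer ({F.z} : Set K))).map (MulAut.conj g).toMonoidHom := by
    rw [← hg, Sylow.coe_subgroup_smul]
    rfl
  ext x
  constructor
  · intro hx
    have h2 : (⟨x, hR hx⟩ : centralizer ({F.z} : Set K)) ∈ (R.subtype hR : Subgroup (centralizer ({F.z} : Set K))) := hx
    rw [h1] at h2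
    obtain ⟨y, hy, hyx⟩ := h2
    have hy' : y ∈ (RC F : Subgroup (centralizer ({F.z} : Set K))) := hy
    rw [RC_coe] at hy'
    exact ⟨y, hy', congrArg Subtype.val hyx⟩
  · rintro ⟨y, hy, rfl⟩
    have h2 : g * ⟨y, R1_le F hy⟩ * g⁻¹ ∈ (R.subtype hR : Subgroup (centralizer ({F.z} : Set K))) := by
      rw [h1]
      refine ⟨⟨y, R1_le F hy⟩, ?_, rfl⟩
      change (⟨y, R1_le F hy⟩ : centralizer ({F.z} : Set K)) ∈ (RC F : Subgroup (centralizer ({F.z} : Set K)))
      rw [RC_coe]
      exact hy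
    exact h2

/-- **the structure of the Sylow 3-subgroups** -/
theorem structure_R (R : Sylow 3 K) (hR : (R : Subgroup K) ≤ centralizer ({F.z} : Set K)) :
    IsExtraspecial 3 ↥(R : Subgroup K) ∧ Nat.card ↥(R : Subgroup K) = 27 ∧ Monoid.exponent ↥(R : Subgroup K) = 3 ∧
    normalizer ((R : Subgroup K) : Set K) ≤ centralizer ({F.z} : Set K) ∧
    Nat.card ↥(normalizer ((R : Subgroup K) : Set K)) = 864 := by
  obtain ⟨g, hg, h⟩ := exists_conj F R hR
  have hc : Nat.card ↥(R : Subgroup K) = 27 := by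
    rw [h, card_map_of_injective (MulAut.conj g).injective, card_R1]
  have hmem : ∀ x ∈ R1 F, g * x * g⁻¹ ∈ (R : Subgroup K) := fun x hx => by
    rw [h]; exact ⟨x, hx, rfl⟩
  obtain ⟨x, hx, y, hy, hxy⟩ := not_comm_R1 F
  have he := Heis.extraspecial (R := ↥(R : Subgroup K)) hc
    ⟨⟨_, hmem x hx⟩, ⟨_, hmem y hy⟩, fun e => hxy (by
      have h1 : g * x * g⁻¹ * (g * y * g⁻¹) = g * y * g⁻¹ * (g * x * g⁻¹) := congrArg Subtype.val e
      calc x * y = g⁻¹ * (g * x * g⁻¹ * (g * y * g⁻¹)) * g := by group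
        _ = g⁻¹ * (g * y * g⁻¹ * (g * x * g⁻¹)) * g := by rw [h1]
        _ = y * x := by group)⟩
    (by
      rintro ⟨w, hw⟩
      apply Subtype.ext
      change w ^ 3 = 1
      rw [h] at hw
      obtain ⟨v, hv, rfl⟩ := hw
      change (g * v * g⁻¹) ^ 3 = 1
      rw [conj_pow, cube_R1 F hv, mul_one, mul_inv_cancel])
  have hN : normalizer ((R : Subgroup K) : Set K) = (normalizer (R1 F : Set K)).map (MulAut.conj g).toMonoidHom := by
    rw [h]
    exact (map_equiv_normalizer_eq (R1 F) (MulAut.conj g)).symm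
  refine ⟨he.1, hc, he.2, ?_, ?_⟩
  · rw [hN]
    rintro _ ⟨v, hv, rfl⟩
    exact mul_mem (mul_mem hg (norm_R1 F hv)) (inv_mem hg)
  · rw [hN, card_map_of_injective (MulAut.conj g).injective, card_norm_R1]

end Cfsg.Agent.H856.SylowThree
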