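import Cfsg.Agent.H856.Tz5

/-!
# `Ω₇(q)`: the statement (helper856)
-/

set_option autoImplicit false
set_option linter.unusedSectionVars false

namespace Cfsg.Agent.H856.Tz

open QuadraticMap Matrix Cfsg Cfsg.Geo Cfsg.Agent.H915.LD
open Cfsg.Agent.LieClassical.OrthCore

universe u v

theorem final (hk : H879.Nine.Known.{u}) {F : Type u} [Field F] [Fintype F] (hodd : Odd (Fintype.card F))
    (H : Subgroup (GL (Unit ⊕ (Fin 3 ⊕ Fin 3)) F))
    (hH : IsMaximalIn (omegaGL (quadFormOdd 3 F)) H) (hS : InOrthogonalResidualClass H) :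
    ∃ P : Subgroup (GL (Unit ⊕ (Fin 3 ⊕ Fin 3)) F), IsResidualCore H P ∧ Concl P := by
  obtain ⟨P, hP, -⟩ := hS
  obtain ⟨p, hch⟩ := CharP.exists F
  have hp : p.Prime := CharP.char_is_prime F p
  have h2 : (2 : F) ≠ 0 := by
    intro h0
    have h1 : ((2 : ℕ) : F) = 0 := by exact_mod_cast h0
    rw [CharP.cast_eq_zero_iff F p] at h1
    obtain rfl : p = 2 := (Nat.prime_dvd_prime_iff_eq hp Nat.prime_two).1 h1
    have := Fact.mk hp
    obtain ⟨k, -, hk⟩ := FiniteField.card F 2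
    rw [hk, Nat.odd_iff] at hodd
    have : 2 ∣ 2 ^ (k : ℕ) := dvd_pow_self 2 k.ne_zero
    omega
  have hlt := hH.1
  obtain ⟨Q, hQ, hQn⟩ := H883.Bridge.exists_quadraticForm (H883.Bridge.isNondegenerateQuadraticForm_odd hodd 3)
  rw [← hQ] at hH
  have c : C7 p Q H P := ⟨hp, hch, h2, by simp, hQn, hH, hP⟩
  exact ⟨P, hP, c.main hk
    (fun hT => H922.OmGL.not_pomega hodd (by norm_num) hlt hP.le (core_of_residual hP) hT)⟩

end Cfsg.Agent.H856.Tz
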