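import Cfsg.Agent.J4Type.OuterM22

/-!
# `MulAut M22` as the duad stabiliser in `M24`

`autHom : MulAut M22 →* Perm GolayPt`, injective with range the stabiliser `duad` of `{none, some 0}` in `M24`,
inner automorphisms going to `M22`.
-/

set_option autoImplicit false

namespace Cfsg.Agent.H856.AutM22

open Cfsg Cfsg.Agent.J4Type.OuterM22 Cfsg.Agent.BabyM.DuadGen
open Cfsg.Agent.SporadicA.MathieuRecog (mem_M22_iff card_M22 simple_M22)

theorem conj_mem {g m : Equiv.Perm GolayPt} (hg : g ∈ duad) (hm : m ∈ Spor.M22) :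
    g * m * g⁻¹ ∈ Spor.M22 := by
  rw [mem_M22_iff] at hm ⊢
  obtain ⟨hm1, hm2, hm3⟩ := hm
  obtain ⟨h1, h2⟩ := mem_duad.1 hg
  refine ⟨mul_mem (mul_mem h1 hm1) (inv_mem h1), ?_, ?_⟩
  · rcases h2 with ⟨h3, h4⟩ | ⟨h3, h4⟩
    · have h5 : g⁻¹ none = none := by rw [Equiv.Perm.inv_eq_iff_eq, h3]
      rw [Equiv.Perm.mul_apply, Equiv.Perm.mul_apply, h5, hm2, h3]
    · have h5 : g⁻¹ none = some 0 := by rw [Equiv.Perm.inv_eq_iff_eq, h4]
      rw [Equiv.Perm.mul_apply, Equiv.Perm.mul_apply, h5, hm3, h4]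
  · rcases h2 with ⟨h3, h4⟩ | ⟨h3, h4⟩
    · have h5 : g⁻¹ (some 0) = some 0 := by rw [Equiv.Perm.inv_eq_iff_eq, h4]
      rw [Equiv.Perm.mul_apply, Equiv.Perm.mul_apply, h5, hm3, h4]
    · have h5 : g⁻¹ (some 0) = none := by rw [Equiv.Perm.inv_eq_iff_eq, h3]
      rw [Equiv.Perm.mul_apply, Equiv.Perm.mul_apply, h5, hm2, h3]

/-- conjugation by an element of the duad stabiliser -/
def conjAut (g : Equiv.Perm GolayPt) (hg : g ∈ duad) : MulAut Spor.M22 where
  toFun m := ⟨g * m * g⁻¹, conj_mem hg m.2⟩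
  invFun m := ⟨g⁻¹ * m * g, by
    have := conj_mem (inv_mem hg) m.2
    rwa [inv_inv] at this⟩
  left_inv m := Subtype.ext (by show g⁻¹ * (g * (m : Equiv.Perm GolayPt) * g⁻¹) * g = m; group)
  right_inv m := Subtype.ext (by show g * (g⁻¹ * (m : Equiv.Perm GolayPt) * g) * g⁻¹ = m; group)
  map_mul' a b := Subtype.ext (by
    show g * ((a : Equiv.Perm GolayPt) * b) * g⁻¹ = g * a * g⁻¹ * (g * b * g⁻¹); group)

/-- the element of the duad stabiliser inducing an automorphism -/
noncomputable def tau (α : MulAut Spor.M22) : Equiv.Perm GolayPt := (aut_M22 α).choose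

theorem tau_mem (α : MulAut Spor.M22) : tau α ∈ duad := (aut_M22 α).choose_spec.1.1

theorem tau_spec (α : MulAut Spor.M22) (g : Spor.M22) :
    (α g : Equiv.Perm GolayPt) = tau α * g * (tau α)⁻¹ := (aut_M22 α).choose_spec.1.2 g

theorem tau_unique {α : MulAut Spor.M22} {τ : Equiv.Perm GolayPt} (h1 : τ ∈ duad)
    (h2 : ∀ g : Spor.M22, (α g : Equiv.Perm GolayPt) = τ * g * τ⁻¹) : tau α = τ :=
  ((aut_M22 α).choose_spec.2 τ ⟨h1, h2⟩).symm

/-- the embedding of the automorphism group of `M22` -/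
noncomputable def autHom : MulAut Spor.M22 →* Equiv.Perm GolayPt :=
  MonoidHom.mk' tau (fun α β => tau_unique (mul_mem (tau_mem α) (tau_mem β)) (fun g => by
    rw [MulAut.mul_apply, tau_spec, tau_spec, mul_inv_rev]
    simp only [mul_assoc]))

theorem autHom_apply (α : MulAut Spor.M22) : autHom α = tau α := rfl

theorem autHom_injective : Function.Injective autHom := by
  rw [injective_iff_map_eq_one]
  intro α h
  rw [autHom_apply] at h
  ext1 g
  apply Subtype.ext
  rw [tau_spec, h, one_mul, inv_one, mul_one]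
  rfl

theorem autHom_range : autHom.range = duad := by
  ext g
  constructor
  · rintro ⟨α, rfl⟩
    exact tau_mem α
  · intro hg
    exact ⟨conjAut g hg, tau_unique hg (fun m => rfl)⟩

/-- the order of the automorphism group of `M22` -/
theorem card_aut : Nat.card (MulAut Spor.M22) = 887040 := by
  rw [← card_duad, ← autHom_range]
  exact Nat.card_congr (MonoidHom.ofInjective autHom_injective).toEquiv

theorem relIndex_M22 : Spor.M22.relIndex duad = 2 := by
  have h := (Spor.M22.subgroupOf duad).card_mul_index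
  rw [Nat.card_congr (Subgroup.subgroupOfEquivOfLe M22_le_duad).toEquiv, card_M22, card_duad] at h
  show (Spor.M22.subgroupOf duad).index = 2
  omega

end Cfsg.Agent.H856.AutM22
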