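import Mathlib
import Cfsg.Prelude.Def_Transfer

/-!
# An automorphism of order 3 without fixed points forces plus type

`exists_plus` : a group `Q` of order `2^13` with `Q/⟨z⟩` elementary abelian, `Q' ≤ ⟨z⟩`, and an
automorphism of order 3 whose fixed points are `1`, `z` has an elementary abelian subgroup of
order `2^7`.
-/

set_option autoImplicit false

namespace Cfsg.Agent.H856.Plus

variable {Q : Type*} [Group Q]

/-- elementwise elementary abelian -/
def El (A : Subgroup Q) : Prop := (∀ a ∈ A, a * a = 1) ∧ ∀ a ∈ A, ∀ b ∈ A, a * b = b * a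

/-- adjoin a commuting involution -/
theorem exists_adj [Finite Q] {A : Subgroup Q} (hA : El A) {x : Q} (hx : x ∉ A) (hxx : x * x = 1)
    (hc : ∀ a ∈ A, a * x = x * a) :
    ∃ B : Subgroup Q, A ≤ B ∧ x ∈ B ∧ El B ∧ Nat.card B = 2 * Nat.card A ∧
      ∀ b ∈ B, b ∈ A ∨ ∃ a ∈ A, b = a * x := by
  have key : ∀ b : Q, b * x ∈ A → ∃ a ∈ A, b = a * x := fun b hb =>
    ⟨b * x, hb, by rw [mul_assoc, hxx, mul_one]⟩
  let B : Subgroup Q :=
    { carrier := {b | b ∈ A ∨ b * x ∈ A}
      one_mem' := Or.inl (one_mem _)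
      mul_mem' := by
        rintro a b (ha | ha) (hb | hb)
        · exact Or.inl (mul_mem ha hb)
        · right
          show a * b * x ∈ A
          rw [mul_assoc]; exact mul_mem ha hb
        · right
          show a * b * x ∈ A
          rw [mul_assoc, hc b hb, ← mul_assoc]; exact mul_mem ha hb
        · left
          obtain ⟨a', ha', rfl⟩ := key a ha
          obtain ⟨b', hb', rfl⟩ := key b hb
          have : a' * x * (b' * x) = a' * b' := by
            rw [mul_assoc, ← mul_assoc x, ← hc b' hb', mul_assoc b', hxx, mul_one]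
          rw [this]
          exact mul_mem ha' hb'
      inv_mem' := by
        rintro a (ha | ha)
        · exact Or.inl (inv_mem ha)
        · right
          show a⁻¹ * x ∈ A
          obtain ⟨a', ha', rfl⟩ := key a ha
          have : (a' * x)⁻¹ * x = a'⁻¹ := by
            have hx' : x⁻¹ = x := inv_eq_of_mul_eq_one_left hxx
            rw [mul_inv_rev, hx', ← hc _ (inv_mem ha'), mul_assoc, hxx, mul_one]
          rw [this]
          exact inv_mem ha' }
  have hmem : ∀ b, b ∈ B ↔ b ∈ A ∨ b * x ∈ A := fun b => Iff.rfl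
  have hAB : A ≤ B := fun a ha => Or.inl ha
  have hxB : x ∈ B := Or.inr (by rw [hxx]; exact one_mem _)
  refine ⟨B, hAB, hxB, ⟨?_, ?_⟩, ?_, ?_⟩
  · intro b hb
    rcases (hmem b).1 hb with hb | hb
    · exact hA.1 b hb
    · obtain ⟨a, ha, rfl⟩ := key b hb
      rw [mul_assoc, ← mul_assoc x, ← hc a ha, mul_assoc a, hxx, mul_one]
      exact hA.1 a ha
  · intro a ha b hb
    have com : ∀ a ∈ A, ∀ b ∈ A, Commute a b := fun a ha b hb => hA.2 a ha b hb
    have comx : ∀ a ∈ A, Commute a x := fun a ha => hc a ha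
    rcases (hmem a).1 ha with ha | ha <;> rcases (hmem b).1 hb with hb | hb
    · exact hA.2 a ha b hb
    · obtain ⟨b', hb', rfl⟩ := key b hb
      exact ((com a ha b' hb').mul_right (comx a ha)).eq
    · obtain ⟨a', ha', rfl⟩ := key a ha
      exact ((com b hb a' ha').mul_right (comx b hb)).eq.symm
    · obtain ⟨a', ha', rfl⟩ := key a ha
      obtain ⟨b', hb', rfl⟩ := key b hb
      exact (Commute.mul_left ((com a' ha' b' hb').mul_right (comx a' ha'))
        ((comx b' hb').symm.mul_right (Commute.refl x))).eq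
  · have h1 : (A.subgroupOf B).index = 2 := by
      rw [Subgroup.index_eq_two_iff]
      refine ⟨⟨x, hxB⟩, fun b => ?_⟩
      rw [Subgroup.mem_subgroupOf, Subgroup.mem_subgroupOf]
      show Xor ((b : Q) * x ∈ A) ((b : Q) ∈ A)
      rcases (hmem b).1 b.2 with hb | hb
      · right
        refine ⟨hb, fun h => hx ?_⟩
        have := mul_mem (inv_mem hb) h
        rwa [inv_mul_cancel_left] at this
      · left
        refine ⟨hb, fun h => hx ?_⟩
        have := mul_mem (inv_mem h) hb
        rwa [inv_mul_cancel_left] at this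
    have h2 := (A.subgroupOf B).card_mul_index
    rw [h1, Nat.card_congr (Subgroup.subgroupOfEquivOfLe hAB).toEquiv] at h2
    omega
  · intro b hb
    rcases (hmem b).1 hb with hb | hb
    · exact Or.inl hb
    · exact Or.inr (key b hb)

/-- the centraliser of an element has index at most 2 -/
theorem card_inf_cent [Finite Q] {z : Q} (hz : z * z = 1) (hcz : ∀ x, x * z = z * x)
    (hcomm : ∀ x y : Q, x * y = y * x ∨ x * y = z * (y * x)) (W : Subgroup Q) (x : Q) :
    Nat.card W ≤ 2 * Nat.card (W ⊓ Subgroup.centralizer ({x} : Set Q) : Subgroup Q) := by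
  set D : Subgroup Q := W ⊓ Subgroup.centralizer ({x} : Set Q) with hD
  have hDW : D ≤ W := inf_le_left
  have hmem : ∀ w, w ∈ D ↔ w ∈ W ∧ w * x = x * w := by
    intro w
    rw [hD, Subgroup.mem_inf, Subgroup.mem_centralizer_singleton_iff]
  by_cases h : ∀ w ∈ W, w * x = x * w
  · have : W ≤ D := fun w hw => (hmem w).2 ⟨hw, h w hw⟩
    have := Subgroup.card_le_of_le this
    omega
  · push Not at h
    obtain ⟨w0, hw0, hne⟩ := h
    have h1 : (D.subgroupOf W).index = 2 := by
      rw [Subgroup.index_eq_two_iff]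
      refine ⟨⟨w0, hw0⟩, fun b => ?_⟩
      rw [Subgroup.mem_subgroupOf, Subgroup.mem_subgroupOf]
      show Xor ((b : Q) * w0 ∈ D) ((b : Q) ∈ D)
      rw [hmem, hmem]
      have e0 : w0 * x = z * (x * w0) := (hcomm w0 x).resolve_left hne
      rcases hcomm b x with hb | hb
      · right
        refine ⟨⟨b.2, hb⟩, ?_⟩
        rintro ⟨-, h2⟩
        apply hne
        have h3 : (b : Q) * (w0 * x) = b * (x * w0) := by
          rw [← mul_assoc, h2, ← mul_assoc, ← mul_assoc, hb]
        exact mul_left_cancel h3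
      · left
        refine ⟨⟨W.mul_mem b.2 hw0, ?_⟩, ?_⟩
        · calc (b : Q) * w0 * x = b * (z * (x * w0)) := by rw [mul_assoc, e0]
            _ = z * (b * x * w0) := by rw [← mul_assoc, hcz, mul_assoc, ← mul_assoc (b : Q)]
            _ = z * (z * (x * b) * w0) := by rw [hb]
            _ = z * z * (x * b * w0) := by simp only [mul_assoc]
            _ = x * (b * w0) := by rw [hz, one_mul, mul_assoc]
        · rintro ⟨-, h2⟩
          rw [hb] at h2
          apply hne
          have hz1 : z = 1 := by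
            have := mul_right_cancel (b := x * (b : Q)) (h2.trans (one_mul _).symm)
            exact this
          rw [e0, hz1, one_mul]
    have h2 := (D.subgroupOf W).card_mul_index
    rw [h1, Nat.card_congr (Subgroup.subgroupOfEquivOfLe hDW).toEquiv] at h2
    omega

/-- there is an involution outside `A` centralising `A`, if the centraliser is large -/
theorem exists_invol [Finite Q] {z : Q} (hz : z * z = 1) (hcz : ∀ x, x * z = z * x)
    (hsq : ∀ x : Q, x * x = 1 ∨ x * x = z)
    (hcomm : ∀ x y : Q, x * y = y * x ∨ x * y = z * (y * x)) {A : Subgroup Q}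
    (hcard : 8 * Nat.card A ≤ Nat.card (Subgroup.centralizer (A : Set Q))) :
    ∃ x ∉ A, x * x = 1 ∧ ∀ a ∈ A, a * x = x * a := by
  by_contra hcon
  push Not at hcon
  -- every element of `C(A) \ A` has square `z`
  have hC : ∀ w, w ∈ Subgroup.centralizer (A : Set Q) ↔ ∀ a ∈ A, a * w = w * a := by
    intro w
    rw [Subgroup.mem_centralizer_iff]
    rfl
  set W := Subgroup.centralizer (A : Set Q) with hW
  have hsq' : ∀ w ∈ W, w ∉ A → w * w = z := by
    intro w hw hwA
    rcases hsq w with h | h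
    · obtain ⟨a, ha, hne⟩ := hcon w hwA h
      exact absurd ((hC w).1 hw a ha) hne
    · exact h
  -- choose `u`
  obtain ⟨u, huW, huA⟩ : ∃ u ∈ W, u ∉ A := by
    by_contra h
    push Not at h
    have := Subgroup.card_le_of_le (show W ≤ A from h)
    have hpos : 0 < Nat.card A := Nat.card_pos
    omega
  have hWu := card_inf_cent hz hcz hcomm W u
  -- the set `A ∪ A u` has `2 |A|` elements
  obtain ⟨v, hv, hvA, hvu⟩ : ∃ v ∈ W ⊓ Subgroup.centralizer ({u} : Set Q), v ∉ A ∧ v * u ∉ A := by
    by_contra h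
    push Not at h
    classical
    have h1 : Nat.card (W ⊓ Subgroup.centralizer ({u} : Set Q) : Subgroup Q) ≤ Nat.card (A ⊕ A) := by
      refine Nat.card_le_card_of_injective (fun v =>
        if hvA : (v : Q) ∈ A then Sum.inl ⟨(v : Q), hvA⟩ else
          Sum.inr ⟨(v : Q) * u, h v v.2 hvA⟩) ?_
      intro a b hab
      apply Subtype.ext
      by_cases ha : (a : Q) ∈ A <;> by_cases hb : (b : Q) ∈ A
      · simpa [ha, hb] using hab
      · simp [ha, hb] at hab
      · simp [ha, hb] at hab
      · simpa [ha, hb] using hab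
    rw [Nat.card_sum] at h1
    have hpos : 0 < Nat.card A := Nat.card_pos
    omega
  rw [Subgroup.mem_inf, Subgroup.mem_centralizer_singleton_iff] at hv
  have h1 := hsq' u huW huA
  have h2 := hsq' v hv.1 hvA
  have h3 : (v * u) * (v * u) = 1 := by
    rw [show v * u * (v * u) = v * (u * v) * u by simp only [mul_assoc], ← hv.2]
    rw [show v * (v * u) * u = (v * v) * (u * u) by simp only [mul_assoc], h1, h2, hz]
  have h4 := hsq' (v * u) (W.mul_mem hv.1 huW) hvu
  rw [h3] at h4
  -- then `z = 1` and squares are trivial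
  rw [← h4] at h1
  obtain ⟨a, ha, hne⟩ := hcon u huA h1
  exact hne ((hC u).1 huW a ha)

section

variable [Finite Q] {z : Q} (σ : Q ≃* Q)

/-- one step: enlarge an invariant elementary abelian subgroup -/
theorem step (hz : z * z = 1) (hz1 : z ≠ 1) (hcz : ∀ x, x * z = z * x)
    (hsq : ∀ x : Q, x * x = 1 ∨ x * x = z)
    (hcomm : ∀ x y : Q, x * y = y * x ∨ x * y = z * (y * x))
    (hσz : σ z = z) (hσ3 : ∀ x, σ (σ (σ x)) = x) (hσ : ∀ x, σ x = x → x = 1 ∨ x = z)
    {A : Subgroup Q} (hA : El A) (hzA : z ∈ A) (hAσ : ∀ a ∈ A, σ a ∈ A) {n : ℕ}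
    (hn : Nat.card Q ≤ n * Nat.card (Subgroup.centralizer (A : Set Q)))
    (hcard : 8 * Nat.card A ≤ Nat.card (Subgroup.centralizer (A : Set Q))) :
    ∃ B : Subgroup Q, El B ∧ z ∈ B ∧ (∀ a ∈ B, σ a ∈ B) ∧
      Nat.card Q ≤ (4 * n) * Nat.card (Subgroup.centralizer (B : Set Q)) ∧
      Nat.card B = 4 * Nat.card A := by
  obtain ⟨x, hxA, hxx, hxc⟩ := exists_invol hz hcz hsq hcomm hcard
  -- fixed points modulo `z`
  have hfix : ∀ y, σ y = y ∨ σ y = y * z → y = 1 ∨ y = z := by
    rintro y (h | h)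
    · exact hσ y h
    · exfalso
      have h3 := hσ3 y
      rw [h, map_mul, map_mul, hσz, h, map_mul, hσz, h] at h3
      have h4 : y * z * z * z = y * z := by
        rw [mul_assoc (y * z), hz, mul_one]
      rw [h4] at h3
      exact hz1 (mul_left_cancel (h3.trans (mul_one y).symm))
  have hnorm : ∀ y, y * σ y * σ (σ y) = 1 ∨ y * σ y * σ (σ y) = z := by
    intro y
    apply hfix
    have h1 : σ (y * σ y * σ (σ y)) = y⁻¹ * (y * σ y * σ (σ y)) * y := by
      rw [map_mul, map_mul, hσ3]
      group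
    rw [h1]
    rcases hcomm (y * σ y * σ (σ y)) y with h | h
    · left
      rw [mul_assoc, h, inv_mul_cancel_left]
    · right
      have h5 : y⁻¹ * (y * σ y * σ (σ y)) * y = y⁻¹ * (y * σ y * σ (σ y) * y) := mul_assoc _ _ _
      rw [h5, h, hcz (y * σ y * σ (σ y)), show z * (y * (y * σ y * σ (σ y))) =
        z * y * (y * σ y * σ (σ y)) from (mul_assoc z y _).symm, ← hcz y,
        show y⁻¹ * (y * z * (y * σ y * σ (σ y))) = (y⁻¹ * y) * z * (y * σ y * σ (σ y)) by
          simp only [mul_assoc], inv_mul_cancel, one_mul]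
  -- `σ x` commutes with `x`
  set x1 := σ x with hx1
  set x2 := σ x1 with hx2
  have hx3 : σ x2 = x := hσ3 x
  have hx11 : x1 * x1 = 1 := by rw [hx1, ← map_mul, hxx, map_one]
  have hx22 : x2 * x2 = 1 := by rw [hx2, ← map_mul, hx11, map_one]
  have hN := hnorm x
  have hinv : ∀ {y : Q}, y * y = 1 → y⁻¹ = y := fun h => inv_eq_of_mul_eq_one_left h
  -- `x * x1 = x2` or `x * x1 = z * x2`
  have hxx1 : x * x1 = x2 ∨ x * x1 = z * x2 := by
    rcases hN with h | h
    · left
      rw [← hinv hx22]; exact eq_inv_of_mul_eq_one_left h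
    · right
      rw [← eq_mul_inv_iff_mul_eq, hinv hx22] at h
      exact h
  have hsqx : (x * x1) * (x * x1) = 1 := by
    rcases hxx1 with h | h
    · rw [h, hx22]
    · rw [h, show z * x2 * (z * x2) = z * (x2 * z) * x2 by simp only [mul_assoc], hcz,
        ← mul_assoc, hz, one_mul, hx22]
  have hcx : x * x1 = x1 * x := by
    have h := eq_inv_of_mul_eq_one_left hsqx
    rw [mul_inv_rev, hinv hxx, hinv hx11] at h
    exact h
  have hx2mem : ∀ {B : Subgroup Q}, z ∈ B → x ∈ B → x1 ∈ B → x2 ∈ B := by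
    intro B h1 h2 h3
    rcases hxx1 with h | h
    · rw [← h]; exact mul_mem h2 h3
    · have : x2 = z⁻¹ * (x * x1) := by rw [h, inv_mul_cancel_left]
      rw [this]; exact mul_mem (inv_mem h1) (mul_mem h2 h3)
  -- first adjunction
  obtain ⟨B, hAB, hxB, hB, hcB, hBel⟩ := exists_adj hA hxA hxx hxc
  -- `x1 ∉ B`
  have hAσ' : ∀ a, σ a ∈ A → a ∈ A := by
    intro a ha
    have := hAσ _ (hAσ _ ha)
    rwa [hσ3] at this
  have hx1A : x1 ∉ A := fun h => hxA (hAσ' x h)
  have hx1B : x1 ∉ B := by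
    intro h
    rcases hBel x1 h with h | ⟨a, ha, h⟩
    · exact hx1A h
    · -- `x1 = a x`, `x2 = σ a * a * x`, so `x * x1 * x2 ∈ A x`
      have h2 : x2 = σ a * x1 := by rw [hx2, h, map_mul, ← hx1, h]
      have h3 : x * x1 * x2 ∈ A := by
        rcases hN with h | h
        · rw [h]; exact one_mem _
        · rw [h]; exact hzA
      have e1 : Commute x a := (hxc a ha).symm
      have e2 : Commute x (σ a) := (hxc _ (hAσ a ha)).symm
      have h4 : x * x1 * x2 = a * σ a * a * x := by
        rw [h2, h]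
        calc x * (a * x) * (σ a * (a * x)) = (x * a) * (x * σ a) * (a * x) := by
              simp only [mul_assoc]
          _ = (a * x) * (σ a * x) * (a * x) := by rw [e1.eq, e2.eq]
          _ = a * (x * σ a) * (x * a) * x := by simp only [mul_assoc]
          _ = a * (σ a * x) * (a * x) * x := by rw [e1.eq, e2.eq]
          _ = a * σ a * (x * a) * (x * x) := by simp only [mul_assoc]
          _ = a * σ a * a * x := by rw [e1.eq, hxx, mul_one, mul_assoc]; simp only [mul_assoc]
      rw [h4] at h3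
      apply hxA
      have := mul_mem (inv_mem (mul_mem (mul_mem ha (hAσ a ha)) ha)) h3
      rwa [inv_mul_cancel_left] at this
  have hcB1 : ∀ b ∈ B, b * x1 = x1 * b := by
    intro b hb
    have hA1 : ∀ a ∈ A, a * x1 = x1 * a := by
      intro a ha
      have h1 : σ (σ a) * x = x * σ (σ a) := hxc _ (hAσ _ (hAσ _ ha))
      have h2 := congrArg σ h1
      rw [map_mul, map_mul, hσ3] at h2
      exact h2
    rcases hBel b hb with h | ⟨a, ha, rfl⟩
    · exact hA1 b h
    · rw [mul_assoc, hcx, ← mul_assoc, hA1 a ha, mul_assoc]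
  obtain ⟨D, hBD, hx1D, hD, hcD, hDel⟩ := exists_adj hB hx1B hx11 hcB1
  have hx2D : x2 ∈ D := hx2mem (hBD (hAB hzA)) (hBD hxB) hx1D
  refine ⟨D, hD, hBD (hAB hzA), ?_, ?_, by rw [hcD, hcB]; ring⟩
  · have hBσ : ∀ b ∈ B, σ b ∈ D := by
      intro b hb
      rcases hBel b hb with h | ⟨a, ha, rfl⟩
      · exact hBD (hAB (hAσ b h))
      · rw [map_mul]
        exact mul_mem (hBD (hAB (hAσ a ha))) hx1D
    intro d hd
    rcases hDel d hd with h | ⟨b, hb, rfl⟩
    · exact hBσ d h
    · rw [map_mul]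
      exact mul_mem (hBσ b hb) hx2D
  · have k1 := card_inf_cent hz hcz hcomm (Subgroup.centralizer (A : Set Q)) x
    have k2 := card_inf_cent hz hcz hcomm
      (Subgroup.centralizer (A : Set Q) ⊓ Subgroup.centralizer ({x} : Set Q)) x1
    have k3 : Subgroup.centralizer (A : Set Q) ⊓ Subgroup.centralizer ({x} : Set Q) ⊓
        Subgroup.centralizer ({x1} : Set Q) ≤ Subgroup.centralizer (D : Set Q) := by
      intro w hw
      rw [Subgroup.mem_inf, Subgroup.mem_inf, Subgroup.mem_centralizer_iff,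
        Subgroup.mem_centralizer_singleton_iff, Subgroup.mem_centralizer_singleton_iff] at hw
      obtain ⟨⟨h1, h2⟩, h3⟩ := hw
      rw [Subgroup.mem_centralizer_iff]
      have hBw : ∀ b ∈ B, b * w = w * b := by
        intro b hb
        rcases hBel b hb with h | ⟨a, ha, rfl⟩
        · exact h1 b h
        · rw [mul_assoc, ← h2, ← mul_assoc, h1 a ha, mul_assoc]
      intro d hd
      rcases hDel d hd with h | ⟨b, hb, rfl⟩
      · exact hBw d h
      · rw [mul_assoc, ← h3, ← mul_assoc, hBw b hb, mul_assoc]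
    have k4 := Subgroup.card_le_of_le k3
    calc Nat.card Q ≤ n * Nat.card (Subgroup.centralizer (A : Set Q)) := hn
      _ ≤ n * (2 * (2 * Nat.card (Subgroup.centralizer (D : Set Q)))) := by
          apply Nat.mul_le_mul_left
          omega
      _ = 4 * n * Nat.card (Subgroup.centralizer (D : Set Q)) := by ring

/-- **Plus type**, from an automorphism of order 3. -/
theorem exists_plus (hz : z * z = 1) (hz1 : z ≠ 1) (hcz : ∀ x, x * z = z * x)
    (hsq : ∀ x : Q, x * x = 1 ∨ x * x = z)
    (hcomm : ∀ x y : Q, x * y = y * x ∨ x * y = z * (y * x))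
    (hσz : σ z = z) (hσ3 : ∀ x, σ (σ (σ x)) = x) (hσ : ∀ x, σ x = x → x = 1 ∨ x = z)
    (hcard : Nat.card Q = 2 ^ 13) :
    ∃ E : Subgroup Q, Cfsg.IsElementaryAbelian 2 E ∧ Nat.card E = 2 ^ 7 := by
  have h2 : orderOf z = 2 := orderOf_eq_prime (by rw [pow_two, hz]) hz1
  have hA0 : El (Subgroup.zpowers z) := by
    have : ∀ a ∈ Subgroup.zpowers z, a = 1 ∨ a = z := by
      rintro _ ⟨i, rfl⟩
      rcases Int.even_or_odd' i with ⟨j, rfl | rfl⟩
      · left
        show z ^ (2 * j) = 1
        rw [zpow_mul, show z ^ (2 : ℤ) = 1 by rw [zpow_ofNat, pow_two, hz], one_zpow]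
      · right
        show z ^ (2 * j + 1) = z
        rw [zpow_add, zpow_mul, show z ^ (2 : ℤ) = 1 by rw [zpow_ofNat, pow_two, hz], one_zpow,
          one_mul, zpow_one]
    refine ⟨fun a ha => ?_, fun a ha b hb => ?_⟩
    · rcases this a ha with rfl | rfl
      · exact one_mul 1
      · exact hz
    · rcases this a ha with rfl | rfl <;> rcases this b hb with rfl | rfl <;> simp
  have hc0 : Subgroup.centralizer ((Subgroup.zpowers z : Subgroup Q) : Set Q) = ⊤ := by
    rw [eq_top_iff]
    intro x _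
    rw [Subgroup.mem_centralizer_iff]
    rintro _ ⟨i, rfl⟩
    exact ((show Commute x z from hcz x).zpow_right i).eq.symm
  have hk0 : Nat.card (Subgroup.centralizer ((Subgroup.zpowers z : Subgroup Q) : Set Q)) = 2 ^ 13 := by
    rw [hc0, Subgroup.card_top, hcard]
  have hz0 : Nat.card (Subgroup.zpowers z) = 2 := by rw [Nat.card_zpowers, h2]
  obtain ⟨A1, e1, z1, s1, n1, c1⟩ := step σ hz hz1 hcz hsq hcomm hσz hσ3 hσ hA0
    (Subgroup.mem_zpowers z) (by
      rintro _ ⟨i, rfl⟩
      show σ (z ^ i) ∈ _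
      rw [map_zpow, hσz]
      exact ⟨i, rfl⟩) (n := 1) (by rw [hk0, hcard, one_mul]) (by rw [hz0, hk0]; norm_num)
  rw [hz0] at c1
  rw [hcard] at n1
  obtain ⟨A2, e2, z2, s2, n2, c2⟩ := step σ hz hz1 hcz hsq hcomm hσz hσ3 hσ e1 z1 s1
    (n := 4 * 1) (by rw [hcard]; exact n1) (by rw [c1]; norm_num at n1 ⊢; omega)
  rw [c1] at c2
  rw [hcard] at n2
  obtain ⟨A3, e3, z3, s3, n3, c3⟩ := step σ hz hz1 hcz hsq hcomm hσz hσ3 hσ e2 z2 s2
    (n := 4 * (4 * 1)) (by rw [hcard]; exact n2) (by rw [c2]; norm_num at n2 ⊢; omega)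
  rw [c2] at c3
  refine ⟨A3, ⟨⟨⟨fun a b => Subtype.ext (e3.2 a a.2 b b.2)⟩⟩, fun a ha => ?_⟩, by rw [c3]; norm_num⟩
  rw [pow_two]
  exact e3.1 a ha

end

end Cfsg.Agent.H856.Plus
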