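import Cfsg.Agent.J4Type.FusionConj
import Cfsg.Agent.J4Type.InvFix
import Cfsg.Agent.SporadicA.MathieuRecog
import Cfsg.Agent.H856.Plus

/-!
# Elementary abelian subgroups of order `2^11` in a group of type `J4`

For `H : J4Type.Hex G`, `G` finite:
* `cent_of_isPGroup` : a 2-subgroup containing `H.Q` centralises `H.z`;
* `eq_E_of_comm` : an elementary abelian `V` of order at least `2^11` centralising `z` is one of the `E O`;
* `exists_conj_E` : every elementary abelian `V` of order at least `2^11` is conjugate to `E hex0`;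
* `eq_of_le_sylow` : a Sylow 2-subgroup contains at most one such `V`; `exists_le_sylow` : and at least one.
-/

set_option autoImplicit false
set_option linter.unusedSectionVars false

namespace Cfsg.Agent.H856.TwoEleven

open Cfsg Cfsg.Agent.J4Type Cfsg.Agent.J4Type.FusionEA Cfsg.Agent.J4Type.FusionConj
open scoped Pointwise

variable {G : Type*} [Group G] [Finite G] (H : Hex G)

/-- a 2-subgroup containing `Q` centralises `z` -/
theorem cent_of_isPGroup {T : Subgroup G} (hT : IsPGroup 2 T) (hQT : H.Q ≤ T) :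
    ∀ x ∈ T, x * H.z = H.z * x := by
  have : Fact (Nat.Prime 2) := ⟨Nat.prime_two⟩
  have hzT : H.z ∈ T := hQT H.z_mem_Q
  have hz1 : H.z ≠ 1 := by
    intro h
    have := H.z_order
    rw [h, orderOf_one] at this
    exact absurd this (by norm_num)
  have hnt : Nontrivial T := ⟨⟨⟨H.z, hzT⟩, 1, fun h => hz1 (congrArg Subtype.val h)⟩⟩
  have := hT.center_nontrivial
  obtain ⟨⟨c, hc⟩, hc1⟩ := exists_ne (1 : Subgroup.center T)
  have hcomm : ∀ x ∈ T, (c : G) * x = x * c := fun x hx =>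
    (congrArg Subtype.val (Subgroup.mem_center_iff.1 hc ⟨x, hx⟩)).symm
  rcases H.Q_cent (c : G) (fun q hq => hcomm q (hQT hq)) with h | h
  · exact absurd (Subtype.ext (Subtype.ext h)) hc1
  · intro x hx
    rw [← h]
    exact (hcomm x hx).symm

theorem isElem2_iff {V : Subgroup G} : IsElem2 V ↔ Plus.El V := Iff.rfl

/-- an elementary abelian subgroup of order at least `2^11` centralising `z` is one of the `E O` -/
theorem eq_E_of_comm {V : Subgroup G} (hV : IsElem2 V) (hcard : 2 ^ 11 ≤ Nat.card V)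
    (hc : ∀ v ∈ V, v * H.z = H.z * v) : ∃ O, IsHex O ∧ V = H.E O := by
  by_cases hz : H.z ∈ V
  · exact ea_unique H hV hz hcard
  · exfalso
    have hzz : H.z * H.z = 1 := by rw [← pow_two, ← H.z_order]; exact pow_orderOf_eq_one _
    obtain ⟨B, hVB, hzB, hB, hcB, -⟩ := Plus.exists_adj hV hz hzz hc
    obtain ⟨O, hO, rfl⟩ := ea_unique H hB hzB (by omega)
    rw [H.E_card O hO] at hcB
    omega

theorem isPGroup_of_isElem2 {V : Subgroup G} (hV : IsElem2 V) : IsPGroup 2 V := by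
  intro g
  refine ⟨1, ?_⟩
  rw [pow_one, pow_two]
  exact Subtype.ext (hV.1 g g.2)

theorem isPGroup_Q : IsPGroup 2 H.Q := IsPGroup.of_card H.Q_card

/-- the conjugate of a subgroup, elementwise -/
theorem smul_iff {V : Subgroup G} {g a : G} :
    a ∈ MulAut.conj g • V ↔ g⁻¹ * a * g ∈ V := by
  rw [Subgroup.mem_pointwise_smul_iff_inv_smul_mem, ← map_inv, MulAut.smul_def, MulAut.conj_apply,
    inv_inv]

theorem isElem2_smul {V : Subgroup G} (hV : IsElem2 V) (g : G) : IsElem2 (MulAut.conj g • V) := by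
  constructor
  · intro a ha
    rw [smul_iff] at ha
    have h1 := hV.1 _ ha
    have h2 : g * ((g⁻¹ * a * g) * (g⁻¹ * a * g)) * g⁻¹ = a * a := by group
    rw [← h2, h1]; group
  · intro a ha b hb
    rw [smul_iff] at ha hb
    have h1 := hV.2 _ ha _ hb
    have h2 : g * ((g⁻¹ * a * g) * (g⁻¹ * b * g)) * g⁻¹ = a * b := by group
    have h3 : g * ((g⁻¹ * b * g) * (g⁻¹ * a * g)) * g⁻¹ = b * a := by group
    rw [← h2, h1, h3]

theorem card_smul (V : Subgroup G) (g : G) : Nat.card (MulAut.conj g • V : Subgroup G) = Nat.card V :=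
  (Nat.card_congr (Subgroup.equivSMul (MulAut.conj g) V).toEquiv).symm

/-- there is a Sylow 2-subgroup containing `Q` -/
theorem exists_sylow : ∃ T : Sylow 2 G, H.Q ≤ T := by
  have : Fact (Nat.Prime 2) := ⟨Nat.prime_two⟩
  exact (isPGroup_Q H).exists_le_sylow

/-- every 2-subgroup is conjugate into a 2-subgroup centralising `z` -/
theorem exists_conj_cent {V : Subgroup G} (hV : IsPGroup 2 V) :
    ∃ g : G, ∀ v ∈ (MulAut.conj g • V : Subgroup G), v * H.z = H.z * v := by
  have : Fact (Nat.Prime 2) := ⟨Nat.prime_two⟩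
  obtain ⟨T, hT⟩ := exists_sylow H
  obtain ⟨S, hS⟩ := hV.exists_le_sylow
  obtain ⟨g, hg⟩ := MulAction.exists_smul_eq G S T
  refine ⟨g, fun v hv => ?_⟩
  apply cent_of_isPGroup H T.2 hT
  rw [← hg]
  rw [smul_iff] at hv
  have : (g⁻¹ * v * g) ∈ (S : Subgroup G) := hS hv
  show v ∈ ((g • S : Sylow 2 G) : Subgroup G)
  rw [Sylow.coe_subgroup_smul]
  exact smul_iff.2 this

/-- `E O` is conjugate to `E hex0` -/
theorem E_conj_hex0 {O : Finset GolayPt} (hO : IsHex O) :
    ∃ c : G, MulAut.conj c • H.E O = H.E hex0 := by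
  obtain ⟨c, -, hc⟩ := exists_C_smul H hO isHex_hex0
  refine ⟨c, ?_⟩
  ext a
  rw [smul_iff, H.E_conj O hO c, hc]
  have : (c : G) * ((c : G)⁻¹ * a * c) * (c : G)⁻¹ = a := by group
  rw [this]

/-- **Every elementary abelian subgroup of order at least `2^11` is conjugate to `E hex0`.** -/
theorem exists_conj_E {V : Subgroup G} (hV : IsElem2 V) (hcard : 2 ^ 11 ≤ Nat.card V) :
    ∃ g : G, MulAut.conj g • V = H.E hex0 := by
  obtain ⟨g, hg⟩ := exists_conj_cent H (isPGroup_of_isElem2 hV)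
  obtain ⟨O, hO, he⟩ := eq_E_of_comm H (isElem2_smul hV g) (by rwa [card_smul]) hg
  obtain ⟨c, hc⟩ := E_conj_hex0 H hO
  refine ⟨c * g, ?_⟩
  rw [map_mul, mul_smul, he, hc]

/-! ### Uniqueness in a Sylow subgroup -/

/-- the pointwise stabilisers of two different hexads meet trivially -/
theorem eq_one_of_fix {O O' : Finset GolayPt} (hO : IsHex O) (hO' : IsHex O') (hne : O ≠ O')
    {g : Equiv.Perm GolayPt} (hg : g ∈ M24) (hgg : g * g = 1) (h1 : ∀ p ∈ O, g p = p)
    (h2 : ∀ p ∈ O', g p = p) : g = 1 := by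
  by_contra hg1
  have h3 := FusionM22.card_fix hg hgg hg1 (h1 none (hO.2 (by decide)))
  have h4 : O ∪ O' ⊆ Finset.univ.filter fun p : GolayPt => g p = p := by
    intro p hp
    rw [Finset.mem_filter]
    refine ⟨Finset.mem_univ _, ?_⟩
    rcases Finset.mem_union.1 hp with h | h
    · exact h1 p h
    · exact h2 p h
  have h5 := Finset.card_le_card h4
  rw [h3] at h5
  have h6 : O.card = 8 := hO.1.2
  have h7 : O'.card = 8 := hO'.1.2
  apply hne
  have h8 : O = O ∪ O' := Finset.eq_of_subset_of_card_le Finset.subset_union_left (by omega)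
  have h9 : O' = O ∪ O' := Finset.eq_of_subset_of_card_le Finset.subset_union_right (by omega)
  exact h8.trans h9.symm

/-- the elements of the pointwise stabiliser of a hexad come from `E O` -/
theorem exists_mem_of_fix {O : Finset GolayPt} (hO : IsHex O) {g : Equiv.Perm GolayPt} (hg : g ∈ M24)
    (h : ∀ p ∈ O, g p = p) : ∃ a : Subgroup.centralizer ({H.z} : Set G), (a : G) ∈ H.E O ∧ H.P a = g ∧
      g * g = 1 := by
  obtain ⟨a, ha, hPa⟩ := (H.E_map O hO g).2 ⟨hg, h⟩
  refine ⟨a, ha, hPa, ?_⟩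
  rw [← hPa, ← map_mul]
  have : a * a = 1 := Subtype.ext ((H.E_elem O hO).1 a ha)
  rw [this, map_one]

/-- a 2-subgroup centralising `z` contains at most one of the groups `E O` -/
theorem hex_unique {T : Subgroup G} (hT : IsPGroup 2 T) (hTz : ∀ x ∈ T, x * H.z = H.z * x)
    {O O' : Finset GolayPt} (hO : IsHex O) (hO' : IsHex O') (h1 : H.E O ≤ T) (h2 : H.E O' ≤ T) :
    O = O' := by
  by_contra hne
  have : Fact (Nat.Prime 2) := ⟨Nat.prime_two⟩
  have hTC : T ≤ Subgroup.centralizer ({H.z} : Set G) := fun x hx =>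
    Subgroup.mem_centralizer_singleton_iff.2 (hTz x hx)
  set f : T →* Equiv.Perm GolayPt := H.P.comp (Subgroup.inclusion hTC) with hf
  have hfr : IsPGroup 2 f.range := hT.of_surjective f.rangeRestrict f.rangeRestrict_surjective
  set R : Subgroup Spor.M22 := f.range.subgroupOf Spor.M22 with hR
  have hR2 : IsPGroup 2 R := hfr.comap_of_injective Spor.M22.subtype (Subgroup.subtype_injective _)
  have hmem : ∀ {O : Finset GolayPt}, IsHex O → H.E O ≤ T → ∀ {g : Equiv.Perm GolayPt}, g ∈ M24 →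
      (∀ p ∈ O, g p = p) → ∃ h : g ∈ Spor.M22, (⟨g, h⟩ : Spor.M22) ∈ R := by
    intro O hO hOT g hg hfix
    refine ⟨(Cfsg.Agent.SporadicA.MathieuRecog.mem_M22_iff g).2 ⟨hg, hfix none (hO.2 (by decide)),
      hfix (some 0) (hO.2 (by decide))⟩, ?_⟩
    rw [hR, Subgroup.mem_subgroupOf]
    obtain ⟨a, ha, hPa, -⟩ := exists_mem_of_fix H hO hg hfix
    exact ⟨⟨a, hOT ha⟩, hPa⟩
  -- the map
  let A := fixingSubgroup M24 (O : Set GolayPt)
  let A' := fixingSubgroup M24 (O' : Set GolayPt)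
  have hA : ∀ a : A, ((a : M24) : Equiv.Perm GolayPt) ∈ M24 ∧
      ∀ p ∈ O, ((a : M24) : Equiv.Perm GolayPt) p = p := fun a => ⟨(a : M24).2, fun p hp => a.2 ⟨p, hp⟩⟩
  have hA' : ∀ a : A', ((a : M24) : Equiv.Perm GolayPt) ∈ M24 ∧
      ∀ p ∈ O', ((a : M24) : Equiv.Perm GolayPt) p = p := fun a => ⟨(a : M24).2, fun p hp => a.2 ⟨p, hp⟩⟩
  let F : A × A' → R := fun x =>
    ⟨⟨((x.1 : M24) : Equiv.Perm GolayPt), (hmem hO h1 (hA x.1).1 (hA x.1).2).choose⟩ *
      ⟨((x.2 : M24) : Equiv.Perm GolayPt), (hmem hO' h2 (hA' x.2).1 (hA' x.2).2).choose⟩,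
      R.mul_mem (hmem hO h1 (hA x.1).1 (hA x.1).2).choose_spec
        (hmem hO' h2 (hA' x.2).1 (hA' x.2).2).choose_spec⟩
  have hF : Function.Injective F := by
    rintro ⟨a, b⟩ ⟨a', b'⟩ hab
    have h3 : ((a : M24) : Equiv.Perm GolayPt) * ((b : M24) : Equiv.Perm GolayPt) =
        ((a' : M24) : Equiv.Perm GolayPt) * ((b' : M24) : Equiv.Perm GolayPt) :=
      congrArg (fun r : R => ((r : Spor.M22) : Equiv.Perm GolayPt)) hab
    have h3' : (a : M24) * (b : M24) = (a' : M24) * (b' : M24) := Subtype.ext h3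
    have h4 : (a' : M24)⁻¹ * (a : M24) = (b' : M24) * (b : M24)⁻¹ := by
      rw [inv_mul_eq_iff_eq_mul, ← mul_assoc, eq_mul_inv_iff_mul_eq, h3']
    have h5 : (a' : M24)⁻¹ * (a : M24) ∈ A := A.mul_mem (A.inv_mem a'.2) a.2
    have h6 : (b' : M24) * (b : M24)⁻¹ ∈ A' := A'.mul_mem b'.2 (A'.inv_mem b.2)
    have h7 : ((((a' : M24)⁻¹ * (a : M24) : M24)) : Equiv.Perm GolayPt) = 1 := by
      obtain ⟨-, -, -, hsq⟩ := exists_mem_of_fix H hO (hA ⟨_, h5⟩).1 (hA ⟨_, h5⟩).2
      refine eq_one_of_fix hO hO' hne (hA ⟨_, h5⟩).1 hsq (hA ⟨_, h5⟩).2 ?_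
      intro p hp
      show (((a' : M24)⁻¹ * (a : M24) : M24) : Equiv.Perm GolayPt) p = p
      rw [h4]
      exact (hA' ⟨_, h6⟩).2 p hp
    have h8 : (a' : M24)⁻¹ * (a : M24) = 1 := Subtype.ext h7
    have h9 : a = a' := by
      apply Subtype.ext
      rw [inv_mul_eq_one] at h8
      exact h8.symm
    have h10 : b = b' := by
      apply Subtype.ext
      rw [h4, mul_inv_eq_one] at h8
      exact h8.symm
    rw [h9, h10]
  have hcard := Nat.card_le_card_of_injective F hF
  rw [Nat.card_prod, InvFix.card_fix_octad hO.1, InvFix.card_fix_octad hO'.1] at hcard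
  obtain ⟨k, hk⟩ := IsPGroup.iff_card.1 hR2
  have hdvd := Subgroup.card_subgroup_dvd_card R
  rw [Cfsg.Agent.SporadicA.MathieuRecog.card_M22, hk] at hdvd
  rw [hk] at hcard
  have hk8 : 8 ≤ k := by
    by_contra hlt
    have : 2 ^ k ≤ 2 ^ 7 := Nat.pow_le_pow_right (by norm_num) (by omega)
    omega
  have := (pow_dvd_pow 2 hk8).trans hdvd
  norm_num at this

include H in
/-- **A Sylow 2-subgroup contains at most one elementary abelian subgroup of order `2^11`.** -/
theorem eq_of_le_sylow (T : Sylow 2 G) {V W : Subgroup G} (hV : IsElem2 V)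
    (hVc : 2 ^ 11 ≤ Nat.card V) (hVT : V ≤ T) (hW : IsElem2 W) (hWc : 2 ^ 11 ≤ Nat.card W)
    (hWT : W ≤ T) : V = W := by
  have : Fact (Nat.Prime 2) := ⟨Nat.prime_two⟩
  obtain ⟨S, hS⟩ := exists_sylow H
  obtain ⟨g, hg⟩ := MulAction.exists_smul_eq G T S
  have hTS : ∀ {V : Subgroup G}, V ≤ T → MulAut.conj g • V ≤ (S : Subgroup G) := by
    intro V hV
    rw [← hg, Sylow.coe_subgroup_smul]
    intro v hv
    rw [smul_iff] at hv
    exact smul_iff.2 (hV hv)
  have hSz := cent_of_isPGroup H S.2 hS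
  obtain ⟨O, hO, he⟩ := eq_E_of_comm H (isElem2_smul hV g) (by rwa [card_smul])
    (fun v hv => hSz v (hTS hVT hv))
  obtain ⟨O', hO', he'⟩ := eq_E_of_comm H (isElem2_smul hW g) (by rwa [card_smul])
    (fun v hv => hSz v (hTS hWT hv))
  have h1 : O = O' := hex_unique H S.2 hSz hO hO' (by rw [← he]; exact hTS hVT)
    (by rw [← he']; exact hTS hWT)
  rw [← h1] at he'
  exact smul_left_cancel (MulAut.conj g) (he.trans he'.symm)

include H in
/-- A Sylow 2-subgroup contains an elementary abelian subgroup of order `2^11`. -/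
theorem exists_le_sylow (T : Sylow 2 G) : ∃ V : Subgroup G, IsElem2 V ∧ Nat.card V = 2 ^ 11 ∧ V ≤ T := by
  have : Fact (Nat.Prime 2) := ⟨Nat.prime_two⟩
  obtain ⟨S, hS⟩ := (isPGroup_of_isElem2 (H.E_elem hex0 isHex_hex0)).exists_le_sylow
  obtain ⟨g, hg⟩ := MulAction.exists_smul_eq G S T
  refine ⟨MulAut.conj g • H.E hex0, isElem2_smul (H.E_elem hex0 isHex_hex0) g, ?_, ?_⟩
  · rw [card_smul, H.E_card hex0 isHex_hex0]
  · rw [← hg, Sylow.coe_subgroup_smul]
    intro v hv
    rw [smul_iff] at hv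
    exact smul_iff.2 (hS hv)

end Cfsg.Agent.H856.TwoEleven
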