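import Cfsg.Agent.H856.Bridge
import Cfsg.Agent.J4Type.Top

/-!
# Janko-four type: the isomorphism with the presented group `J4`
-/

set_option autoImplicit false

namespace Cfsg.Agent.H856.BridgeIso

open Cfsg Cfsg.Agent.J4Type

variable {G : Type*} [Group G]

/-- The presented `J4` is isomorphic to `G`, and the element `s` goes to a conjugate of `z`. -/
theorem exists_iso_of_compl [Finite G] (C : J4Type.Compl G) :
    ∃ f : Cfsg.Spor.J4 →* G, Function.Bijective f ∧ f Cfsg.Agent.J4.Invol.s = C.ε FinalRel.tetB := by
  obtain ⟨T, hT⟩ := TauMain.exists_tau C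
  subst hT
  exact Final.exists_bijective Cfsg.Agent.S1703.result T.toCompl
    (FinalTau.Tau.tauFam T (Rel2.relator2 T))
    (fun p q hpq g hg => DuadCent.duad_cent T.toFrame hpq hg)

end Cfsg.Agent.H856.BridgeIso
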