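import Cfsg.Agent.H179.G2Std
import Cfsg.Agent.H161.G2Emb

/-!
# The stabiliser of the standard alternating 3-form in `SL₇(F)` is `G₂(F)` (helper856)
-/

set_option autoImplicit false
set_option linter.unusedSimpArgs false
set_option maxHeartbeats 1000000

namespace Cfsg.Agent.H856.G2M

open Cfsg.Lie Cfsg.Agent.H161.Oct Cfsg.Agent.H179.G2 Module
open scoped Matrix

variable {F : Type*} [Field F]

/-- the traceless octonions -/
abbrev W (F : Type*) : Type _ := Fin 7 → F

/-- `F^7` as the traceless octonions -/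
def jj (x : W F) : V F := ![x 0, x 1, x 2, x 3, x 4, x 5, x 6, - x 0]

theorem jj0 (x : W F) : jj x 0 = x 0 := rfl
theorem jj1 (x : W F) : jj x 1 = x 1 := rfl
theorem jj2 (x : W F) : jj x 2 = x 2 := rfl
theorem jj3 (x : W F) : jj x 3 = x 3 := rfl
theorem jj4 (x : W F) : jj x 4 = x 4 := rfl
theorem jj5 (x : W F) : jj x 5 = x 5 := rfl
theorem jj6 (x : W F) : jj x 6 = x 6 := rfl
theorem jj7 (x : W F) : jj x 7 = - x 0 := rfl

/-- the traceless part -/
def pp (y : V F) : W F := ![(y 0 - y 7) / 2, y 1, y 2, y 3, y 4, y 5, y 6]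

theorem pp0 (y : V F) : pp y 0 = (y 0 - y 7) / 2 := rfl
theorem pp1 (y : V F) : pp y 1 = y 1 := rfl
theorem pp2 (y : V F) : pp y 2 = y 2 := rfl
theorem pp3 (y : V F) : pp y 3 = y 3 := rfl
theorem pp4 (y : V F) : pp y 4 = y 4 := rfl
theorem pp5 (y : V F) : pp y 5 = y 5 := rfl
theorem pp6 (y : V F) : pp y 6 = y 6 := rfl

omit [Field F] in
theorem ext7 {x y : W F} (h0 : x 0 = y 0) (h1 : x 1 = y 1) (h2 : x 2 = y 2) (h3 : x 3 = y 3)
    (h4 : x 4 = y 4) (h5 : x 5 = y 5) (h6 : x 6 = y 6) : x = y := by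
  funext i
  fin_cases i <;> assumption

theorem jj_add (x y : W F) : jj (x + y) = jj x + jj y := by
  apply ext8 <;> simp only [jj0, jj1, jj2, jj3, jj4, jj5, jj6, jj7, Pi.add_apply] <;> ring

theorem jj_smul (c : F) (x : W F) : jj (c • x) = c • jj x := by
  apply ext8 <;> simp only [jj0, jj1, jj2, jj3, jj4, jj5, jj6, jj7, Pi.smul_apply, smul_eq_mul] <;>
    ring

theorem tr_jj (x : W F) : tr (jj x) = 0 := by
  simp only [tr, jj0, jj7]; ring

theorem pp_add (x y : V F) : pp (x + y) = pp x + pp y := by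
  apply ext7 <;> simp only [pp0, pp1, pp2, pp3, pp4, pp5, pp6, Pi.add_apply] <;> ring

theorem pp_smul (c : F) (x : V F) : pp (c • x) = c • pp x := by
  apply ext7 <;> simp only [pp0, pp1, pp2, pp3, pp4, pp5, pp6, Pi.smul_apply, smul_eq_mul] <;>
    ring

theorem pp_o : pp (o : V F) = 0 := by
  apply ext7 <;> simp only [pp0, pp1, pp2, pp3, pp4, pp5, pp6, o0, o1, o2, o3, o4, o5, o6, o7,
    Pi.zero_apply] <;> ring

theorem pp_jj (h2 : (2 : F) ≠ 0) (x : W F) : pp (jj x) = x := by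
  apply ext7 <;> simp only [pp0, pp1, pp2, pp3, pp4, pp5, pp6, jj0, jj1, jj2, jj3, jj4, jj5, jj6,
    jj7] 
  field_simp
  ring

theorem split (h2 : (2 : F) ≠ 0) (y : V F) : (tr y / 2) • o + jj (pp y) = y := by
  apply ext8 <;> simp only [pp0, pp1, pp2, pp3, pp4, pp5, pp6, jj0, jj1, jj2, jj3, jj4, jj5, jj6,
    jj7, o0, o1, o2, o3, o4, o5, o6, o7, tr, Pi.add_apply, Pi.smul_apply, smul_eq_mul] <;>
    first | ring1 | (field_simp; ring1)

/-- `F^8 = F^7 ⊕ F` -/
def spl (h2 : (2 : F) ≠ 0) : V F ≃ₗ[F] (W F × F) where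
  toFun y := (pp y, tr y / 2)
  map_add' x y := by
    rw [pp_add, tr_add, add_div]; rfl
  map_smul' c x := by
    rw [pp_smul, tr_smul, mul_div_assoc]; rfl
  invFun z := z.2 • o + jj z.1
  left_inv y := split h2 y
  right_inv z := by
    have h1 : pp (z.2 • o + jj z.1) = z.1 := by
      rw [pp_add, pp_smul, pp_o, pp_jj h2, smul_zero, zero_add]
    have h3 : tr (z.2 • o + jj z.1) / 2 = z.2 := by
      rw [tr_add, tr_smul, tr_o, tr_jj, add_zero, mul_div_assoc, div_self h2, mul_one]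
    exact Prod.ext h1 h3

/-- the extension of an automorphism of the traceless octonions by the identity on `F o` -/
def ext (h2 : (2 : F) ≠ 0) : (W F ≃ₗ[F] W F) →* (V F ≃ₗ[F] V F) where
  toFun g := (spl h2).trans ((g.prodCongr (LinearEquiv.refl F F)).trans (spl h2).symm)
  map_one' := by
    ext1 x
    show (spl h2).symm (_, _) = x
    exact (spl h2).symm_apply_apply x
  map_mul' g h := by
    ext1 x
    show (spl h2).symm (_, _) = (spl h2).symm ((g.prodCongr (LinearEquiv.refl F F))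
      ((spl h2) ((spl h2).symm ((h.prodCongr (LinearEquiv.refl F F)) (spl h2 x)))))
    rw [LinearEquiv.apply_symm_apply]
    rfl

theorem ext_apply (h2 : (2 : F) ≠ 0) (g : W F ≃ₗ[F] W F) (y : V F) :
    ext h2 g y = (tr y / 2) • o + jj (g (pp y)) := rfl

theorem ext_jj (h2 : (2 : F) ≠ 0) (g : W F ≃ₗ[F] W F) (x : W F) : ext h2 g (jj x) = jj (g x) := by
  rw [ext_apply, tr_jj, zero_div, zero_smul, zero_add, pp_jj h2]

theorem ext_o (h2 : (2 : F) ≠ 0) (g : W F ≃ₗ[F] W F) : ext h2 g o = o := by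
  rw [ext_apply, tr_o, div_self h2, one_smul, pp_o, map_zero]
  have : jj (0 : W F) = 0 := by
    apply ext8 <;> simp only [jj0, jj1, jj2, jj3, jj4, jj5, jj6, jj7, Pi.zero_apply, neg_zero]
  rw [this, add_zero]

theorem ext_inj (h2 : (2 : F) ≠ 0) : Function.Injective (ext h2) := by
  intro g h hgh
  ext1 x
  have h1 := congrArg (fun k : V F ≃ₗ[F] V F => pp (k (jj x))) hgh
  simpa only [ext_jj, pp_jj h2] using h1

theorem f0_eq (x y z : W F) : bl (zornMul (jj x) (jj y)) (jj z) = - F0 x y z := by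
  simp only [bl, mul0, mul1, mul2, mul3, mul4, mul5, mul6, mul7, jj0, jj1, jj2, jj3, jj4, jj5, jj6,
    jj7, F0, d3]
  ring

theorem tr_mul (x y : W F) : tr (zornMul (jj x) (jj y)) = - bl (jj x) (jj y) := by
  simp only [bl, mul0, mul1, mul2, mul3, mul4, mul5, mul6, mul7, jj0, jj1, jj2, jj3, jj4, jj5, jj6,
    jj7, tr]
  ring

theorem bl_jp (h2 : (2 : F) ≠ 0) (y : V F) (z : W F) : bl (jj (pp y)) (jj z) = bl y (jj z) := by
  conv_rhs => rw [← split h2 y]
  rw [bl_add', bl_smul', bl_comm o, bl_o, tr_jj, mul_zero, zero_add]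

theorem nondeg (h2 : (2 : F) ≠ 0) {x y : W F} (h : ∀ z, bl (jj x) (jj z) = bl (jj y) (jj z)) :
    x = y := by
  have h' : ∀ z : W F, -(2 * (x 0 * z 0)) - (x 1 * z 4 + x 2 * z 5 + x 3 * z 6)
      - (z 1 * x 4 + z 2 * x 5 + z 3 * x 6) = -(2 * (y 0 * z 0)) - (y 1 * z 4 + y 2 * z 5 + y 3 * z 6)
      - (z 1 * y 4 + z 2 * y 5 + z 3 * y 6) := by
    intro z
    have := h z
    simp only [bl, jj0, jj1, jj2, jj3, jj4, jj5, jj6, jj7] at this
    linear_combination this
  have s0 := h' ![1, 0, 0, 0, 0, 0, 0]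
  have s1 := h' ![0, 1, 0, 0, 0, 0, 0]
  have s2 := h' ![0, 0, 1, 0, 0, 0, 0]
  have s3 := h' ![0, 0, 0, 1, 0, 0, 0]
  have s4 := h' ![0, 0, 0, 0, 1, 0, 0]
  have s5 := h' ![0, 0, 0, 0, 0, 1, 0]
  have s6 := h' ![0, 0, 0, 0, 0, 0, 1]
  simp only [Matrix.cons_val_zero, Matrix.cons_val_one, Matrix.cons_val, mul_zero, mul_one,
    add_zero, zero_add, sub_zero, zero_mul, one_mul, neg_zero, zero_sub] at s0 s1 s2 s3 s4 s5 s6
  apply ext7
  · apply mul_left_cancel₀ h2
    linear_combination -s0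
  · linear_combination -s4
  · linear_combination -s5
  · linear_combination -s6
  · linear_combination -s1
  · linear_combination -s2
  · linear_combination -s3

/-! ### `F0` as a trilinear form and its quadratic form -/

theorem F0_add1 (x x' y z : W F) : F0 (x + x') y z = F0 x y z + F0 x' y z := by
  simp only [F0, d3, Pi.add_apply]; ring
theorem F0_add2 (x y y' z : W F) : F0 x (y + y') z = F0 x y z + F0 x y' z := by
  simp only [F0, d3, Pi.add_apply]; ring
theorem F0_add3 (x y z z' : W F) : F0 x y (z + z') = F0 x y z + F0 x y z' := by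
  simp only [F0, d3, Pi.add_apply]; ring
theorem F0_smul1 (c : F) (x y z : W F) : F0 (c • x) y z = c * F0 x y z := by
  simp only [F0, d3, Pi.smul_apply, smul_eq_mul]; ring
theorem F0_smul2 (c : F) (x y z : W F) : F0 x (c • y) z = c * F0 x y z := by
  simp only [F0, d3, Pi.smul_apply, smul_eq_mul]; ring
theorem F0_smul3 (c : F) (x y z : W F) : F0 x y (c • z) = c * F0 x y z := by
  simp only [F0, d3, Pi.smul_apply, smul_eq_mul]; ring

/-- `F0` as a trilinear form -/
def f0 (F : Type*) [Field F] : W F →ₗ[F] W F →ₗ[F] W F →ₗ[F] F :=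
  LinearMap.mk₂ F (fun x y => ({ toFun := fun z => F0 x y z
                                 map_add' := F0_add3 x y
                                 map_smul' := fun c z => F0_smul3 c x y z } : W F →ₗ[F] F))
    (fun x x' y => LinearMap.ext fun z => F0_add1 x x' y z)
    (fun c x y => LinearMap.ext fun z => F0_smul1 c x y z)
    (fun x y y' => LinearMap.ext fun z => F0_add2 x y y' z)
    (fun c x y => LinearMap.ext fun z => F0_smul2 c x y z)

theorem f0_apply (x y z : W F) : f0 F x y z = F0 x y z := rfl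

theorem f0_isAlt : IsAltForm (f0 F) where
  self x y := by rw [f0_apply]; simp only [F0, d3]; ring
  z23 x y := by rw [f0_apply]; simp only [F0, d3]; ring

/-- the quadratic form of `F0` -/
theorem Qf_f0 (x : W F) : Qf (Pi.basisFun F (Fin 7)) (f0 F) x = nm (jj x) := by
  have hr : ((Pi.basisFun F (Fin 7)).repr x : Fin 7 → F) = x := by
    funext i
    exact Pi.basisFun_repr F (Fin 7) x i
  rw [Qf_apply, hr]
  simp only [qf, pf6, pf21, pf4, Phi_apply, coord, f0_apply, F0, d3, Pi.basisFun_apply,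
    Pi.single_apply]
  simp only [Fin.reduceEq, if_false, if_true, mul_zero, zero_mul, sub_zero, zero_sub, add_zero,
    zero_add, mul_one, one_mul, neg_zero, sub_self, nm, jj0, jj1, jj2, jj3, jj4, jj5, jj6, jj7]
  ring

theorem jj_zero : jj (0 : W F) = 0 := by
  apply ext8 <;> simp only [jj0, jj1, jj2, jj3, jj4, jj5, jj6, jj7, Pi.zero_apply, neg_zero]

theorem nm_map {g : W F →ₗ[F] W F} (hg : ∀ x y z, F0 (g x) (g y) (g z) = F0 x y z) (x : W F) :
    nm (jj (g x)) * LinearMap.det g = nm (jj x) := by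
  by_cases hx : x = 0
  · rw [hx, map_zero, jj_zero]
    have : nm (0 : V F) = 0 := by simp only [nm, Pi.zero_apply]; ring
    rw [this, zero_mul]
  · obtain ⟨k, hk⟩ : ∃ k, x k ≠ 0 := by
      by_contra h
      push Not at h
      exact hx (funext h)
    set e := Pi.basisFun F (Fin 7) with he
    have h1 := pf6_eq e (f0_isAlt (F := F)) x (e ∘ k.succAbove)
    have h3 := pf6_eq e (f0_isAlt (F := F)) (g x) (g ∘ (e ∘ k.succAbove))
    have h4 : (Matrix.vecCons (g x) (g ∘ (e ∘ k.succAbove))) =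
        g ∘ (Matrix.vecCons x (e ∘ k.succAbove)) := by
      funext i
      refine Fin.cases ?_ (fun i => ?_) i <;> rfl
    rw [h4, e.det_comp] at h3
    have h5 : pf6 (fun u v => f0 F (g x) u v) ((g ∘ (e ∘ k.succAbove)) 0)
        ((g ∘ (e ∘ k.succAbove)) 1) ((g ∘ (e ∘ k.succAbove)) 2) ((g ∘ (e ∘ k.succAbove)) 3)
        ((g ∘ (e ∘ k.succAbove)) 4) ((g ∘ (e ∘ k.succAbove)) 5) =
        pf6 (fun u v => f0 F x u v) ((e ∘ k.succAbove) 0)
        ((e ∘ k.succAbove) 1) ((e ∘ k.succAbove) 2) ((e ∘ k.succAbove) 3)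
        ((e ∘ k.succAbove) 4) ((e ∘ k.succAbove) 5) := by
      simp only [pf6, pf4, f0_apply, Function.comp_apply, hg]
    rw [h5, h1, det_cons, Qf_f0, Qf_f0] at h3
    have hr : e.repr x k = x k := Pi.basisFun_repr F (Fin 7) x k
    rw [hr] at h3
    have hk' : (-1) ^ (k : ℕ) * x k ≠ 0 := mul_ne_zero (pow_ne_zero _ (by norm_num)) hk
    apply mul_right_cancel₀ hk'
    linear_combination -h3

theorem bl_map {g : W F →ₗ[F] W F} (hg : ∀ x y z, F0 (g x) (g y) (g z) = F0 x y z)
    (hd : LinearMap.det g = 1) (x y : W F) : bl (jj (g x)) (jj (g y)) = bl (jj x) (jj y) := by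
  have h1 : ∀ x, nm (jj (g x)) = nm (jj x) := fun x => by
    have := nm_map hg x
    rwa [hd, mul_one] at this
  have h3 := h1 (x + y)
  rw [map_add, jj_add, jj_add, nm_add, nm_add, h1, h1] at h3
  exact add_left_cancel h3

theorem ext_mem (h2 : (2 : F) ≠ 0) {g : W F ≃ₗ[F] W F}
    (hg : ∀ x y z, F0 (g x) (g y) (g z) = F0 x y z) (hd : LinearMap.det (g : W F →ₗ[F] W F) = 1) :
    ext h2 g ∈ AutO F := by
  have hb := bl_map (g := (g : W F →ₗ[F] W F)) hg hd
  have key : ∀ u v : W F, ext h2 g (zornMul (jj u) (jj v)) = zornMul (jj (g u)) (jj (g v)) := by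
    intro u v
    rw [← split h2 (zornMul (jj (g u)) (jj (g v))), ext_apply, tr_mul, tr_mul]
    have h1 : bl (jj (g u)) (jj (g v)) = bl (jj u) (jj v) := hb u v
    rw [h1]
    congr 2
    apply nondeg h2
    intro z
    obtain ⟨w, rfl⟩ := g.surjective z
    have h3 : bl (jj (g (pp (zornMul (jj u) (jj v))))) (jj (g w)) =
      bl (jj (pp (zornMul (jj u) (jj v)))) (jj w) := hb _ _
    rw [h3, bl_jp h2, bl_jp h2, f0_eq, f0_eq, hg]
  intro x y
  have hx := split h2 x
  have hy := split h2 y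
  rw [← hx, ← hy]
  simp only [zmul_add, zadd_mul, zmul_smul, zsmul_mul, o_mul, mul_o, map_add, map_smul, key,
    ext_o, ext_jj]

theorem exists_ext (h2 : (2 : F) ≠ 0) {h : V F ≃ₗ[F] V F} (hh : h ∈ AutO F) :
    ∃ g : W F ≃ₗ[F] W F, ext h2 g = h := by
  have h0 : ∀ x : W F, jj (pp (h (jj x))) = h (jj x) := by
    intro x
    have h1 := split h2 (h (jj x))
    rwa [map_tr hh, tr_jj, zero_div, zero_smul, zero_add] at h1
  have hh' := (AutO F).inv_mem hh
  have h0' : ∀ x : W F, jj (pp (h⁻¹ (jj x))) = h⁻¹ (jj x) := by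
    intro x
    have h1 := split h2 (h⁻¹ (jj x))
    rwa [map_tr hh', tr_jj, zero_div, zero_smul, zero_add] at h1
  have hi : ∀ z, h (h⁻¹ z) = z := fun z => h.apply_symm_apply z
  have hi' : ∀ z, h⁻¹ (h z) = z := fun z => h.symm_apply_apply z
  refine ⟨{ toFun := fun x => pp (h (jj x))
            map_add' := fun x y => by rw [jj_add, map_add, pp_add]
            map_smul' := fun c x => by rw [jj_smul, map_smul, pp_smul]; rfl
            invFun := fun x => pp (h⁻¹ (jj x))
            left_inv := fun x => by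
              show pp (h⁻¹ (jj (pp (h (jj x))))) = x
              rw [h0, hi', pp_jj h2]
            right_inv := fun x => by
              show pp (h (jj (pp (h⁻¹ (jj x))))) = x
              rw [h0', hi, pp_jj h2] }, ?_⟩
  ext1 y
  rw [ext_apply]
  show (tr y / 2) • o + jj (pp (h (jj (pp y)))) = h y
  rw [h0]
  conv_rhs => rw [← split h2 y, map_add, map_smul, map_o hh]

theorem of_ext_mem (h2 : (2 : F) ≠ 0) {g : W F ≃ₗ[F] W F} (h : ext h2 g ∈ AutO F) :
    (∀ x y z, F0 (g x) (g y) (g z) = F0 x y z) ∧ LinearMap.det (g : W F →ₗ[F] W F) = 1 := by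
  have h1 : ∀ x y z, F0 (g x) (g y) (g z) = F0 x y z := by
    intro x y z
    have h3 := f0_eq (g x) (g y) (g z)
    rw [← ext_jj h2, ← ext_jj h2, ← ext_jj h2, ← mem_AutO.1 h, map_bl h, f0_eq] at h3
    exact (neg_injective h3).symm
  refine ⟨h1, ?_⟩
  have h3 := nm_map (g := (g : W F →ₗ[F] W F)) h1 ![1, 0, 0, 0, 0, 0, 0]
  have h4 : nm (jj ((g : W F →ₗ[F] W F) ![1, 0, 0, 0, 0, 0, 0])) = nm (jj ![1, 0, 0, 0, 0, 0, 0]) := by
    have := map_nm h (jj ![1, 0, 0, 0, 0, 0, 0])
    rwa [ext_jj] at this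
  rw [h4] at h3
  have h5 : nm (jj (![1, 0, 0, 0, 0, 0, 0] : W F)) = -1 := by
    simp only [nm, jj0, jj1, jj2, jj3, jj4, jj5, jj6, jj7, Matrix.cons_val_zero,
        Matrix.cons_val_one, Matrix.cons_val]
    ring
  rw [h5] at h3
  linear_combination -h3

/-- invertible matrices as linear equivalences -/
noncomputable def toE7 (K : Type*) [Field K] : GL (Fin 7) K ≃* (W K ≃ₗ[K] W K) :=
  Matrix.GeneralLinearGroup.toLin.trans (LinearMap.GeneralLinearGroup.generalLinearEquiv K (W K))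

theorem toE7_apply (g : GL (Fin 7) F) (x : W F) :
    toE7 F g x = (g : Matrix (Fin 7) (Fin 7) F) *ᵥ x := rfl

theorem toE7_coe (g : GL (Fin 7) F) :
    (toE7 F g : W F →ₗ[F] W F) = Matrix.toLin' (g : Matrix (Fin 7) (Fin 7) F) := by
  ext1 x
  rfl

/-- `G₂(F)` is the stabiliser of the standard 3-form in `SL₇(F)` -/
theorem m0_iso (h2 : (2 : F) ≠ 0) : Nonempty (M0 F ≃* Cfsg.Lie.G2 F) := by
  have h1 : ((M0 F).map ((ext h2).comp (toE7 F).toMonoidHom)) =
      (Cfsg.Lie.G2 F).map (toE F).toMonoidHom := by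
    ext h
    constructor
    · rintro ⟨g, hg, rfl⟩
      refine ⟨(toE F).symm (ext h2 (toE7 F g)), ?_, ?_⟩
      · show (toE F).symm (ext h2 (toE7 F g)) ∈ Cfsg.Lie.G2 F
        rw [← toE_mem, MulEquiv.apply_symm_apply]
        refine ext_mem h2 hg.2 ?_
        rw [toE7_coe, LinearMap.det_toLin']
        exact hg.1
      · exact MulEquiv.apply_symm_apply _ _
    · rintro ⟨k, hk, rfl⟩
      have hk' : toE F k ∈ AutO F := toE_mem.2 hk
      obtain ⟨g, hg⟩ := exists_ext h2 hk'
      rw [← hg] at hk'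
      obtain ⟨h3, h4⟩ := of_ext_mem h2 hk'
      refine ⟨(toE7 F).symm g, ?_, ?_⟩
      · have h5 : toE7 F ((toE7 F).symm g) = g := MulEquiv.apply_symm_apply _ _
        constructor
        · rw [← h5, toE7_coe, LinearMap.det_toLin'] at h4
          exact h4
        · intro x y z
          rw [← toE7_apply, ← toE7_apply, ← toE7_apply, h5]
          exact h3 x y z
      · show ext h2 (toE7 F ((toE7 F).symm g)) = toE F k
        rw [MulEquiv.apply_symm_apply, hg]
  have hi1 : Function.Injective ((ext h2).comp (toE7 F).toMonoidHom) :=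
    (ext_inj h2).comp (toE7 F).injective
  exact ⟨((M0 F).equivMapOfInjective _ hi1).trans ((MulEquiv.subgroupCongr h1).trans
    ((Cfsg.Lie.G2 F).equivMapOfInjective (toE F).toMonoidHom (toE F).injective).symm)⟩

end Cfsg.Agent.H856.G2M
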