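import Cfsg.Agent.H856.Sv2
import Cfsg.Agent.H637.SevenA8

/-!
# Maximal subgroups of Ω₇(q): the setting in linear algebra terms; fixed vectors of A₇

`Max7 Q H P` : `H` is maximal in `E(Q)`, `dim V = 7`, and `P` is a normal irreducible nonabelian simple subgroup.
`Max7.mem_of_preserve` : a finite set of fewer than `3 ^ 5` vectors preserved by `H` : every element of `E(Q)` preserving it is in `H`.
-/

set_option autoImplicit false
set_option linter.unusedSectionVars false

open scoped Pointwise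

namespace Cfsg.Agent.H856.Sv

open Equiv QuadraticMap Cfsg.Agent.LieClassical.OrthCore Cfsg.Agent.LieClassical.OrthTrans
open Cfsg.Agent.LieClassical.OrthFinite

variable {F : Type*} [Field F] {V : Type*} [AddCommGroup V] [Module F V]

/-- `H` is maximal in `E(Q)` with a normal irreducible simple subgroup `P`, in dimension 7 -/
structure Max7 (Q : QuadraticForm F V) (H P : Subgroup (V ≃ₗ[F] V)) : Prop where
  finrank_eq : Module.finrank F V = 7
  two_ne : (2 : F) ≠ 0
  nondeg : Nondeg Q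
  le : H ≤ E Q
  ne : H ≠ E Q
  max : ∀ M : Subgroup (V ≃ₗ[F] V), H ≤ M → M ≤ E Q → M = H ∨ M = E Q
  PH : P ≤ H
  normal : ∀ h ∈ H, ∀ x ∈ P, h * x * h⁻¹ ∈ P
  simple : IsSimpleGroup P
  perfect : ⁅P, P⁆ = P
  irr : ∀ W : Submodule F V, (∀ g ∈ P, ∀ w ∈ W, g w ∈ W) → W = ⊥ ∨ W = ⊤
  schur : ∀ L : V →ₗ[F] V, (∀ g ∈ P, ∀ v, L (g v) = g (L v)) → ∃ c : F, ∀ v, L v = c • v
  cent : ∀ h ∈ H, (∀ x ∈ P, h * x = x * h) → h = 1

namespace Max7

variable {Q : QuadraticForm F V} {H P : Subgroup (V ≃ₗ[F] V)} (hM : Max7 Q H P)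

include hM

theorem good [Finite F] : Good Q := good_of_finite hM.nondeg (by rw [hM.finrank_eq]; norm_num)

theorem comm_eq [Finite F] : ⁅O Q, O Q⁆ = E Q := hM.good.commutator_eq_E

theorem H_le_O [Finite F] : H ≤ O Q := by
  refine hM.le.trans ?_
  rw [← hM.comm_eq]
  exact Subgroup.commutator_le.2 fun a ha b hb => (O Q).mul_mem ((O Q).mul_mem ((O Q).mul_mem ha hb)
    ((O Q).inv_mem ha)) ((O Q).inv_mem hb)

theorem finiteDim : FiniteDimensional F V :=
  Module.finite_of_finrank_pos (by rw [hM.finrank_eq]; norm_num)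

theorem pol [Finite F] {h : V ≃ₗ[F] V} (hh : h ∈ H) (x y : V) : polar Q (h x) (h y) = polar Q x y := by
  have h1 := hM.H_le_O hh
  rw [mem_O] at h1
  simp only [polar, ← map_add, h1]

/-- no vector is fixed -/
theorem no_fix {w : V} (hw : w ≠ 0) (h : ∀ g ∈ P, g w = w) : False := by
  rcases hM.irr (Submodule.span F {w}) (fun g hg v hv => by
    rw [Submodule.mem_span_singleton] at hv ⊢
    obtain ⟨c, rfl⟩ := hv
    exact ⟨c, by rw [map_smul, h g hg]⟩) with h1 | h1
  · rw [Submodule.span_singleton_eq_bot] at h1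
    exact hw h1
  · have h2 : Module.finrank F (Submodule.span F {w}) = 7 := by
      rw [h1, finrank_top, hM.finrank_eq]
    have h3 := finrank_span_singleton (K := F) hw
    omega

/-- the stabiliser of a small set of vectors is in `H` -/
theorem mem_of_preserve [Finite F] {X : Set V} (hX : X.Finite) (hc : X.ncard < 243) {r : V} (hr : r ∈ X)
    (hr0 : r ≠ 0) (hHX : ∀ h ∈ H, ∀ x ∈ X, h x ∈ X) {g : V ≃ₗ[F] V} (hg : g ∈ E Q) (hgX : ∀ x ∈ X, g x ∈ X) :
    g ∈ H := by
  have inv : ∀ k : V ≃ₗ[F] V, (∀ x ∈ X, k x ∈ X) → ∀ x ∈ X, k⁻¹ x ∈ X := by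
    intro k hk x hx
    have h1 : Set.SurjOn k X X :=
      ((hX.injOn_iff_bijOn_of_mapsTo hk).1 k.injective.injOn).surjOn
    obtain ⟨y, hy, rfl⟩ := h1 hx
    rwa [show k⁻¹ (k y) = y from k.symm_apply_apply y]
  let M : Subgroup (V ≃ₗ[F] V) :=
    { carrier := {k | k ∈ E Q ∧ ∀ x ∈ X, k x ∈ X}
      mul_mem' := fun {a b} ha hb => ⟨(E Q).mul_mem ha.1 hb.1, fun x hx => ha.2 _ (hb.2 x hx)⟩
      one_mem' := ⟨(E Q).one_mem, fun x hx => hx⟩
      inv_mem' := fun {a} ha => ⟨(E Q).inv_mem ha.1, inv a ha.2⟩ }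
  rcases hM.max M (fun h hh => ⟨hM.le hh, hHX h hh⟩) (fun k hk => hk.1) with h1 | h1
  · rw [← h1]
    exact ⟨hg, hgX⟩
  · exfalso
    refine not_preserve hM.nondeg hM.finrank_eq hM.two_ne hX hc hr hr0 fun k hk => ?_
    rw [← h1] at hk
    exact hk.2

end Max7

/-! ### Fixed vectors of `A₇` -/

open Cfsg.Agent.H637.SevenA7 Cfsg.Agent.H637.SevenA8 in
theorem a7_fixed (h7 : Module.finrank F V = 7) (σ : alternatingGroup (Fin 7) →* (V ≃ₗ[F] V)) :
    ∃ w : V, w ≠ 0 ∧ ∀ g, σ g w = w := by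
  have hfin : FiniteDimensional F V := Module.finite_of_finrank_pos (by rw [h7]; norm_num)
  let e : V ≃ₗ[F] (Fin 7 → F) := LinearEquiv.ofFinrankEq V (Fin 7 → F) (by rw [h7, Module.finrank_fin_fun])
  let c : (V ≃ₗ[F] V) →* ((Fin 7 → F) ≃ₗ[F] (Fin 7 → F)) :=
    { toFun := fun g => (e.symm.trans g).trans e
      map_one' := by
        ext x
        simp
      map_mul' := fun g h => by
        apply LinearEquiv.ext
        intro x
        show e ((g * h) (e.symm x)) = e (g (e.symm (e (h (e.symm x)))))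
        rw [e.symm_apply_apply]
        rfl }
  obtain ⟨w, hw, hfix⟩ := exists_fixed_matrix (((glEquiv (Fin 7) F).symm.toMonoidHom).comp (c.comp σ))
  refine ⟨e.symm w, fun h => hw ?_, fun g => ?_⟩
  · rw [← e.apply_symm_apply w, h, map_zero]
  · have h1 := hfix g
    have h2 : (((glEquiv (Fin 7) F).symm (c (σ g)) : Matrix.GeneralLinearGroup (Fin 7) F) :
        Matrix (Fin 7) (Fin 7) F).mulVec w = c (σ g) w := by
      rw [← glEquiv_apply, MulEquiv.apply_symm_apply]
    have h3 : c (σ g) w = w := by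
      rw [← h2]
      exact h1
    have h4 : e (σ g (e.symm w)) = w := h3
    apply e.injective
    rw [h4, e.apply_symm_apply]

/-- a homomorphism to linear automorphisms as a representation -/
def endHom {G : Type*} [Group G] (τ : G →* (V ≃ₗ[F] V)) : G →* Module.End F V where
  toFun g := (τ g : V →ₗ[F] V)
  map_one' := by rw [map_one]; rfl
  map_mul' g h := by rw [map_mul]; rfl

@[simp] theorem endHom_apply {G : Type*} [Group G] (τ : G →* (V ≃ₗ[F] V)) (g : G) (v : V) :
    endHom τ g v = τ g v := rfl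

open Cfsg.Agent.H637.SevenA7 Cfsg.Agent.H637.SevenA8 in
/-- `A₈` in dimension 7: a fixed vector or the deleted permutation module. -/
theorem a8_cases (h7 : Module.finrank F V = 7) (h2 : (2 : F) ≠ 0) (τ : alternatingGroup (Fin 8) →* (V ≃ₗ[F] V)) :
    (∃ w : V, w ≠ 0 ∧ ∀ g, τ g w = w) ∨
    ∃ u : Fin 8 → V, Fr8 F u ∧ ∀ (g : alternatingGroup (Fin 8)) i, τ g (u i) = u ((g : Perm (Fin 8)) i) := by
  have hfin : FiniteDimensional F V := Module.finite_of_finrank_pos (by rw [h7]; norm_num)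
  obtain ⟨ι, hι⟩ := exists_stab_hom 7
  obtain ⟨w, hw, hfix⟩ := a7_fixed h7 (τ.comp ι)
  obtain ⟨u, hua, hu⟩ := exists_translates (by norm_num) (endHom τ) (Fin.last 7) w (by
    intro g hg
    obtain ⟨g', rfl⟩ := hι g hg
    exact hfix g')
  rcases dichotomy (by norm_num) h2 hu (by rw [h7]; norm_num) with h | ⟨h, -, hrel⟩
  · left
    refine ⟨w, hw, fun g => ?_⟩
    have h1 := hu g (Fin.last 7)
    rw [hua, endHom_apply] at h1
    rw [h1, ← hua]
    exact h _ _
  · right
    exact ⟨u, ⟨h, hrel⟩, hu⟩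

end Cfsg.Agent.H856.Sv
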