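import Cfsg.Agent.H179.G2H

/-!
# Alternating 3-forms: constructions (helper856)

* `mk3` : a trilinear form from a function;
* `ofTable` : `∑ T a b c · φ a x · φ b y · φ c z`;
* `descend` : an invariant form over an extension field gives one over the ground field.
-/

set_option autoImplicit false
set_option linter.unusedSectionVars false

namespace Cfsg.Agent.H856.Tri

open Cfsg.Agent.H179.G2

section mk3

variable {F : Type*} [Field F] {V : Type*} [AddCommGroup V] [Module F V]

/-- a trilinear form from a function -/
def mk3 (f : V → V → V → F) (a1 : ∀ x x' y z, f (x + x') y z = f x y z + f x' y z)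
    (s1 : ∀ (c : F) x y z, f (c • x) y z = c * f x y z)
    (a2 : ∀ x y y' z, f x (y + y') z = f x y z + f x y' z)
    (s2 : ∀ (c : F) x y z, f x (c • y) z = c * f x y z)
    (a3 : ∀ x y z z', f x y (z + z') = f x y z + f x y z')
    (s3 : ∀ (c : F) x y z, f x y (c • z) = c * f x y z) : V →ₗ[F] V →ₗ[F] V →ₗ[F] F :=
  LinearMap.mk₂ F (fun x y => ({ toFun := fun z => f x y z
                                 map_add' := fun z z' => a3 x y z z'
                                 map_smul' := fun c z => s3 c x y z } : V →ₗ[F] F))
    (fun x x' y => LinearMap.ext fun z => a1 x x' y z)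
    (fun c x y => LinearMap.ext fun z => s1 c x y z)
    (fun x y y' => LinearMap.ext fun z => a2 x y y' z)
    (fun c x y => LinearMap.ext fun z => s2 c x y z)

@[simp] theorem mk3_apply (f : V → V → V → F) (a1 s1 a2 s2 a3 s3) (x y z : V) :
    mk3 f a1 s1 a2 s2 a3 s3 x y z = f x y z := rfl

variable {X : Type*} [Fintype X]

/-- the form of a table -/
def ofTable (T : X → X → X → F) (φ : X → V →ₗ[F] F) : V →ₗ[F] V →ₗ[F] V →ₗ[F] F :=
  mk3 (fun x y z => ∑ a, ∑ b, ∑ c, T a b c * (φ a x * φ b y * φ c z))
    (fun x x' y z => by
      simp only [map_add, ← Finset.sum_add_distrib]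
      exact Finset.sum_congr rfl fun a _ => Finset.sum_congr rfl fun b _ => Finset.sum_congr rfl fun c _ => by ring)
    (fun r x y z => by
      simp only [map_smul, smul_eq_mul, Finset.mul_sum]
      exact Finset.sum_congr rfl fun a _ => Finset.sum_congr rfl fun b _ => Finset.sum_congr rfl fun c _ => by ring)
    (fun x y y' z => by
      simp only [map_add, ← Finset.sum_add_distrib]
      exact Finset.sum_congr rfl fun a _ => Finset.sum_congr rfl fun b _ => Finset.sum_congr rfl fun c _ => by ring)
    (fun r x y z => by
      simp only [map_smul, smul_eq_mul, Finset.mul_sum]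
      exact Finset.sum_congr rfl fun a _ => Finset.sum_congr rfl fun b _ => Finset.sum_congr rfl fun c _ => by ring)
    (fun x y z z' => by
      simp only [map_add, ← Finset.sum_add_distrib]
      exact Finset.sum_congr rfl fun a _ => Finset.sum_congr rfl fun b _ => Finset.sum_congr rfl fun c _ => by ring)
    (fun r x y z => by
      simp only [map_smul, smul_eq_mul, Finset.mul_sum]
      exact Finset.sum_congr rfl fun a _ => Finset.sum_congr rfl fun b _ => Finset.sum_congr rfl fun c _ => by ring)

theorem ofTable_apply (T : X → X → X → F) (φ : X → V →ₗ[F] F) (x y z : V) :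
    ofTable T φ x y z = ∑ a, ∑ b, ∑ c, T a b c * (φ a x * φ b y * φ c z) := rfl

theorem ofTable_isAlt (h2 : (2 : F) ≠ 0) {T : X → X → X → F} (φ : X → V →ₗ[F] F)
    (h12 : ∀ a b c, T b a c = - T a b c) (h23 : ∀ a b c, T a c b = - T a b c) : IsAltForm (ofTable T φ) where
  self x y := by
    have h : ofTable T φ x x y = - ofTable T φ x x y := by
      conv_lhs => rw [ofTable_apply, Finset.sum_comm]
      rw [ofTable_apply]
      simp only [← Finset.sum_neg_distrib]
      exact Finset.sum_congr rfl fun a _ => Finset.sum_congr rfl fun b _ => Finset.sum_congr rfl fun c _ => by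
        rw [h12]; ring
    have h3 : 2 * ofTable T φ x x y = 0 := by linear_combination h
    exact (mul_eq_zero.1 h3).resolve_left h2
  z23 x y := by
    have h : ofTable T φ x y y = - ofTable T φ x y y := by
      conv_lhs => rw [ofTable_apply]
      rw [ofTable_apply]
      simp only [← Finset.sum_neg_distrib]
      refine Finset.sum_congr rfl fun a _ => ?_
      rw [Finset.sum_comm]
      exact Finset.sum_congr rfl fun b _ => Finset.sum_congr rfl fun c _ => by
        rw [h23]; ring
    have h3 : 2 * ofTable T φ x y y = 0 := by linear_combination h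
    exact (mul_eq_zero.1 h3).resolve_left h2

/-- invariance -/
theorem ofTable_inv {T : X → X → X → F} {φ : X → V →ₗ[F] F} {g : V →ₗ[F] V} (σ : X ≃ X) (ε : X → F)
    (hφ : ∀ a x, φ a (g x) = ε a * φ (σ a) x)
    (hT : ∀ a b c, ε a * ε b * ε c * T a b c = T (σ a) (σ b) (σ c)) (x y z : V) :
    ofTable T φ (g x) (g y) (g z) = ofTable T φ x y z := by
  rw [ofTable_apply, ofTable_apply]
  conv_rhs => rw [← Equiv.sum_comp σ]
  refine Finset.sum_congr rfl fun a _ => ?_
  conv_rhs => rw [← Equiv.sum_comp σ]
  refine Finset.sum_congr rfl fun b _ => ?_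
  conv_rhs => rw [← Equiv.sum_comp σ]
  refine Finset.sum_congr rfl fun c _ => ?_
  rw [hφ, hφ, hφ, ← hT]
  ring

end mk3

section descend

variable {F : Type*} [Field F] {k : Type*} [Field k] [Algebra F k] {V : Type*} [AddCommGroup V] [Module F V]
  {W : Type*} [AddCommGroup W] [Module k W] [Module F W] [IsScalarTower F k W]

/-- an invariant form over an extension gives one over the ground field -/
theorem descend {f : W →ₗ[k] W →ₗ[k] W →ₗ[k] k} (hf : IsAltForm f) (hf0 : f ≠ 0) (c : V →ₗ[F] W)
    (hc : Submodule.span k (Set.range c) = ⊤) :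
    ∃ f' : V →ₗ[F] V →ₗ[F] V →ₗ[F] F, IsAltForm f' ∧ f' ≠ 0 ∧
      ∀ x y z x' y' z' : V, f (c x) (c y) (c z) = f (c x') (c y') (c z') → f' x y z = f' x' y' z' := by
  -- a nonzero value on the image
  obtain ⟨x, y, z, hxyz⟩ : ∃ x y z, f (c x) (c y) (c z) ≠ 0 := by
    by_contra hcon
    push Not at hcon
    apply hf0
    have h1 : ∀ x y (z : W), f (c x) (c y) z = 0 := by
      intro x y z
      have hz : z ∈ Submodule.span k (Set.range c) := by rw [hc]; trivial
      induction hz using Submodule.span_induction with
      | mem z hz => obtain ⟨z, rfl⟩ := hz; exact hcon x y z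
      | zero => rw [map_zero]
      | add a b _ _ ha hb => rw [map_add, ha, hb, add_zero]
      | smul r a _ ha => rw [map_smul, ha, smul_zero]
    have h2 : ∀ x (y z : W), f (c x) y z = 0 := by
      intro x y z
      have hy : y ∈ Submodule.span k (Set.range c) := by rw [hc]; trivial
      induction hy using Submodule.span_induction with
      | mem y hy => obtain ⟨y, rfl⟩ := hy; exact h1 x y z
      | zero => rw [map_zero, LinearMap.zero_apply]
      | add a b _ _ ha hb => rw [map_add, LinearMap.add_apply, ha, hb, add_zero]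
      | smul r a _ ha => rw [map_smul, LinearMap.smul_apply, ha, smul_zero]
    ext x y z
    have hx : x ∈ Submodule.span k (Set.range c) := by rw [hc]; trivial
    induction hx using Submodule.span_induction with
    | mem x hx => obtain ⟨x, rfl⟩ := hx; exact h2 x y z
    | zero => simp
    | add a b _ _ ha hb =>
      rw [map_add, LinearMap.add_apply, LinearMap.add_apply, ha, hb]
      simp
    | smul r a _ ha =>
      rw [map_smul, LinearMap.smul_apply, LinearMap.smul_apply, ha]
      simp
  obtain ⟨l, hl⟩ : ∃ l : k →ₗ[F] F, l (f (c x) (c y) (c z)) ≠ 0 := by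
    by_contra hcon
    push Not at hcon
    exact hxyz ((Module.forall_dual_apply_eq_zero_iff F _).1 hcon)
  have hs : ∀ (a : F) (w : W), a • w = algebraMap F k a • w := fun a w => (algebraMap_smul k a w).symm
  have hl' : ∀ (a : F) (w : k), l (algebraMap F k a * w) = a * l w := by
    intro a w
    rw [← Algebra.smul_def, map_smul, smul_eq_mul]
  refine ⟨mk3 (fun x y z => l (f (c x) (c y) (c z))) ?_ ?_ ?_ ?_ ?_ ?_, ⟨?_, ?_⟩, ?_, ?_⟩
  · intro x x' y z
    rw [map_add, map_add, LinearMap.add_apply, LinearMap.add_apply, map_add]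
  · intro a x y z
    rw [map_smul, hs, map_smul, LinearMap.smul_apply, LinearMap.smul_apply, smul_eq_mul, hl']
  · intro x y y' z
    rw [map_add, map_add, LinearMap.add_apply, map_add]
  · intro a x y z
    rw [map_smul, hs, map_smul, LinearMap.smul_apply, smul_eq_mul, hl']
  · intro x y z z'
    rw [map_add, map_add, map_add]
  · intro a x y z
    rw [map_smul, hs, map_smul, smul_eq_mul, hl']
  · intro x y
    rw [mk3_apply, hf.self, map_zero]
  · intro x y
    rw [mk3_apply, hf.z23, map_zero]
  · intro h
    apply hl
    have h1 := congrArg (fun g : V →ₗ[F] V →ₗ[F] V →ₗ[F] F => g x y z) h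
    simpa using h1
  · intro x y z x' y' z' h
    rw [mk3_apply, mk3_apply, h]

end descend

end Cfsg.Agent.H856.Tri
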