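import Mathlib

/-!
# Conjugacy of the elements of `A₇` to their inverses and squares
-/

set_option autoImplicit false

namespace Cfsg.Agent.H856.A7El

open Equiv.Perm

theorem multiset_seven (m : Multiset ℕ) (h2 : ∀ a ∈ m, 2 ≤ a) (hs : m.sum ≤ 7)
    (he : (m.sum + m.card) % 2 = 0) :
    m = {7} ∨ (((∀ a ∈ m, a ∣ 6) ∨ (∀ a ∈ m, a ∣ 4) ∨ (∀ a ∈ m, a ∣ 5)) ∧
      ¬ ((∀ c ∈ m, Odd c) ∧ 7 ≤ m.sum + 1 ∧ ∀ i, m.count i ≤ 1)) := by
  have hc : 2 * m.card ≤ m.sum := by
    have := Multiset.card_nsmul_le_sum (s := m) (a := 2) h2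
    simpa [mul_comm] using this
  have hc3 : m.card ≤ 3 := by omega
  interval_cases hk : m.card
  · rw [Multiset.card_eq_zero] at hk
    subst hk
    simp
  · obtain ⟨a, rfl⟩ := Multiset.card_eq_one.1 hk
    simp only [Multiset.mem_singleton, forall_eq, Multiset.sum_singleton] at *
    interval_cases a <;> simp at he ⊢ <;> omega
  · obtain ⟨a, b, rfl⟩ := Multiset.card_eq_two.1 hk
    simp only [Multiset.insert_eq_cons, Multiset.mem_cons, Multiset.mem_singleton, forall_eq_or_imp, forall_eq,
      Multiset.sum_cons, Multiset.sum_singleton] at *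
    right
    have ha : a ≤ 5 := by omega
    have hb : b ≤ 5 := by omega
    obtain ⟨ha2, hb2⟩ := h2
    interval_cases a <;> interval_cases b <;> first | omega | skip
    all_goals
      refine ⟨by decide, ?_⟩
      rintro ⟨h1, h3, h4⟩
      first
        | exact absurd h1 (by decide)
        | exact absurd (h4 3) (by decide)
        | omega
  · obtain ⟨a, b, c, rfl⟩ := Multiset.card_eq_three.1 hk
    simp only [Multiset.insert_eq_cons, Multiset.mem_cons, Multiset.mem_singleton, forall_eq_or_imp, forall_eq,
      Multiset.sum_cons, Multiset.sum_singleton] at *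
    right
    obtain ⟨ha2, hb2, hc2⟩ := h2
    have ha : a ≤ 3 := by omega
    have hb : b ≤ 3 := by omega
    have hc : c ≤ 3 := by omega
    interval_cases a <;> interval_cases b <;> interval_cases c <;> first | omega | skip
    all_goals
      refine ⟨by decide, ?_⟩
      rintro ⟨h1, h3, h4⟩
      first
        | exact absurd h1 (by decide)
        | exact absurd (h4 3) (by decide)
        | omega

theorem pow_eq_one {g : Equiv.Perm (Fin 7)} {n : ℕ} (h : ∀ a ∈ g.cycleType, a ∣ n) : g ^ n = 1 := by
  rw [← orderOf_dvd_iff_pow_eq_one, ← lcm_cycleType]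
  exact Multiset.lcm_dvd.2 h

/-- In `A₇` an element is conjugate to its inverse, or is of order `7` and conjugate to its square. -/
theorem elements (g : alternatingGroup (Fin 7)) :
    ((∃ y, y * g * y⁻¹ = g⁻¹) ∧ (g ^ 6 = 1 ∨ g ^ 4 = 1)) ∨ ((∃ y, y * g * y⁻¹ = g ^ 2) ∧ g ^ 7 = 1) ∨ g ^ 5 = 1 := by
  obtain ⟨g, hg⟩ := g
  have hs : g.cycleType.sum ≤ 7 := by
    have := g.sum_cycleType
    rw [this]
    exact (Finset.card_le_univ _).trans (by simp)
  have he : (g.cycleType.sum + g.cycleType.card) % 2 = 0 := by
    rw [mem_alternatingGroup, sign_of_cycleType] at hg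
    rcases Nat.mod_two_eq_zero_or_one (g.cycleType.sum + g.cycleType.card) with h | h
    · exact h
    · exfalso
      rw [(Nat.odd_iff.2 h).neg_one_pow] at hg
      exact absurd hg (by decide)
  have hsig : ∀ y : Equiv.Perm (Fin 7), sign y = 1 ∨ sign y = -1 := fun y => Int.units_eq_one_or _
  rcases multiset_seven g.cycleType (fun a ha => two_le_of_mem_cycleType ha) hs he with h7 | ⟨hord, hodd⟩
  · right; left
    have ho : orderOf g = 7 := by
      rw [← lcm_cycleType, h7]
      simp
    have hg7 : g ^ 7 = 1 := by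
      have := pow_orderOf_eq_one g
      rwa [ho] at this
    have hcen : Subgroup.centralizer {g} ≤ alternatingGroup (Fin 7) := by
      rw [centralizer_le_alternating_iff, h7]
      refine ⟨by simp; decide, by simp, fun i => ?_⟩
      rw [Multiset.count_singleton]
      split_ifs <;> omega
    have hconj : IsConj g (g ^ 2) := by
      rw [isConj_iff_cycleType_eq]
      have h2 : orderOf (g ^ 2) = 7 := by
        rw [orderOf_pow, ho]; norm_num
      have h1 : (g ^ 2).cycleType.lcm = 7 := by rw [lcm_cycleType, h2]
      have hs2 : (g ^ 2).cycleType.sum ≤ 7 := by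
        rw [(g ^ 2).sum_cycleType]
        exact (Finset.card_le_univ _).trans (by simp)
      have h7' : 7 ∈ (g ^ 2).cycleType := by
        by_contra hcon
        have h3 : (g ^ 2).cycleType.lcm ∣ 60 := by
          rw [Multiset.lcm_dvd]
          intro b hb
          have hb2 := two_le_of_mem_cycleType hb
          have hb7 : b ≤ 7 := (Multiset.le_sum_of_mem hb).trans hs2
          have hne : b ≠ 7 := fun h => hcon (h ▸ hb)
          interval_cases b <;> first | omega | norm_num
        rw [h1] at h3
        norm_num at h3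
      obtain ⟨t, ht⟩ := Multiset.exists_cons_of_mem h7'
      rw [h7, ht]
      have ht0 : t.sum = 0 := by
        rw [ht, Multiset.sum_cons] at hs2
        omega
      have : t = 0 := by
        apply Multiset.eq_zero_of_forall_notMem
        intro b hb
        have h5 := Multiset.le_sum_of_mem hb
        have h6 := two_le_of_mem_cycleType (σ := g ^ 2) (n := b) (by rw [ht]; exact Multiset.mem_cons_of_mem hb)
        omega
      rw [this]
      rfl
    obtain ⟨y, hy⟩ := isConj_iff.1 hconj
    have hy3 : y ^ 3 ∈ Subgroup.centralizer {g} := by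
      rw [Subgroup.mem_centralizer_singleton_iff]
      have e1 : y * g = g ^ 2 * y := by rw [← hy]; group
      have e2 : y ^ 3 * g = g ^ 8 * y ^ 3 := by
        have e2' : y * g ^ 2 = g ^ 4 * y := by
          rw [sq, ← mul_assoc, e1, mul_assoc, e1, ← mul_assoc, ← pow_add]
        have e3' : y * g ^ 4 = g ^ 8 * y := by
          rw [show g ^ 4 = g ^ 2 * g ^ 2 by rw [← pow_add], ← mul_assoc, e2', mul_assoc, e2', ← mul_assoc, ← pow_add]
        calc y ^ 3 * g = y * (y * (y * g)) := by rw [pow_succ, sq]; simp only [mul_assoc]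
          _ = g ^ 8 * y ^ 3 := by
            rw [e1, ← mul_assoc y (g ^ 2), e2', mul_assoc (g ^ 4), ← mul_assoc y (g ^ 4), e3']
            rw [pow_succ y, sq]; simp only [mul_assoc]
      have e3 : g ^ 8 = g := by
        rw [show 8 = 7 + 1 from rfl, pow_succ, hg7, one_mul]
      rw [e2, e3]
    have hysig : sign y = 1 := by
      rcases hsig y with h | h
      · exact h
      · have := hcen hy3
        rw [mem_alternatingGroup, map_pow, h] at this
        exact absurd this (by decide)
    refine ⟨⟨⟨y, mem_alternatingGroup.2 hysig⟩, Subtype.ext hy⟩, Subtype.ext ?_⟩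
    exact hg7
  · have hreal : ∃ y : alternatingGroup (Fin 7), y * ⟨g, hg⟩ * y⁻¹ = (⟨g, hg⟩ : alternatingGroup (Fin 7))⁻¹ := by
      have hconj : IsConj g g⁻¹ := by
        rw [isConj_iff_cycleType_eq, cycleType_inv]
      obtain ⟨y, hy⟩ := isConj_iff.1 hconj
      have hncen : ¬ Subgroup.centralizer {g} ≤ alternatingGroup (Fin 7) := by
        rw [centralizer_le_alternating_iff]
        rw [Fintype.card_fin]
        exact hodd
      rw [SetLike.le_def] at hncen
      push Not at hncen
      obtain ⟨z, hz, hzn⟩ := hncen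
      rw [Subgroup.mem_centralizer_singleton_iff] at hz
      rcases hsig y with h | h
      · exact ⟨⟨y, mem_alternatingGroup.2 h⟩, Subtype.ext hy⟩
      · refine ⟨⟨y * z, ?_⟩, Subtype.ext ?_⟩
        · rw [mem_alternatingGroup, map_mul, h]
          rcases hsig z with h' | h'
          · exact (hzn (mem_alternatingGroup.2 h')).elim
          · rw [h']; decide
        · change y * z * g * (y * z)⁻¹ = g⁻¹
          rw [mul_inv_rev, mul_assoc y z g, hz, ← hy]
          group
    rcases hord with h | h | h
    · left
      exact ⟨hreal, Or.inl (Subtype.ext (pow_eq_one h))⟩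
    · left
      exact ⟨hreal, Or.inr (Subtype.ext (pow_eq_one h))⟩
    · right; right
      exact Subtype.ext (pow_eq_one h)

end Cfsg.Agent.H856.A7El
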