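import Cfsg.Agent.H906.TrTools
import Cfsg.Agent.H906.Proj
import Cfsg.Agent.H856.A7El

/-!
# `P / scalars ≅ A₇` in dimension three, characteristic five
-/

set_option autoImplicit false
set_option linter.unusedSectionVars false

namespace Cfsg.Agent.H856.A7Tr

open Cfsg Cfsg.Geo Cfsg.Agent.H906
open scoped MatrixGroups Matrix

section abstract

variable {G : Type*} [Group G] {a c m : G}

theorem conj_pow_central {n : ℕ} (hkc : ∀ g : G, g * a ^ n = a ^ n * g) : (c * a * c⁻¹) ^ n = a ^ n := by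
  rw [conj_pow, hkc c, mul_assoc, mul_inv_cancel, mul_one]

theorem abs_six (hm3 : m ^ 3 = 1) (hmc : ∀ g : G, g * m = m * g) (hk3 : (a ^ 6) ^ 3 = 1)
    (hkc : ∀ g : G, g * a ^ 6 = a ^ 6 * g) (h : c * a * c⁻¹ = m * a⁻¹) : a ^ 5 = a⁻¹ := by
  have hmcomm : Commute m a⁻¹ := (hmc a⁻¹).symm
  have e1 := conj_pow_central (c := c) hkc
  rw [h, hmcomm.mul_pow, show m ^ 6 = (m ^ 3) ^ 2 by rw [← pow_mul], hm3, one_pow, one_mul, inv_pow] at e1
  have e2 : (a ^ 6) ^ 2 = 1 := by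
    rw [sq]
    nth_rewrite 1 [← e1]
    rw [inv_mul_cancel]
  have e3 : a ^ 6 = 1 := by
    have : (a ^ 6) ^ 3 = (a ^ 6) ^ 2 * a ^ 6 := pow_succ _ _
    rw [hk3, e2, one_mul] at this
    exact this.symm
  have e4 : a ^ 6 = a ^ 5 * a := pow_succ _ _
  rw [e3] at e4
  exact eq_inv_of_mul_eq_one_left e4.symm

theorem abs_four (hm3 : m ^ 3 = 1) (hmc : ∀ g : G, g * m = m * g) (hk3 : (a ^ 4) ^ 3 = 1)
    (hkc : ∀ g : G, g * a ^ 4 = a ^ 4 * g) (h : c * a * c⁻¹ = m * a⁻¹) : c * a ^ 5 * c⁻¹ = a⁻¹ := by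
  have hmcomm : Commute m a⁻¹ := (hmc a⁻¹).symm
  have e1 := conj_pow_central (c := c) hkc
  rw [h, hmcomm.mul_pow, show m ^ 4 = m ^ 3 * m by rw [← pow_succ], hm3, one_mul, inv_pow] at e1
  have e2 : m = a ^ 4 * a ^ 4 := by rw [← eq_mul_inv_iff_mul_eq, inv_inv] at e1; exact e1
  have e3 : a ^ 4 * m = 1 := by
    rw [e2, ← mul_assoc, ← sq, ← pow_succ, hk3]
  rw [show a ^ 5 = a ^ 4 * a from pow_succ _ _, ← mul_assoc, hkc c, mul_assoc, mul_assoc, ← mul_assoc c, h,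
    ← mul_assoc, e3, one_mul]

theorem abs_seven (hm3 : m ^ 3 = 1) (hmc : ∀ g : G, g * m = m * g)
    (hkc : ∀ g : G, g * a ^ 7 = a ^ 7 * g) (h : c * a * c⁻¹ = m * a ^ 2) : c * a⁻¹ * c⁻¹ = a ^ 5 := by
  have hmcomm : Commute m (a ^ 2) := (hmc (a ^ 2)).symm
  have e1 := conj_pow_central (c := c) hkc
  rw [h, hmcomm.mul_pow, show m ^ 7 = (m ^ 3) ^ 2 * m by rw [← pow_mul, ← pow_succ], hm3, one_pow, one_mul,
    ← pow_mul] at e1
  have e2 : m * a ^ 7 = 1 := by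
    have : m * a ^ (2 * 7) = m * a ^ 7 * a ^ 7 := by rw [mul_assoc, ← pow_add]
    rw [this] at e1
    exact mul_eq_right.1 e1
  have e3 : (c * a * c⁻¹)⁻¹ = a ^ 5 := by
    rw [h]
    apply inv_eq_of_mul_eq_one_right
    rw [mul_assoc, ← pow_add, e2]
  rw [← e3]
  group

end abstract

variable {F : Type*} [Field F] {P : Subgroup (GL (Fin 3) F)} {Γ : Type*} [Group Γ]
  {Φ : (P ⧸ (scalars (Fin 3) F).subgroupOf P) ≃* Γ}

/-- The kernel of `P → Γ` is central of exponent three. -/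
theorem ker_facts (hperf : ⁅P, P⁆ = P) {z : P} (hz : pr Φ z = 1) : z ^ 3 = 1 ∧ ∀ g : P, g * z = z * g := by
  have h1 := (pr_eq_one Φ).1 hz
  refine ⟨Subtype.ext (scalar_pow_three (le_specialLinear hperf) z.2 h1), fun g => ?_⟩
  have h2 := scalars_le_center (P := P) (show z ∈ (scalars (Fin 3) F).subgroupOf P from h1)
  exact Subgroup.mem_center_iff.1 h2 g

/-- Lifting a conjugation: `c a c⁻¹ = m b` with `m` in the kernel. -/
theorem lift_conj {a b : P} {y : Γ} (h : y * pr Φ a * y⁻¹ = pr Φ b) :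
    ∃ c m : P, pr Φ m = 1 ∧ c * a * c⁻¹ = m * b := by
  obtain ⟨c, hc⟩ := pr_surjective Φ y
  refine ⟨c, c * a * c⁻¹ * b⁻¹, ?_, by group⟩
  rw [map_mul, map_mul, map_mul, map_inv, map_inv, hc, h, mul_inv_cancel]

theorem conj_five (hperf : ⁅P, P⁆ = P)
    (Φ : (P ⧸ (scalars (Fin 3) F).subgroupOf P) ≃* alternatingGroup (Fin 7)) (a : P)
    (hcop : (orderOf a).Coprime 5) : ∃ c : P, c * a ^ 5 * c⁻¹ = a⁻¹ ∨ c * a⁻¹ * c⁻¹ = a ^ 5 := by
  have hk := fun (n : ℕ) (h : pr Φ a ^ n = 1) => ker_facts (Φ := Φ) hperf (z := a ^ n) (by rw [map_pow, h])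
  rcases A7El.elements (pr Φ a) with ⟨⟨y, hy⟩, h6 | h4⟩ | ⟨⟨y, hy⟩, h7⟩ | h5
  · rw [← map_inv] at hy
    obtain ⟨c, m, hm, hcm⟩ := lift_conj hy
    obtain ⟨hm3, hmc⟩ := ker_facts hperf hm
    obtain ⟨hk3, hkc⟩ := hk 6 h6
    refine ⟨1, Or.inl ?_⟩
    rw [one_mul, inv_one, mul_one]
    exact abs_six hm3 hmc hk3 hkc hcm
  · rw [← map_inv] at hy
    obtain ⟨c, m, hm, hcm⟩ := lift_conj hy
    obtain ⟨hm3, hmc⟩ := ker_facts hperf hm
    obtain ⟨hk3, hkc⟩ := hk 4 h4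
    exact ⟨c, Or.inl (abs_four hm3 hmc hk3 hkc hcm)⟩
  · rw [← map_pow] at hy
    obtain ⟨c, m, hm, hcm⟩ := lift_conj hy
    obtain ⟨hm3, hmc⟩ := ker_facts hperf hm
    obtain ⟨hk3, hkc⟩ := hk 7 h7
    exact ⟨c, Or.inr (abs_seven hm3 hmc hkc hcm)⟩
  · have h1 : pr Φ a = 1 := by
      have h2 : orderOf (pr Φ a) ∣ 5 := orderOf_dvd_of_pow_eq_one h5
      have h3 : orderOf (pr Φ a) ∣ orderOf a := orderOf_map_dvd (pr Φ) a
      have h4 : orderOf (pr Φ a) ∣ 1 := by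
        rw [← hcop]
        exact Nat.dvd_gcd h3 h2
      exact orderOf_eq_one_iff.1 (Nat.dvd_one.1 h4)
    have h2 := (ker_facts hperf h1).1
    refine ⟨1, Or.inl ?_⟩
    rw [one_mul, inv_one, mul_one]
    apply eq_inv_of_mul_eq_one_left
    rw [← pow_succ, show 5 + 1 = 3 * 2 from rfl, pow_mul, h2, one_pow]

/-- **`A₇`** in characteristic five. -/
theorem A7_five [Finite F] (hP : ActsAbsolutelyIrreducibly (matrixSet P)) (hperf : ⁅P, P⁆ = P)
    (hns : ∀ F₀ : Subfield F, F₀ ≠ ⊤ → ¬ RealisableOver F₀ (matrixSet P)) [CharP F 5]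
    (Φ : (P ⧸ (scalars (Fin 3) F).subgroupOf P) ≃* alternatingGroup (Fin 7)) :
    (∃ Q : (Fin 3 → F) → F, IsNondegenerateQuadraticForm Q ∧ FixesQuadForm (matrixSet P) Q) ∨
    (Nat.card F = 5 ^ 2 ∧ ∃ (σ : F ≃+* F) (f : (Fin 3 → F) → (Fin 3 → F) → F),
        (∀ x, σ x = x ^ 5) ∧ IsUnitaryForm σ f ∧ FixesForm (matrixSet P) f) := by
  have h5p : Fact (Nat.Prime 5) := ⟨by norm_num⟩
  have htr : ∀ g ∈ P, (g : Matrix (Fin 3) (Fin 3) F).trace ^ 5 ^ 1 =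
      ((g⁻¹ : GL (Fin 3) F) : Matrix (Fin 3) (Fin 3) F).trace := by
    intro g hg
    rw [pow_one]
    refine trace_of_reg 5 5 (fun s hs hcop => ?_) g hg
    rw [trace_pow_GL]
    obtain ⟨c, hc | hc⟩ := conj_five hperf Φ ⟨s, hs⟩ (by rwa [← Subgroup.orderOf_coe])
    · have h1 : (c : GL (Fin 3) F) * s ^ 5 * (c : GL (Fin 3) F)⁻¹ = s⁻¹ := congrArg Subtype.val hc
      rw [← h1, trace_conj]
    · have h1 : (c : GL (Fin 3) F) * s⁻¹ * (c : GL (Fin 3) F)⁻¹ = s ^ 5 := congrArg Subtype.val hc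
      rw [← h1, trace_conj]
  obtain ⟨h1, ⟨-, -, hQ⟩ | ⟨⟨x, hx⟩, hU⟩⟩ := form_of_trace hP 5 1 hns htr
  · exact Or.inl hQ
  · right
    refine ⟨?_, ?_⟩
    · have := Fintype.ofFinite F
      obtain ⟨e, he0, he⟩ := FiniteField.card F 5
      rw [← Nat.card_eq_fintype_card] at he
      have h6 := card_le_of_pow_eq (by norm_num) h1
      have h7 : Nat.card F - 1 ≤ 5 ^ 1 * 5 ^ 1 - 1 := Nat.le_of_dvd (by norm_num) h6
      have h8 : (e : ℕ) ≤ 2 := by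
        by_contra hcon
        have : 5 ^ 3 ≤ Nat.card F := by
          rw [he]
          exact Nat.pow_le_pow_right (by norm_num) (by omega)
        omega
      have h9 : (e : ℕ) = 1 ∨ (e : ℕ) = 2 := by have := e.pos; omega
      rcases h9 with h9 | h9
      · exfalso
        apply hx
        rw [h9] at he
        have := FiniteField.pow_card x
        rw [← Nat.card_eq_fintype_card, he] at this
        exact this
      · rw [he, h9]
    · simpa using hU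

end Cfsg.Agent.H856.A7Tr
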