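import Cfsg.Agent.H856.U3Excl
import Cfsg.Agent.H856.A7Tr
import Cfsg.Agent.H906.CoreFinal
import Cfsg.Agent.H921.UnitBase
import Cfsg.Agent.S0278
import Cfsg.Agent.S0279
import Cfsg.Agent.Schreier.ClassBase

/-!
# The residual class of `SU₃(q)`
-/

set_option autoImplicit false
set_option linter.unusedSectionVars false

namespace Cfsg.Agent.H856.U3

open Cfsg Cfsg.Geo Matrix
open Cfsg.Agent.H906 Cfsg.Agent.H918 Cfsg.Agent.LieClassical.HermBasic
open scoped MatrixGroups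

universe u

variable {F : Type u} [Field F] [Fintype F] {q : ℕ}

theorem herm_isUnitaryForm (hF : Fintype.card F = q ^ 2) : IsUnitaryForm (conj hF) (hermForm 3 F q) where
  ne_refl := Cfsg.Agent.H921.conj_ne_refl hF
  involutive := fun a => pow_q_pow_q hF a
  add_left := fun x y v => herm_add_left x y v
  smul_left := fun c x v => herm_smul_left c x v
  herm := fun v w => herm_swap hF w v
  nondegenerate := by
    intro v hv
    obtain ⟨x, hx⟩ := exists_herm_ne_zero hF hv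
    refine ⟨⟨x, fun h => hx (herm_eq_zero_swap hF h)⟩, ⟨x, hx⟩⟩

theorem sq_inj {a b : ℕ} (h : a ^ 2 = b ^ 2) : a = b := Nat.pow_left_injective (by norm_num : 2 ≠ 0) h

theorem not_prime_sq {p : ℕ} (hp : p.Prime) (h : q ^ 2 = p) : False := by
  rw [← h] at hp
  exact (Nat.Prime.eq_one_of_pow hp |> fun h => by omega)

/-- The case `P / scalars ≅ U₃(q)`. -/
theorem psu_case (hF : Fintype.card F = q ^ 2) (hq : 3 ≤ q) {H P : Subgroup (GL (Fin 3) F)}
    (hH : IsMaximalIn (SUg 3 F q) H) (hPH : P ≤ H) {K : Type} [Field K] [Fintype K]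
    (hK : Fintype.card K = q ^ 2)
    (Φ : (P ⧸ (scalars (Fin 3) F).subgroupOf P) ≃* Cfsg.PSU 3 K q) : False := by
  have hcF := Cfsg.Agent.H907.SU3.card_SUg hF
  have hcK := Cfsg.Agent.H907.SU3.card_SUg hK
  have hSU : Nat.card (Cfsg.SU 3 K q) = Nat.card (SUg 3 F q) := by
    rw [hcF, ← hcK, ← range_suHom]
    exact Nat.card_congr (MonoidHom.ofInjective suHom_injective).toEquiv
  have hcen := Cfsg.Agent.S0279.result hK 3 (le_refl 3)
  have h1 := Subgroup.card_eq_card_quotient_mul_card_subgroup (Subgroup.center (Cfsg.SU 3 K q))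
  have h2 := Subgroup.card_eq_card_quotient_mul_card_subgroup ((scalars (Fin 3) F).subgroupOf P)
  rw [hSU, hcen, ← Nat.card_congr Φ.toEquiv] at h1
  have hPS : P ≤ SUg 3 F q := hPH.trans hH.1.le
  set n := Nat.card (P ⧸ (scalars (Fin 3) F).subgroupOf P) with hn
  have hfinG : Finite (GL (Fin 3) F) := inferInstance
  have h3 : Nat.gcd 3 (q + 1) ≤ 3 := Nat.le_of_dvd (by norm_num) (Nat.gcd_dvd_left _ _)
  have h4 : 1 ≤ Nat.card ((scalars (Fin 3) F).subgroupOf P) := Nat.card_pos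
  have h5 : Nat.card (SUg 3 F q) ≤ 3 * Nat.card P := by
    rw [h1, h2]
    calc n * Nat.gcd 3 (q + 1) ≤ n * 3 := Nat.mul_le_mul_left _ h3
      _ = 3 * (n * 1) := by ring
      _ ≤ _ := Nat.mul_le_mul_left _ (Nat.mul_le_mul_left _ h4)
  have h6 := (P.subgroupOf (SUg 3 F q)).card_mul_index
  have h7 : Nat.card (P.subgroupOf (SUg 3 F q)) = Nat.card P :=
    Nat.card_congr (Subgroup.subgroupOfEquivOfLe hPS).toEquiv
  rw [h7] at h6
  have hPpos : 0 < Nat.card P := Nat.card_pos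
  have h8 : (P.subgroupOf (SUg 3 F q)).index ≤ 3 := by
    rw [← h6, mul_comm 3] at h5
    exact Nat.le_of_mul_le_mul_left h5 hPpos
  have hperf := SUg_perfect (F := F) (q := q) (n := 3) hF (le_refl 3) (by omega)
  have h9 := Cfsg.Agent.Schreier.ClassBase.le_of_index_le_four (A := SUg 3 F q) (C := ⊤) (by
    apply Subgroup.map_injective (SUg 3 F q).subtype_injective
    rw [Subgroup.map_commutator, ← MonoidHom.range_eq_map, Subgroup.range_subtype]
    exact hperf) (P.subgroupOf (SUg 3 F q)) Subgroup.index_ne_zero_of_finite (by omega)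
  have h10 : SUg 3 F q ≤ H := by
    intro g hg
    exact hPH (Subgroup.mem_subgroupOf.1 (h9 (Subgroup.mem_top ⟨g, hg⟩)))
  exact (lt_irrefl _ (lt_of_lt_of_le hH.1 h10))

theorem A7_concl {P : Subgroup (GL (Fin 3) F)} (hP : ActsAbsolutelyIrreducibly (matrixSet P)) (hperf : ⁅P, P⁆ = P)
    (hns : ∀ F₀ : Subfield F, F₀ ≠ ⊤ → ¬ RealisableOver F₀ (matrixSet P)) (p : ℕ) [CharP F p] (hp5 : p = 5)
    (h : Nonempty ((P ⧸ (scalars (Fin 3) F).subgroupOf P) ≃* alternatingGroup (Fin 7))) : Concl P p := by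
  subst hp5
  obtain ⟨Φ⟩ := h
  rcases Cfsg.Agent.H856.A7Tr.A7_five hP hperf hns Φ with h1 | ⟨h1, h2⟩
  · exact Or.inr (Or.inl h1)
  · exact Or.inr (Or.inr (Or.inr (Or.inr (Or.inr ⟨rfl, h1, h2, ⟨Φ⟩⟩))))

theorem simple_L {P : Subgroup (GL (Fin 3) F)} (hsimp : IsSimpleGroup (P ⧸ (scalars (Fin 3) F).subgroupOf P))
    (hZ : ∀ g ∈ P, g ∈ scalars (Fin 3) F → g = 1)
    (Φ : (P ⧸ (scalars (Fin 3) F).subgroupOf P) ≃* Matrix.ProjectiveSpecialLinearGroup (Fin 3) (ZMod 2)) :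
    IsSimpleGroup L := by
  have e : L ≃* (P ⧸ (scalars (Fin 3) F).subgroupOf P) :=
    (MulEquiv.ofBijective (QuotientGroup.mk' (Subgroup.center L)) (by
      refine ⟨?_, QuotientGroup.mk'_surjective _⟩
      rw [← MonoidHom.ker_eq_bot_iff, QuotientGroup.ker_mk']
      exact center_L)).trans Φ.symm
  have hnt : Nontrivial L := e.toEquiv.nontrivial
  exact IsSimpleGroup.isSimpleGroup_of_surjective e.symm.toMonoidHom e.symm.surjective

theorem main (hF : Fintype.card F = q ^ 2) (hq : 3 ≤ q) (H : Subgroup (GL (Fin 3) F))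
    (hH : IsMaximalIn (SUg 3 F q) H) (hS : InUnitaryResidualClass H) :
    ∃ P : Subgroup (GL (Fin 3) F), IsResidualCore H P ∧ q.Prime ∧
    ((Nonempty ((P ⧸ (scalars (Fin 3) F).subgroupOf P) ≃* Matrix.ProjectiveSpecialLinearGroup (Fin 3) (ZMod 2)) ∧
        q ≠ 5 ∧ (q % 7 = 3 ∨ q % 7 = 5 ∨ q % 7 = 6)) ∨
     (Nonempty ((P ⧸ (scalars (Fin 3) F).subgroupOf P) ≃* alternatingGroup (Fin 6)) ∧
        (q % 15 = 11 ∨ q % 15 = 14 ∨ q = 5)) ∨
     (Nonempty ((P ⧸ (scalars (Fin 3) F).subgroupOf P) ≃* alternatingGroup (Fin 7)) ∧ q = 5)) := by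
  obtain ⟨P, hcore, hnQ, -⟩ := hS
  obtain ⟨p, hpc⟩ := CharP.exists F
  have hp : p.Prime := CharP.char_is_prime F p
  have hpf : Fact p.Prime := ⟨hp⟩
  have hC := core_of hcore.absIrred hcore.perfect hcore.simple hcore.nonabelian hcore.no_subfield p
    (A7_concl hcore.absIrred hcore.perfect hcore.no_subfield p)
  have hcard : Nat.card F = q ^ 2 := by rw [Nat.card_eq_fintype_card, hF]
  refine ⟨P, hcore, ?_⟩
  rcases hC with h | h | ⟨K, _, _, m, hK, -, hm, -, ⟨Φ⟩⟩ | ⟨-, -, ⟨Φ⟩, h | ⟨h, hmod, -⟩⟩ | ⟨-, hΦ, h | ⟨h, hmod, -⟩ | ⟨-, -, h⟩⟩ |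
    ⟨hp5, h, -, hΦ⟩
  · exfalso
    have h1 : SUg 3 F q ≤ H := by
      refine le_trans inf_le_right ?_
      rw [← h]; exact hcore.le
    exact (lt_irrefl _ (lt_of_lt_of_le hH.1 h1))
  · exact absurd h hnQ
  · exfalso
    rw [hcard] at hm
    have hqm := sq_inj hm
    subst hqm
    exact psu_case hF hq hH hcore.le hK Φ
  · exfalso
    exact not_prime_sq hp (by rw [← hcard]; exact h.1)
  · rw [hcard] at h
    have hqp := sq_inj h
    subst hqp
    refine ⟨hp, Or.inl ⟨⟨Φ⟩, ?_, hmod⟩⟩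
    rintro rfl
    have hZ := no_scalars hcore.perfect Φ
    have := simple_L hcore.simple hZ Φ
    exact not_maximal hF hH hcore.le hcore.normal (lift hZ Φ)
  · exfalso
    exact not_prime_sq hp (by rw [← hcard]; exact h.1)
  · rw [hcard] at h
    have hqp := sq_inj h
    subst hqp
    exact ⟨hp, Or.inr (Or.inl ⟨hΦ, hmod⟩)⟩
  · exfalso
    apply h
    refine ⟨conj hF, hermForm 3 F q, herm_isUnitaryForm hF, ?_⟩
    rintro _ ⟨g, hg, rfl⟩ u v
    exact mem_GU.1 (hH.1.le (hcore.le hg)).1 u v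
  · rw [hcard] at h
    have hqp := sq_inj h
    subst hqp
    exact ⟨hp, Or.inr (Or.inr ⟨hΦ, hp5⟩)⟩

end Cfsg.Agent.H856.U3
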