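import Cfsg.Agent.SporadicB.J1.Main

/-!
# Relations in the first Janko group (helper856)

`a0, a1, a2` generate a `2³`, `X` of order 7 and `d` of order 3 normalise it, `w` is an involution inverting `X`
and centralising `d`.
-/

set_option autoImplicit false

namespace Cfsg.Agent.H856.JOne

open Cfsg.Agent.SporadicB.J1.Mat Cfsg.Agent.SporadicB.J1.Data Cfsg.Agent.SporadicB.J1.Main
open Cfsg.Spor (J1)

/-- words -/
abbrev wt : List Nat := [0, 1, 0, 3]
abbrev wt1 : List Nat := [0, 0, 1, 0, 3, 2]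
abbrev wt2 : List Nat := [0, 0, 0, 1, 0, 3, 2, 2]
abbrev ww : List Nat := [0, 0, 1, 0, 0, 3, 2, 1]
abbrev wd : List Nat := [1, 0, 1, 0, 1, 2, 1, 1, 2, 1, 0, 0, 1, 1, 2, 1]
abbrev wg : List Nat := [0, 0, 0, 1, 1, 2, 2, 2]
abbrev wh : List Nat := [0, 0, 1, 1, 2, 1, 0, 1, 1, 0, 1, 1]
abbrev wk : List Nat := [3, 0, 1, 2, 3, 3, 0, 3, 0, 3, 0]

theorem r_sq0 : ev wt * ev wt = 1 := ((rep_ev _).mul (rep_ev _)).eq Rep.one (by decide +kernel)
theorem r_sq1 : ev wt1 * ev wt1 = 1 := ((rep_ev _).mul (rep_ev _)).eq Rep.one (by decide +kernel)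
theorem r_sq2 : ev wt2 * ev wt2 = 1 := ((rep_ev _).mul (rep_ev _)).eq Rep.one (by decide +kernel)
theorem r_01 : ev wt * ev wt1 = ev wt1 * ev wt :=
  ((rep_ev _).mul (rep_ev _)).eq ((rep_ev _).mul (rep_ev _)) (by decide +kernel)
theorem r_02 : ev wt * ev wt2 = ev wt2 * ev wt :=
  ((rep_ev _).mul (rep_ev _)).eq ((rep_ev _).mul (rep_ev _)) (by decide +kernel)
theorem r_12 : ev wt1 * ev wt2 = ev wt2 * ev wt1 :=
  ((rep_ev _).mul (rep_ev _)).eq ((rep_ev _).mul (rep_ev _)) (by decide +kernel)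
theorem r_k0 : X * ev wt = ev wt1 * X :=
  (repX.mul (rep_ev _)).eq ((rep_ev _).mul repX) (by decide +kernel)
theorem r_k1 : X * ev wt1 = ev wt2 * X :=
  (repX.mul (rep_ev _)).eq ((rep_ev _).mul repX) (by decide +kernel)
theorem r_k2 : X * ev wt2 = ev wt * (ev wt1 * X) :=
  (repX.mul (rep_ev _)).eq ((rep_ev _).mul ((rep_ev _).mul repX)) (by decide +kernel)
theorem r_7 : X ^ 7 = 1 := (repX.pow 7).eq Rep.one (by decide +kernel)
theorem r_ww : ev ww * ev ww = 1 := ((rep_ev _).mul (rep_ev _)).eq Rep.one (by decide +kernel)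
theorem r_wc : X * (ev ww * X) = ev ww :=
  (repX.mul ((rep_ev _).mul repX)).eq (rep_ev _) (by decide +kernel)
theorem r_dc : ev wd * X = X * (X * ev wd) :=
  ((rep_ev _).mul repX).eq (repX.mul (repX.mul (rep_ev _))) (by decide +kernel)
theorem r_d0 : ev wd * ev wt = ev wt * ev wd :=
  ((rep_ev _).mul (rep_ev _)).eq ((rep_ev _).mul (rep_ev _)) (by decide +kernel)
theorem r_d1 : ev wd * ev wt1 = ev wt2 * ev wd :=
  ((rep_ev _).mul (rep_ev _)).eq ((rep_ev _).mul (rep_ev _)) (by decide +kernel)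
theorem r_d2 : ev wd * (ev wt1 * ev wt2) = ev wt1 * ev wd :=
  ((rep_ev _).mul ((rep_ev _).mul (rep_ev _))).eq ((rep_ev _).mul (rep_ev _)) (by decide +kernel)
theorem r_dw : ev wd * ev ww = ev ww * ev wd :=
  ((rep_ev _).mul (rep_ev _)).eq ((rep_ev _).mul (rep_ev _)) (by decide +kernel)
theorem r_g : ev wg * ev wt = ev ww * ev wg :=
  ((rep_ev _).mul (rep_ev _)).eq ((rep_ev _).mul (rep_ev _)) (by decide +kernel)
theorem r_h : ev wh * ev wd = ev wd * ev wd * ev wh :=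
  ((rep_ev _).mul (rep_ev _)).eq (((rep_ev _).mul (rep_ev _)).mul (rep_ev _)) (by decide +kernel)
theorem r_k : ev wk * (ev wd * ev wt) = ev wt * X * ev ww * ev wt * ev ww * ev wk :=
  ((rep_ev _).mul ((rep_ev _).mul (rep_ev _))).eq
    ((((((rep_ev _).mul repX).mul (rep_ev _)).mul (rep_ev _)).mul (rep_ev _)).mul (rep_ev _)) (by decide +kernel)
theorem r_11 : (ev wt * X * ev ww * ev wt1 * ev ww) ^ 11 = 1 :=
  (((((((rep_ev _).mul repX).mul (rep_ev _)).mul (rep_ev _)).mul (rep_ev _))).pow 11).eq Rep.one (by decide +kernel)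
theorem r_Y : Y = X * X * ev wt * X⁻¹ * ev wt * ev ww :=
  repY.eq (((((repX.mul repX).mul (rep_ev _)).mul repXi).mul (rep_ev _)).mul (rep_ev _)) (by decide +kernel)
theorem r_ne : ev wt ≠ 1 := (rep_ev _).ne Rep.one (by decide +kernel)

/-- generation -/
theorem gen (S : Subgroup J1) (hX : X ∈ S) (ht : ev wt ∈ S) (hw : ev ww ∈ S) : S = ⊤ := by
  have hY : Y ∈ S := by
    rw [r_Y]
    exact S.mul_mem (S.mul_mem (S.mul_mem (S.mul_mem (S.mul_mem hX hX) ht) (S.inv_mem hX)) ht) hw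
  have h : (Subgroup.closure ({X, Y} : Set J1)).map J1.subtype = (⊤ : Subgroup J1).map J1.subtype := by
    rw [MonoidHom.map_closure, Set.image_pair, ← MonoidHom.range_eq_map, Subgroup.range_subtype]
    rfl
  have h2 : Subgroup.closure ({X, Y} : Set J1) = ⊤ := Subgroup.map_injective J1.subtype_injective h
  rw [eq_top_iff, ← h2, Subgroup.closure_le]
  rintro x (rfl | rfl)
  · exact hX
  · exact hY

end Cfsg.Agent.H856.JOne
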