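import Cfsg.Agent.H856.Sx1

/-!
# `J₁` in dimension 7, characteristic 11: the coefficients of the involution `w` (helper856)
-/

set_option autoImplicit false
set_option linter.unusedSectionVars false

namespace Cfsg.Agent.H856.JOne

open Cfsg.Agent.H856.Sw Cfsg.Agent.H856.Sx Cfsg.Agent.H179.G2

variable {F : Type*} [Field F]

/-- the equations -/
theorem solve {x y z : F} (h11 : (11 : F) = 0)
    (R2 : x * (y + z) + y ^ 2 + z ^ 2 + 3 * y * z = 0) (R3 : x + 3 * y + 3 * z = -1)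
    (A : -x * z - 5 * x * y + 3 * y ^ 2 + 5 * y * z - z ^ 2 = 7)
    (B : -5 * x * z + 3 * x * y + 3 * y ^ 2 + y * z - z ^ 2 = -1) : x = -2 ∧ y = 3 ∧ z = 1 := by
  have h2 : (2 : F) ≠ 0 := by
    intro h
    apply one_ne_zero (α := F)
    linear_combination h11 - 5 * h
  obtain ⟨s, hs⟩ : ∃ s, s = y + z := ⟨_, rfl⟩
  obtain ⟨D, hD⟩ : ∃ D, D = y - z := ⟨_, rfl⟩
  have hx : x = -1 - 3 * s := by rw [hs]; linear_combination R3
  have hyz : y * z = s + 2 * s ^ 2 := by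
    rw [hx] at R2
    rw [hs] at R2 ⊢
    linear_combination R2
  have hDD : D ^ 2 = -4 * s - 7 * s ^ 2 := by
    have : D ^ 2 = s ^ 2 - 4 * (y * z) := by rw [hs, hD]; ring
    rw [this, hyz]; ring
  have hy : 2 * y = s + D := by rw [hs, hD]; ring
  have hz : 2 * z = s - D := by rw [hs, hD]; ring
  have A' : 16 * s ^ 2 + 6 * s - 7 + D * (2 + 8 * s) = 0 := by
    have e1 : -x * z - 5 * x * y + 3 * y ^ 2 + 5 * y * z - z ^ 2 =
      -x * s - 2 * x * (2 * y) + (s ^ 2 - 2 * (y * z)) + 2 * (s * D) + 5 * (y * z) := by rw [hs, hD]; ring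
    rw [e1, hy, hyz, hx] at A
    linear_combination A
  have B' : (7 * s - 4) * (s + 1) + 3 * D * (1 + 3 * s) = 0 := by
    have e1 : -5 * x * z + 3 * x * y + 3 * y ^ 2 + y * z - z ^ 2 =
      -5 * x * z + 3 * x * y + (s ^ 2 - 2 * (y * z)) + 2 * (s * D) + y * z := by rw [hs, hD]; ring
    rw [e1] at B
    have e2 : (2 : F) * (-5 * x * z + 3 * x * y + (s ^ 2 - 2 * (y * z)) + 2 * (s * D) + y * z) =
      -5 * x * (2 * z) + 3 * x * (2 * y) + 2 * (s ^ 2 - 2 * (y * z)) + 4 * (s * D) + 2 * (y * z) := by ring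
    rw [B, hy, hz, hyz, hx] at e2
    have e3 : 2 * (2 * ((7 * s - 4) * (s + 1) + 3 * D * (1 + 3 * s))) = 0 := by
      linear_combination 2 * A' + e2
    exact (mul_eq_zero.1 ((mul_eq_zero.1 e3).resolve_left h2)).resolve_left h2
  have f2 : 3 * s ^ 2 + s + 3 = 0 := by
    have h : 88 * s ^ 3 + 64 * s ^ 2 - 19 * s - 13 = 0 := by
      linear_combination 3 * (1 + 3 * s) * A' - (2 + 8 * s) * B'
    linear_combination 4 * h - (32 * s ^ 3 + 23 * s ^ 2 - 7 * s - 5) * h11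
  have f1 : s ^ 3 + s ^ 2 - 2 * s + 5 = 0 := by
    have h : 704 * s ^ 4 + 672 * s ^ 3 - 32 * s ^ 2 - 68 * s + 49 = 0 := by
      linear_combination (16 * s ^ 2 + 6 * s - 7 - D * (2 + 8 * s)) * A' + (2 + 8 * s) ^ 2 * hDD
    linear_combination h - (64 * s ^ 4 + 61 * s ^ 3 - 3 * s ^ 2 - 6 * s + 4) * h11
  have s4 : s = 4 := by
    linear_combination 5 * f1 - 20 * (s + 8) * f2 + (5 * s ^ 3 + 45 * s ^ 2 + 21 * s + 41) * h11
  have D2 : D = 2 := by
    rw [s4] at A'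
    linear_combination A' - (3 * D + 25) * h11
  refine ⟨?_, ?_, ?_⟩
  · rw [hx, s4]
    linear_combination -h11
  · apply mul_left_cancel₀ h2
    rw [hy, s4, D2]
    norm_num
  · apply mul_left_cancel₀ h2
    rw [hz, s4, D2]
    norm_num

end Cfsg.Agent.H856.JOne
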