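import Cfsg.Agent.H856.J1b

/-!
# `J₁` in dimension 7, characteristic 11: the action of `w` in a frame of the `2³:7:3` (helper856)
-/

set_option autoImplicit false
set_option linter.unusedSectionVars false

namespace Cfsg.Agent.H856.JOne

open Cfsg.Agent.H856.Sw Cfsg.Agent.H856.Sx Cfsg.Agent.H179.G2

variable {F : Type*} [Field F] {V : Type*} [AddCommGroup V] [Module F V]

theorem coeff_eq (b : Module.Basis (Fin 7) F V) {x y : Fin 7 → F} (h : ∑ k, x k • b k = ∑ k, y k • b k) (k : Fin 7) :
    x k = y k := by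
  have h1 := congrArg (fun u => b.repr u k) h
  simpa [Finsupp.single_apply] using h1

theorem trace_expand (b : Module.Basis (Fin 7) F V) (g : V →ₗ[F] V) (G : Fin 7 → Fin 7 → F)
    (h : ∀ j, g (b j) = ∑ k, G k j • b k) : LinearMap.trace F V g = ∑ j, G j j := by
  rw [LinearMap.trace_eq_matrix_trace F b, Matrix.trace]
  refine Finset.sum_congr rfl fun j _ => ?_
  rw [Matrix.diag_apply, LinearMap.toMatrix_apply, h j, map_sum]
  simp [Finsupp.single_apply]

theorem trace_expand1 (b : Module.Basis (Fin 7) F V) (g : V →ₗ[F] V) (G : Fin 7 → Fin 7 → F)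
    (h : ∀ j, g (b j) = ∑ n, G n j • b (n + 1)) : LinearMap.trace F V g = ∑ n, G n (n + 1) := by
  rw [trace_expand b g (fun k j => G (k - 1) j) (fun j => by
    rw [h j, ← Equiv.sum_comp (Equiv.addRight (1 : Fin 7)) (fun k => G (k - 1) j • b k)]
    refine Finset.sum_congr rfl fun n _ => ?_
    rw [Equiv.coe_addRight, add_sub_cancel_right])]
  rw [← Equiv.sum_comp (Equiv.addRight (1 : Fin 7)) (fun k => G (k - 1) k)]
  refine Finset.sum_congr rfl fun n _ => ?_
  rw [Equiv.coe_addRight, add_sub_cancel_right]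

/-- the relations -/
structure Oj (e0 e1 e2 c d w : V ≃ₗ[F] V) : Prop extends Wt e0 e1 e2 c where
  ww : ∀ v, w (w v) = v
  wc : ∀ v, c (w (c v)) = w v
  dc : ∀ v, d (c v) = c (c (d v))
  d0 : ∀ v, d (e0 v) = e0 (d v)
  d1 : ∀ v, d (e1 v) = e2 (d v)
  d2 : ∀ v, d (e1 (e2 v)) = e1 (d v)
  dw : ∀ v, d (w v) = w (d v)
  t0 : LinearMap.trace F V (w : V →ₗ[F] V) = LinearMap.trace F V (e0 : V →ₗ[F] V)
  td : LinearMap.trace F V ((d * d : V ≃ₗ[F] V) : V →ₗ[F] V) = LinearMap.trace F V (d : V →ₗ[F] V)
  t6 : LinearMap.trace F V ((e0 * c * w * e0 * w : V ≃ₗ[F] V) : V →ₗ[F] V) =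
    LinearMap.trace F V ((d * e0 : V ≃ₗ[F] V) : V →ₗ[F] V)
  t11 : LinearMap.trace F V ((e0 * c * w * e1 * w : V ≃ₗ[F] V) : V →ₗ[F] V) = 7

namespace Oj

variable {e0 e1 e2 c d w : V ≃ₗ[F] V} {v : Fin 7 → V} (ho : Oj e0 e1 e2 c d w) (hv : Frame e0 e1 e2 c v)

include ho hv

theorem w_apply {a : Fin 7 → F} (ha : w (v 0) = ∑ j, a j • v j) (i : Fin 7) : w (v i) = ∑ k, a (k + i) • v k := by
  have key : ∀ i, w (v i) = ∑ k, a (k + i) • v k → w (v (i + 1)) = ∑ k, a (k + (i + 1)) • v k := by
    intro i hi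
    have h1 := ho.wc (v i)
    rw [hv.hc] at h1
    apply c.injective
    rw [h1, hi, map_sum]
    simp only [map_smul, hv.hc]
    rw [← Equiv.sum_comp (Equiv.addRight (1 : Fin 7)) (fun k => a (k + i) • v k)]
    refine Finset.sum_congr rfl fun k _ => ?_
    rw [Equiv.coe_addRight, add_right_comm, add_assoc]
  have z : w (v 0) = ∑ k, a (k + 0) • v k := by simpa using ha
  have z1 := key 0 z
  have z2 := key 1 z1
  have z3 := key 2 z2
  have z4 := key 3 z3
  have z5 := key 4 z4
  have z6 := key 5 z5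
  fin_cases i
  · exact z
  · exact z1
  · exact z2
  · exact z3
  · exact z4
  · exact z5
  · exact z6

variable (h2 : (2 : F) ≠ 0) (h7 : Module.finrank F V = 7)

include h2 h7

/-- the element of order 3 permutes the frame -/
theorem d_apply (i : Fin 7) : d (v i) = v (i + i) := by
  set b := hv.basis ho.toWt h2 h7 with hb
  have hba : ∀ i, b i = v i := fun i => hv.basis_apply ho.toWt h2 h7 i
  obtain ⟨β, hβ⟩ : ∃ β : Fin 7 → F, d (v 0) = ∑ j, β j • b j := ⟨fun j => b.repr (d (v 0)) j, (b.sum_repr _).symm⟩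
  have dg : ∀ (e : V ≃ₗ[F] V) (s : Fin 7 → F) (r : F), (∀ j, e (v j) = s j • v j) → e (d (v 0)) = r • d (v 0) →
      ∀ j, β j * s j = r * β j := by
    intro e s r he her
    rw [hβ, map_sum, Finset.smul_sum] at her
    refine coeff_eq b (x := fun j => β j * s j) (y := fun j => r * β j) ?_
    refine Eq.trans ?_ (her.trans ?_)
    · refine Finset.sum_congr rfl fun j _ => ?_
      rw [map_smul, hba, he, smul_smul]
    · refine Finset.sum_congr rfl fun j _ => ?_
      rw [smul_smul]
  have g0 := dg e0 _ (-1) hv.h0 (by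
    rw [← ho.d0, hv.h0, map_smul]
    simp [sg])
  have g1 := dg e1 _ 1 hv.h1 (by
    rw [← ho.d2, hv.h2, map_smul, hv.h1]
    simp [sg])
  have g2 := dg e2 _ 1 hv.h2 (by
    rw [← ho.d1, hv.h1]
    simp [sg])
  have hz : ∀ y : F, y = -y → y = 0 := by
    intro y hy
    have : (2 : F) * y = 0 := by linear_combination hy
    exact (mul_eq_zero.1 this).resolve_left h2
  have hs : ∀ j : Fin 7, j ≠ 0 → sg 0 j = 1 ∨ sg 1 j = -1 ∨ sg 2 j = -1 := by decide
  have hβ0 : ∀ j, j ≠ 0 → β j = 0 := by
    intro j hj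
    have a0 := g0 j
    have a1 := g1 j
    have a2 := g2 j
    apply hz
    rcases hs j hj with h | h | h
    · rw [h] at a0
      push_cast at a0
      linear_combination a0
    · rw [h] at a1
      push_cast at a1
      linear_combination -a1
    · rw [h] at a2
      push_cast at a2
      linear_combination -a2
  obtain ⟨l, hl⟩ : ∃ l : F, d (v 0) = l • v 0 := by
    refine ⟨β 0, ?_⟩
    rw [hβ, Finset.sum_eq_single 0]
    · rw [hba]
    · intro j _ hj
      rw [hβ0 j hj, zero_smul]
    · intro h; exact absurd (Finset.mem_univ _) h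
  have key : ∀ i : Fin 7, d (v i) = l • v (i + i) → d (v (i + 1)) = l • v (i + 1 + (i + 1)) := by
    intro i hi
    rw [← hv.hc, ho.dc, hi, map_smul, map_smul, hv.hc, hv.hc]
    congr 2
    abel
  have z : d (v 0) = l • v (0 + 0) := by simpa using hl
  have z1 := key 0 z
  have z2 := key 1 z1
  have z3 := key 2 z2
  have z4 := key 3 z3
  have z5 := key 4 z4
  have z6 := key 5 z5
  have hd : ∀ i, d (v i) = l • v (i + i) := by
    intro i
    fin_cases i
    · exact z
    · exact z1
    · exact z2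
    · exact z3
    · exact z4
    · exact z5
    · exact z6
  have tr1 : LinearMap.trace F V (d : V →ₗ[F] V) = l := by
    rw [trace_expand b (d : V →ₗ[F] V) (fun k j => if k = j + j then l else 0) (fun j => by
      rw [hba]
      show d (v j) = _
      rw [hd j]
      simp only [ite_smul, zero_smul, Finset.sum_ite_eq', Finset.mem_univ, if_true, hba])]
    rw [Fin.sum_univ_seven]
    simp
  have tr2 : LinearMap.trace F V ((d * d : V ≃ₗ[F] V) : V →ₗ[F] V) = l * l := by
    rw [trace_expand b ((d * d : V ≃ₗ[F] V) : V →ₗ[F] V) (fun k j => if k = j + j + (j + j) then l * l else 0) (fun j => by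
      rw [hba]
      show d (d (v j)) = _
      rw [hd j, map_smul, hd, smul_smul]
      simp only [ite_smul, zero_smul, Finset.sum_ite_eq', Finset.mem_univ, if_true, hba])]
    rw [Fin.sum_univ_seven]
    simp
  have hl1 : l = 1 := by
    have h3 : l * l = l := by rw [← tr2, ho.td, tr1]
    have h4 : l ≠ 0 := by
      rintro rfl
      rw [zero_smul] at hl
      exact hv.ne 0 (d.injective (by rw [hl, map_zero]))
    exact mul_left_cancel₀ h4 (by rw [h3, mul_one])
  rw [hd, hl1, one_smul]

/-- the coefficients of `w` -/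
theorem coeffs (h11 : (11 : F) = 0) {a : Fin 7 → F} (ha : w (v 0) = ∑ j, a j • v j) :
    ∀ j, a j = (((![-2, 3, 3, 1, 3, 1, 1] : Fin 7 → ℤ) j : ℤ) : F) := by
  have hd := ho.d_apply hv h2 h7
  have hw := ho.w_apply hv ha
  set b := hv.basis ho.toWt h2 h7 with hb
  have hba : ∀ i, b i = v i := fun i => hv.basis_apply ho.toWt h2 h7 i
  -- symmetry under `d`
  have hsym : ∀ k, a (k + k) = a k := by
    let e : Fin 7 ≃ Fin 7 :=
      { toFun := fun j => j + j
        invFun := fun k => k + k + (k + k)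
        left_inv := by decide
        right_inv := by decide }
    have h3 : ∑ k, a (e.symm k) • b k = ∑ k, a k • b k := by
      have h4 : d (w (v 0)) = w (v 0) := by
        rw [ho.dw, hd]
        rfl
      rw [← Equiv.sum_comp e]
      refine Eq.trans ?_ (Eq.trans h4 ?_)
      · rw [ha, map_sum]
        refine Finset.sum_congr rfl fun j _ => ?_
        rw [Equiv.symm_apply_apply, map_smul, hd, hba]
        rfl
      · rw [ha]
        refine Finset.sum_congr rfl fun j _ => ?_
        rw [hba]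
    intro k
    have h4 := coeff_eq b h3 (e k)
    rw [Equiv.symm_apply_apply] at h4
    exact h4.symm
  have a2 : a 2 = a 1 := hsym 1
  have a4 : a 4 = a 1 := (hsym 2).trans a2
  have a6 : a 6 = a 3 := hsym 3
  have a5 : a 5 = a 3 := (hsym 6).trans a6
  -- the square
  have R2 : ∑ m, a m * a (1 + m) = 0 := by
    have h3 : ∑ k, (∑ m, a m * a (k + m)) • b k = ∑ k, (if k = 0 then (1 : F) else 0) • b k := by
      have h4 := ho.ww (v 0)
      rw [ha, map_sum] at h4
      refine Eq.trans ?_ (h4.trans ?_)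
      · simp only [Finset.sum_smul, map_smul, hw, Finset.smul_sum, smul_smul]
        rw [Finset.sum_comm]
        refine Finset.sum_congr rfl fun m _ => Finset.sum_congr rfl fun k _ => ?_
        rw [hba]
      · simp only [ite_smul, zero_smul, one_smul, Finset.sum_ite_eq', Finset.mem_univ, if_true, hba]
    have h4 := coeff_eq b h3 1
    simpa using h4
  have R3 : ∑ j, a (j + j) = -1 := by
    rw [← trace_expand b (w : V →ₗ[F] V) (fun k j => a (k + j)) (fun j => by
      rw [hba]
      exact (hw j).trans (Finset.sum_congr rfl fun k _ => by rw [hba]))]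
    rw [ho.t0, Oc.trace_e0 hv ho.toWt h2 h7]
  have key : ∀ (e : V ≃ₗ[F] V) (s : Fin 7 → ℤ), (∀ i, e (v i) = ((s i : ℤ) : F) • v i) →
      LinearMap.trace F V ((e0 * c * w * e * w : V ≃ₗ[F] V) : V →ₗ[F] V) =
        ∑ n, ((sg 0 (n + 1) : ℤ) : F) * ∑ m, a (m + (n + 1)) * (s m : ℤ) * a (n + m) := by
    intro e s he
    refine trace_expand1 b _ (fun n j => ((sg 0 (n + 1) : ℤ) : F) * ∑ m, a (m + j) * (s m : ℤ) * a (n + m)) (fun j => ?_)
    show e0 (c (w (e (w (b j))))) = _
    rw [hba, hw]
    simp only [map_sum, map_smul, he, hw, hv.hc, hv.h0, Finset.smul_sum, smul_smul, Finset.mul_sum, Finset.sum_smul]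
    rw [Finset.sum_comm]
    refine Finset.sum_congr rfl fun n _ => Finset.sum_congr rfl fun m _ => ?_
    rw [hba]
    congr 1
    ring
  have B := key e0 _ hv.h0
  have A := key e1 _ hv.h1
  rw [ho.t11] at A
  rw [ho.t6] at B
  have hB : LinearMap.trace F V ((d * e0 : V ≃ₗ[F] V) : V →ₗ[F] V) = -1 := by
    rw [trace_expand b ((d * e0 : V ≃ₗ[F] V) : V →ₗ[F] V) (fun k j => if k = j + j then ((sg 0 j : ℤ) : F) else 0)
      (fun j => by
        rw [hba]
        show d (e0 (v j)) = _
        rw [hv.h0, map_smul, hd]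
        simp only [ite_smul, zero_smul, Finset.sum_ite_eq', Finset.mem_univ, if_true, hba])]
    rw [Fin.sum_univ_seven]
    simp [sg]
  rw [hB] at B
  simp [Fin.sum_univ_seven, sg] at A B R2 R3
  rw [a2, a4, a5, a6] at A B R2 R3
  obtain ⟨e0', e1', e3'⟩ := solve (x := a 0) (y := a 1) (z := a 3) h11 (by linear_combination R2)
    (by linear_combination R3) (by linear_combination -A) (by linear_combination -B)
  intro j
  fin_cases j
  · exact e0'.trans (by simp)
  · exact e1'.trans (by simp)
  · exact (a2.trans e1').trans (by simp)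
  · exact e3'.trans (by simp)
  · exact (a4.trans e1').trans (by simp)
  · exact (a5.trans e3').trans (by simp)
  · exact (a6.trans e3').trans (by simp)

end Oj

end Cfsg.Agent.H856.JOne
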