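import Cfsg.Agent.H856.J1a
import Cfsg.Agent.H856.J1c

/-!
# `J₁` in dimension 7, characteristic 11: the invariant alternating 3-form (helper856)
-/

set_option autoImplicit false
set_option linter.unusedSectionVars false

namespace Cfsg.Agent.H856.JOne

open Cfsg.Agent.H856.Sw Cfsg.Agent.H856.Sx Cfsg.Agent.H179.G2
open Cfsg.Agent.SporadicB.J1.Mat Cfsg.Agent.SporadicB.J1.Data Cfsg.Agent.SporadicB.J1.Main
open Cfsg.Spor (J1)

variable {F : Type*} [Field F] {V : Type*} [AddCommGroup V] [Module F V]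

/-- the coefficients -/
abbrev Aj : Fin 7 → ℤ := ![-2, 3, 3, 1, 3, 1, 1]

theorem table11 : ∀ i j k : Fin 7, (F1Z (fun m => Aj (m + i)) (fun m => Aj (m + j)) (fun m => Aj (m + k)) -
    F1Z (ei i) (ei j) (ei k)) % 11 = 0 := by decide +kernel

/-- an element of order 11 is unipotent -/
theorem trace_unip (h11 : (11 : F) = 0) (h7 : Module.finrank F V = 7) (g : V ≃ₗ[F] V) (hg : g ^ 11 = 1) :
    LinearMap.trace F V (g : V →ₗ[F] V) = 7 := by
  have hfin : FiniteDimensional F V := Module.finite_of_finrank_pos (by rw [h7]; norm_num)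
  have hp : Fact (Nat.Prime 11) := ⟨by norm_num⟩
  have hc : CharP F 11 := by
    have h1 : ((11 : ℕ) : F) = 0 := by exact_mod_cast h11
    obtain ⟨p, hpc⟩ := CharP.exists F
    have h2 : p ∣ 11 := (CharP.cast_eq_zero_iff F p 11).1 h1
    rcases (Nat.dvd_prime (by norm_num : Nat.Prime 11)).1 h2 with h | h
    · exact absurd h (CharP.char_ne_one F p)
    · rwa [h] at hpc
  set x : Module.End F V := (g : V →ₗ[F] V) with hx
  have hx11 : x ^ 11 = 1 := by
    have h1 : ∀ n : ℕ, ((g ^ n : V ≃ₗ[F] V) : V →ₗ[F] V) = x ^ n := by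
      intro n
      induction n with
      | zero => rfl
      | succ n ih =>
        rw [pow_succ, pow_succ, ← ih]
        rfl
    rw [← h1, hg]
    rfl
  have hn : IsNilpotent (x - 1) := by
    refine ⟨11, ?_⟩
    have h1 : (Polynomial.X - 1 : Polynomial F) ^ 11 = Polynomial.X ^ 11 - 1 := by
      rw [sub_pow_char, one_pow]
    have h2 := congrArg (Polynomial.aeval x) h1
    simp only [map_pow, map_sub, Polynomial.aeval_X, map_one] at h2
    rw [h2, hx11, sub_self]
  have h3 := (LinearMap.isNilpotent_trace_of_isNilpotent hn).eq_zero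
  rw [map_sub, sub_eq_zero] at h3
  rw [h3, LinearMap.trace_one, h7]
  norm_num

theorem oj_of (ρ : J1 →* (V ≃ₗ[F] V)) (hρ : ρ (ev wt) ≠ 1) (h11 : (11 : F) = 0) (h7 : Module.finrank F V = 7) :
    Oj (ρ (ev wt)) (ρ (ev wt1)) (ρ (ev wt2)) (ρ X) (ρ (ev wd)) (ρ (ev ww)) := by
  have key : ∀ {a b : J1}, a = b → ∀ v, ρ a v = ρ b v := by rintro a b rfl v; rfl
  have m2 : ∀ (a b : J1) (v : V), ρ (a * b) v = ρ a (ρ b v) := by
    intro a b v
    rw [map_mul]
    rfl
  refine { s0 := fun v => ?_, s1 := fun v => ?_, s2 := fun v => ?_, c01 := fun v => ?_, c02 := fun v => ?_,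
           c12 := fun v => ?_, k0 := fun v => ?_, k1 := fun v => ?_, k2 := fun v => ?_, c7 := fun v => ?_,
           ne := hρ, ww := fun v => ?_, wc := fun v => ?_, dc := fun v => ?_, d0 := fun v => ?_,
           d1 := fun v => ?_, d2 := fun v => ?_, dw := fun v => ?_, t0 := ?_, td := ?_, t6 := ?_, t11 := ?_ }
  · rw [← m2, r_sq0, map_one]; rfl
  · rw [← m2, r_sq1, map_one]; rfl
  · rw [← m2, r_sq2, map_one]; rfl
  · rw [← m2, r_01, m2]
  · rw [← m2, r_02, m2]
  · rw [← m2, r_12, m2]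
  · rw [← m2, r_k0, m2]
  · rw [← m2, r_k1, m2]
  · rw [← m2, r_k2, m2, m2]
  · have h := r_7
    have h3 : ∀ g : J1, g ^ 7 = g * (g * (g * (g * (g * (g * g))))) := fun g => by
      simp only [pow_succ, pow_zero, one_mul, mul_assoc]
    rw [h3] at h
    have h2 := key h v
    rw [map_one] at h2
    simp only [m2] at h2
    exact h2
  · rw [← m2, r_ww, map_one]; rfl
  · rw [← m2, ← m2, mul_assoc, r_wc]
  · rw [← m2, r_dc, m2, m2]
  · rw [← m2, r_d0, m2]
  · rw [← m2, r_d1, m2]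
  · rw [← m2, ← m2, mul_assoc, r_d2, m2]
  · rw [← m2, r_dw, m2]
  · apply trace_conj' (k := ρ (ev wg))
    rw [← map_mul, ← map_mul, r_g]
  · rw [← map_mul]
    apply trace_conj' (k := ρ (ev wh))
    rw [← map_mul, ← map_mul, r_h]
  · rw [← map_mul, ← map_mul, ← map_mul, ← map_mul, ← map_mul]
    apply trace_conj' (k := ρ (ev wk))
    rw [← map_mul, ← map_mul, r_k]
  · rw [← map_mul, ← map_mul, ← map_mul, ← map_mul]
    apply trace_unip h11 h7
    rw [← map_pow, r_11, map_one]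

/-- **the invariant 3-form** -/
theorem form_of_hom (ρ : J1 →* (V ≃ₗ[F] V)) (hρ : ρ (ev wt) ≠ 1) (h11 : (11 : F) = 0)
    (h7 : Module.finrank F V = 7) :
    ∃ f : V →ₗ[F] V →ₗ[F] V →ₗ[F] F, IsAltForm f ∧ f ≠ 0 ∧
      ∀ g x y z, f (ρ g x) (ρ g y) (ρ g z) = f x y z := by
  have h2 : (2 : F) ≠ 0 := by
    intro h
    apply one_ne_zero (α := F)
    linear_combination h11 - 5 * h
  have ho := oj_of ρ hρ h11 h7
  obtain ⟨v, hv⟩ := ho.toWt.frame h2
  set bs := hv.basis ho.toWt h2 h7 with hbs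
  have hba : ∀ i, bs i = v i := fun i => hv.basis_apply ho.toWt h2 h7 i
  refine ⟨f1 bs, f1_isAlt _, f1_ne _, ?_⟩
  let S : Subgroup J1 :=
    { carrier := {g | ∀ x y z, f1 bs (ρ g x) (ρ g y) (ρ g z) = f1 bs x y z}
      mul_mem' := fun {g h} hg hh x y z => by
        rw [map_mul]
        exact (hg _ _ _).trans (hh _ _ _)
      one_mem' := fun x y z => by rw [map_one]; rfl
      inv_mem' := fun {g} hg x y z => by
        have h1 := hg (ρ g⁻¹ x) (ρ g⁻¹ y) (ρ g⁻¹ z)
        have h3 : ∀ x, ρ g (ρ g⁻¹ x) = x := fun x => by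
          show (ρ g * ρ g⁻¹) x = x
          rw [← map_mul, mul_inv_cancel, map_one]; rfl
        rw [h3, h3, h3] at h1
        exact h1.symm }
  have hS : S = ⊤ := by
    refine gen S ?_ ?_ ?_
    · show ∀ x y z, f1 bs (ρ X x) (ρ X y) (ρ X z) = f1 bs x y z
      intro x y z
      refine inv_of_basis bs (g := (ρ X : V →ₗ[F] V)) (fun i j k => ?_) x y z
      show f1 bs (ρ X (bs i)) (ρ X (bs j)) (ρ X (bs k)) = f1 bs (bs i) (bs j) (bs k)
      rw [hba i, hba j, hba k, hv.hc, hv.hc, hv.hc, ← hba i, ← hba j, ← hba k, ← hba, ← hba, ← hba,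
        f1_basis, f1_basis, table_shift]
    · show ∀ x y z, f1 bs (ρ (ev wt) x) (ρ (ev wt) y) (ρ (ev wt) z) = f1 bs x y z
      intro x y z
      refine inv_of_basis bs (g := (ρ (ev wt) : V →ₗ[F] V)) (fun i j k => ?_) x y z
      show f1 bs (ρ (ev wt) (bs i)) (ρ (ev wt) (bs j)) (ρ (ev wt) (bs k)) = f1 bs (bs i) (bs j) (bs k)
      rw [hba i, hba j, hba k, hv.h0, hv.h0, hv.h0, ← hba i, ← hba j, ← hba k]
      simp only [map_smul, LinearMap.smul_apply, smul_eq_mul]
      rw [f1_basis]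
      have h3 := congrArg (Int.cast : ℤ → F) (table_sign i j k)
      push_cast at h3
      linear_combination h3
    · show ∀ x y z, f1 bs (ρ (ev ww) x) (ρ (ev ww) y) (ρ (ev ww) z) = f1 bs x y z
      intro x y z
      obtain ⟨a, ha⟩ : ∃ a : Fin 7 → F, ρ (ev ww) (v 0) = ∑ j, a j • v j := by
        refine ⟨fun j => bs.repr (ρ (ev ww) (v 0)) j, ?_⟩
        conv_lhs => rw [← bs.sum_repr (ρ (ev ww) (v 0))]
        simp only [hba]
      have hc := ho.coeffs hv h2 h7 h11 ha
      have hw := ho.w_apply hv ha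
      refine inv_of_basis bs (g := (ρ (ev ww) : V →ₗ[F] V)) (fun i j k => ?_) x y z
      have hr : ∀ i, bs.equivFun (ρ (ev ww) (bs i)) = fun m => ((Aj (m + i) : ℤ) : F) := by
        intro i
        funext m
        have : ρ (ev ww) (bs i) = ∑ k, a (k + i) • bs k := by
          simp only [hba]
          exact hw i
        rw [this, Module.Basis.equivFun_apply, map_sum, ← hc]
        simp [Finsupp.single_apply]
      have e1 : f1 bs ((ρ (ev ww) : V →ₗ[F] V) (bs i)) ((ρ (ev ww) : V →ₗ[F] V) (bs j)) ((ρ (ev ww) : V →ₗ[F] V) (bs k)) =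
          F1 (fun m => ((Aj (m + i) : ℤ) : F)) (fun m => ((Aj (m + j) : ℤ) : F)) (fun m => ((Aj (m + k) : ℤ) : F)) := by
        rw [← hr, ← hr, ← hr]
        rfl
      rw [e1, F1_cast, f1_basis]
      obtain ⟨q, hq⟩ := Int.dvd_of_emod_eq_zero (table11 i j k)
      have h3 := congrArg (Int.cast : ℤ → F) hq
      push_cast at h3
      rw [← sub_eq_zero, h3, h11, zero_mul]
  intro g x y z
  have : g ∈ S := by rw [hS]; trivial
  exact this x y z

end Cfsg.Agent.H856.JOne
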