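import Mathlib

/-!
# `L₂(13)` : the alternating 3-forms on the monomial module of degree 14 (tables)
-/

set_option autoImplicit false

namespace Cfsg.Agent.H856.L13

/-- the two odd functions -/
def hh (m : Bool) : ZMod 13 → ℤ :=
  if m then (![0, 1, 0, 1, -1, 0, 0, 0, 0, 1, -1, 0, -1] : Fin 13 → ℤ)
  else (![0, 0, 1, 0, 0, 1, 1, -1, -1, 0, 0, -1, 0] : Fin 13 → ℤ)

/-- the quadratic character -/
def et : ZMod 13 → ℤ := (![1, 1, -1, 1, 1, -1, -1, -1, -1, 1, 1, -1, 1] : Fin 13 → ℤ)

/-- the table -/
def TT (m : Bool) : Option (ZMod 13) → Option (ZMod 13) → Option (ZMod 13) → ℤ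
  | some a, some b, some c => hh m ((a - b) * (b - c) * (c - a))
  | none, some b, some c => hh m (c - b)
  | some a, none, some c => hh m (a - c)
  | some a, some b, none => hh m (b - a)
  | _, _, _ => 0

/-- the points -/
def wi : ZMod 13 → Option (ZMod 13) := (![none, some 12, some 6, some 4, some 3, some 5, some 2,
  some 11, some 8, some 10, some 9, some 7, some 1] : Fin 13 → Option (ZMod 13))

/-- the action of `w` on the points -/
def ws : Option (ZMod 13) → Option (ZMod 13)
  | none => some 0
  | some a => wi a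

/-- the signs of `w` -/
def we : Option (ZMod 13) → ℤ
  | none => 1
  | some a => et a

/-- the action of `u 1` on the points -/
def us : Option (ZMod 13) → Option (ZMod 13)
  | none => none
  | some a => some (a - 1)

theorem TT12 (m : Bool) : ∀ a b c, TT m b a c = - TT m a b c := by
  revert m; decide +kernel

theorem TT23 (m : Bool) : ∀ a b c, TT m a c b = - TT m a b c := by
  revert m; decide +kernel

theorem TTw (m : Bool) : ∀ a b c, we a * we b * we c * TT m a b c = TT m (ws a) (ws b) (ws c) := by
  revert m; decide +kernel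

theorem TTu (m : Bool) : ∀ a b c, TT m a b c = TT m (us a) (us b) (us c) := by
  revert m; decide +kernel

theorem ws_ws : ∀ a, ws (ws a) = a := by decide +kernel

theorem ws_some : ∀ a : ZMod 13, a ≠ 0 → ws (some a) = some (-a⁻¹) := by decide +kernel

/-- the sums -/
theorem sums : ∀ s : ZMod 13, ∑ b : ZMod 13, ∑ c : ZMod 13,
    hh true (((-(3 * b) - 9 * c - s) - b) * (b - c) * (c - (-(3 * b) - 9 * c - s))) =
      26 * (-3 * hh true s + 2 * hh false s) := by decide +kernel

theorem sums' : ∀ s : ZMod 13, ∑ b : ZMod 13, ∑ c : ZMod 13,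
    hh false (((-(3 * b) - 9 * c - s) - b) * (b - c) * (c - (-(3 * b) - 9 * c - s))) =
      26 * (2 * hh true s + 3 * hh false s) := by decide +kernel

end Cfsg.Agent.H856.L13
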