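import Cfsg.Agent.H856.L13a
import Cfsg.Agent.H856.Tri
import Cfsg.Agent.H464.L2G

/-!
# `L₂(13)` : an invariant alternating 3-form in dimension 7 (helper856)
-/

set_option autoImplicit false
set_option linter.unusedSectionVars false

namespace Cfsg.Agent.H856.L13

open Matrix Module Cfsg.Agent.H464.Sl2 Cfsg.Agent.H179.G2 Cfsg.Agent.H856.Tri

/-! ### Generation -/

section gen

theorem u_natCast {K : Type*} [Field K] (n : ℕ) : u ((n : ℕ) : K) = u (1 : K) ^ n := by
  induction n with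
  | zero => rw [Nat.cast_zero, u_zero, pow_zero]
  | succ n ih => rw [Nat.cast_succ, u_add, ih, pow_succ]

theorem low_eq {K : Type*} [Field K] (a : Kˣ) :
    w a = u (-((a⁻¹ : Kˣ) : K)) * (w 1 * u (-(a : K)) * (w 1)⁻¹) * u (-((a⁻¹ : Kˣ) : K)) := by
  have h : (w (1 : Kˣ))⁻¹ = w (-1 : Kˣ) := by
    rw [inv_eq_iff_mul_eq_one, w_mul_w]
    rw [show (-((-1 : Kˣ) / 1)) = 1 by simp, t_one]
  rw [h]
  apply Subtype.ext
  ext i j
  fin_cases i <;> fin_cases j <;> simp

instance : Fact (Nat.Prime 13) := ⟨by norm_num⟩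

/-- `SL₂(13)` is generated by `u 1` and `w 1` -/
theorem gen_top (S : Subgroup (SpecialLinearGroup (Fin 2) (ZMod 13))) (hu : u (1 : ZMod 13) ∈ S) (hw : w 1 ∈ S) :
    S = ⊤ := by
  have hux : ∀ x : ZMod 13, u x ∈ S := by
    intro x
    have : x = ((x.val : ℕ) : ZMod 13) := by rw [ZMod.natCast_val, ZMod.cast_id]
    rw [this, u_natCast]
    exact S.pow_mem hu _
  have hwa : ∀ a : (ZMod 13)ˣ, w a ∈ S := by
    intro a
    rw [low_eq]
    exact S.mul_mem (S.mul_mem (hux _) (S.mul_mem (S.mul_mem hw (hux _)) (S.inv_mem hw))) (hux _)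
  have hta : ∀ a : (ZMod 13)ˣ, t a ∈ S := by
    intro a
    have : t a = (w 1)⁻¹ * w a := by rw [eq_inv_mul_iff_mul_eq, w_one_mul_t]
    rw [this]
    exact S.mul_mem (S.inv_mem hw) (hwa a)
  rw [eq_top_iff]
  intro g _
  rcases bruhat g with ⟨x, a, rfl⟩ | ⟨x, c, y, rfl⟩
  · exact S.mul_mem (hux _) (hta _)
  · exact S.mul_mem (S.mul_mem (hux _) (hwa _)) (hux _)

end gen

variable {k : Type*} [Field k] {V : Type*} [AddCommGroup V]
  [Module k V] [FiniteDimensional k V] {R : SpecialLinearGroup (Fin 2) (ZMod 13) →* Module.End k V}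
  {ψ : AddChar (ZMod 13) k} {v : V} {lam : (ZMod 13)ˣ →* k}

/-- the functionals -/
noncomputable def ph (R : SpecialLinearGroup (Fin 2) (ZMod 13) →* Module.End k V) (φ : V →ₗ[k] k) :
    Option (ZMod 13) → V →ₗ[k] k
  | none => φ
  | some a => φ ∘ₗ (R (w 1) * R (u (-a)))

section

variable (h : Hw R ψ v lam) {φ : V →ₗ[k] k} (hE : E R ψ 0 = φ.smulRight v)

include h hE

theorem phi_E (y : V) : E R ψ 0 y = φ y • v := by rw [hE]; rfl

theorem eq_of_smul {a b : k} (hab : a • v = b • v) : a = b := by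
  have h1 : (a - b) • v = 0 := by rw [sub_smul, hab, sub_self]
  exact sub_eq_zero.1 ((smul_eq_zero.1 h1).resolve_right h.ne)

theorem phi_u (x : ZMod 13) (y : V) : φ (R (u x) y) = φ y := by
  apply eq_of_smul h hE
  rw [← phi_E h hE, ← phi_E h hE, E_zero_u]

theorem phi_t (a : (ZMod 13)ˣ) (y : V) : φ (R (t a) y) = lam a * φ y := by
  apply eq_of_smul h hE
  rw [← phi_E h hE, E_zero_t, phi_E h hE, map_smul, h.tor, smul_smul, mul_comm]

variable (hl : ∀ a, lam a = ((et (a : ZMod 13) : ℤ) : k))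

include hl

theorem ph_u (a : Option (ZMod 13)) (x : V) : ph R φ a (R (u 1) x) = ph R φ (us a) x := by
  cases a with
  | none => exact phi_u h hE 1 x
  | some a =>
    show φ (R (w 1) (R (u (-a)) (R (u 1) x))) = φ (R (w 1) (R (u (-(a - 1))) x))
    rw [← Module.End.mul_apply (R (u (-a))), ← map_mul, ← u_add]
    congr 5
    ring

theorem ph_w (a : Option (ZMod 13)) (x : V) : ph R φ a (R (w 1) x) = ((we a : ℤ) : k) * ph R φ (ws a) x := by
  cases a with
  | none =>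
    show φ (R (w 1) x) = ((1 : ℤ) : k) * φ (R (w 1) (R (u (-0)) x))
    rw [neg_zero, u_zero, map_one, Module.End.one_apply, Int.cast_one, one_mul]
  | some a =>
    by_cases ha : a = 0
    · subst ha
      show φ (R (w 1) (R (u (-0)) (R (w 1) x))) = ((1 : ℤ) : k) * φ x
      rw [neg_zero, u_zero, map_one, Module.End.one_apply, ← Module.End.mul_apply (R (w 1)), ← map_mul, w_mul_w,
        phi_t h hE, hl, div_one]
      congr 2
    · rw [ws_some a ha]
      show φ (R (w 1) (R (u (-a)) (R (w 1) x))) = ((et a : ℤ) : k) * φ (R (w 1) (R (u (-(-a⁻¹))) x))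
      have hna : -a ≠ 0 := neg_ne_zero.2 ha
      have e2 := w_u_w (1 : (ZMod 13)ˣ) 1 (Units.mk0 (-a) hna)
      rw [Units.val_mk0] at e2
      rw [← Module.End.mul_apply (R (w 1)), ← map_mul, ← Module.End.mul_apply, ← map_mul, e2, map_mul, map_mul,
        Module.End.mul_apply, Module.End.mul_apply, phi_u h hE, ← w_one_mul_t, ← inv_inv (1 * 1 * Units.mk0 (-a) hna),
        ← t_mul_w, map_mul, Module.End.mul_apply, phi_t h hE, hl]
      congr 2
      · have h3 : ∀ b : ZMod 13, b ≠ 0 → et (-b⁻¹) = et b := by decide +kernel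
        simp [h3 a ha]
      · congr 4
        simp

end

/-! ### Signs -/

theorem sq_eq_one_iff_of_side_cases {x : k} (h : x ^ 2 = 1) : x = 1 ∨ x = -1 := by
  have h1 : (x - 1) * (x + 1) = 0 := by linear_combination h
  rcases mul_eq_zero.1 h1 with h | h
  · exact Or.inl (sub_eq_zero.1 h)
  · exact Or.inr (eq_neg_of_add_eq_zero_left h)

theorem lam_eq_et (hsq : ∀ a, lam a ^ 2 = 1) (hne : ∃ a, lam a ≠ 1) (a : (ZMod 13)ˣ) :
    lam a = ((et (a : ZMod 13) : ℤ) : k) := by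
  have h2u : (2 : ZMod 13) ≠ 0 := by decide
  set c : (ZMod 13)ˣ := Units.mk0 2 h2u with hc
  have key : ∀ a : ZMod 13, a ≠ 0 → ∃ n : Fin 12, a = 2 ^ (n : ℕ) ∧ et a = (-1) ^ (n : ℕ) := by decide +kernel
  have key' : ∀ a : (ZMod 13)ˣ, ∃ n : ℕ, a = c ^ n ∧ et (a : ZMod 13) = (-1) ^ n := by
    intro a
    obtain ⟨n, h1, h2⟩ := key a a.ne_zero
    refine ⟨n, ?_, h2⟩
    apply Units.ext
    rw [h1, hc]
    simp
  have hc1 : lam c = -1 := by
    rcases sq_eq_one_iff_of_side_cases (hsq c) with h | h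
    · exfalso
      obtain ⟨a, ha⟩ := hne
      obtain ⟨n, hn, -⟩ := key' a
      apply ha
      rw [hn, map_pow, h, one_pow]
    · exact h
  obtain ⟨n, hn, he⟩ := key' a
  rw [he]
  conv_lhs => rw [hn, map_pow, hc1]
  push_cast
  rfl

/-! ### The form -/

/-- the action of `w` on the points -/
def wsE : Option (ZMod 13) ≃ Option (ZMod 13) := ⟨ws, ws, ws_ws, ws_ws⟩

/-- the action of `u 1` on the points -/
def usE : Option (ZMod 13) ≃ Option (ZMod 13) where
  toFun := us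
  invFun a := match a with
    | none => none
    | some a => some (a + 1)
  left_inv a := by cases a <;> simp [us]
  right_inv a := by cases a <;> simp [us]

/-- the form -/
noncomputable def fm (R : SpecialLinearGroup (Fin 2) (ZMod 13) →* Module.End k V) (φ : V →ₗ[k] k) (m : Bool) :
    V →ₗ[k] V →ₗ[k] V →ₗ[k] k :=
  ofTable (fun a b c => ((TT m a b c : ℤ) : k)) (ph R φ)

theorem fm_isAlt (h2 : (2 : k) ≠ 0) (φ : V →ₗ[k] k) (m : Bool) : IsAltForm (fm R φ m) :=
  ofTable_isAlt h2 _ (fun a b c => by rw [TT12, Int.cast_neg]) (fun a b c => by rw [TT23, Int.cast_neg])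

theorem fm_inv (h : Hw R ψ v lam) {φ : V →ₗ[k] k} (hE : E R ψ 0 = φ.smulRight v)
    (hl : ∀ a, lam a = ((et (a : ZMod 13) : ℤ) : k)) (m : Bool) (g : SpecialLinearGroup (Fin 2) (ZMod 13))
    (x y z : V) : fm R φ m (R g x) (R g y) (R g z) = fm R φ m x y z := by
  let S : Subgroup (SpecialLinearGroup (Fin 2) (ZMod 13)) :=
    { carrier := {g | ∀ x y z, fm R φ m (R g x) (R g y) (R g z) = fm R φ m x y z}
      mul_mem' := fun {g h} hg hh x y z => by
        rw [map_mul]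
        exact (hg _ _ _).trans (hh _ _ _)
      one_mem' := fun x y z => by rw [map_one]; rfl
      inv_mem' := fun {g} hg x y z => by
        have h1 := hg (R g⁻¹ x) (R g⁻¹ y) (R g⁻¹ z)
        have h3 : ∀ x, R g (R g⁻¹ x) = x := fun x => by
          rw [← Module.End.mul_apply, ← map_mul, mul_inv_cancel, map_one]; rfl
        rw [h3, h3, h3] at h1
        exact h1.symm }
  have hS : S = ⊤ := by
    apply gen_top
    · intro x y z
      refine ofTable_inv usE (fun _ => 1) (fun a x => ?_) (fun a b c => ?_) x y z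
      · rw [one_mul]
        exact ph_u h hE hl a x
      · rw [one_mul, one_mul, one_mul]
        exact congrArg (Int.cast : ℤ → k) (TTu m a b c)
    · intro x y z
      refine ofTable_inv wsE (fun a => ((we a : ℤ) : k)) (fun a x => ?_) (fun a b c => ?_) x y z
      · exact ph_w h hE hl a x
      · have h3 := congrArg (Int.cast : ℤ → k) (TTw m a b c)
        push_cast at h3
        exact h3
  have : g ∈ S := by rw [hS]; trivial
  exact this x y z

/-- evaluation on weight vectors -/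
theorem fm_eval {φ : V →ₗ[k] k} {x y z : V} {α β γ : k}
    (hx0 : φ x = 0) (hy0 : φ y = 0) (hz0 : φ z = 0)
    (hx : ∀ a, ph R φ (some a) x = ψ (-a) * α) (hy : ∀ a, ph R φ (some a) y = ψ (-(3 * a)) * β)
    (hz : ∀ a, ph R φ (some a) z = ψ (-(9 * a)) * γ) (m : Bool) :
    fm R φ m x y z = α * β * γ * ∑ s : ZMod 13, ((∑ b : ZMod 13, ∑ c : ZMod 13,
      hh m (((-(3 * b) - 9 * c - s) - b) * (b - c) * (c - (-(3 * b) - 9 * c - s))) : ℤ) : k) * ψ s := by
  have h1 : fm R φ m x y z = ∑ a, ∑ b, ∑ c, ((TT m a b c : ℤ) : k) * (ph R φ a x * ph R φ b y * ph R φ c z) := rfl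
  rw [h1]
  simp only [Fintype.sum_option]
  have e0 : ph R φ none x = 0 := hx0
  have e1 : ph R φ none y = 0 := hy0
  have e2 : ph R φ none z = 0 := hz0
  simp only [e0, e1, e2, mul_zero, zero_mul, Finset.sum_const_zero, zero_add]
  have h3 : ∀ a b c : ZMod 13, ((TT m (some a) (some b) (some c) : ℤ) : k) *
      (ph R φ (some a) x * ph R φ (some b) y * ph R φ (some c) z) =
      α * β * γ * (((hh m ((a - b) * (b - c) * (c - a)) : ℤ) : k) * ψ (-(3 * b) - 9 * c - a)) := by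
    intro a b c
    have h4 : ψ (-(3 * b) - 9 * c - a) = ψ (-a) * ψ (-(3 * b)) * ψ (-(9 * c)) := by
      rw [← AddChar.map_add_eq_mul, ← AddChar.map_add_eq_mul]
      congr 1
      ring
    rw [hx, hy, hz, h4]
    show ((hh m ((a - b) * (b - c) * (c - a)) : ℤ) : k) * _ = _
    ring
  simp only [h3]
  have h5 : ∑ a : ZMod 13, ∑ b : ZMod 13, ∑ c : ZMod 13,
      α * β * γ * (((hh m ((a - b) * (b - c) * (c - a)) : ℤ) : k) * ψ (-(3 * b) - 9 * c - a)) =
      ∑ b : ZMod 13, ∑ c : ZMod 13, ∑ a : ZMod 13,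
      α * β * γ * (((hh m ((a - b) * (b - c) * (c - a)) : ℤ) : k) * ψ (-(3 * b) - 9 * c - a)) := by
    rw [Finset.sum_comm]
    refine Finset.sum_congr rfl fun b _ => ?_
    rw [Finset.sum_comm]
  rw [h5]
  have h6 : ∀ b c : ZMod 13, ∑ a : ZMod 13,
      α * β * γ * (((hh m ((a - b) * (b - c) * (c - a)) : ℤ) : k) * ψ (-(3 * b) - 9 * c - a)) =
      ∑ s : ZMod 13, α * β * γ * (((hh m (((-(3 * b) - 9 * c - s) - b) * (b - c) * (c - (-(3 * b) - 9 * c - s))) : ℤ) : k) *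
        ψ s) := by
    intro b c
    rw [← Equiv.sum_comp (Equiv.subLeft (-(3 * b) - 9 * c))]
    refine Finset.sum_congr rfl fun s _ => ?_
    rw [Equiv.subLeft_apply, sub_sub_cancel]
  simp only [h6]
  have h7 : ∑ b : ZMod 13, ∑ c : ZMod 13, ∑ s : ZMod 13,
      α * β * γ * (((hh m (((-(3 * b) - 9 * c - s) - b) * (b - c) * (c - (-(3 * b) - 9 * c - s))) : ℤ) : k) * ψ s) =
      ∑ s : ZMod 13, ∑ b : ZMod 13, ∑ c : ZMod 13,
      α * β * γ * (((hh m (((-(3 * b) - 9 * c - s) - b) * (b - c) * (c - (-(3 * b) - 9 * c - s))) : ℤ) : k) * ψ s) := by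
    calc _ = ∑ b : ZMod 13, ∑ s : ZMod 13, ∑ c : ZMod 13, _ := Finset.sum_congr rfl fun b _ => Finset.sum_comm
      _ = _ := Finset.sum_comm
  rw [h7, Finset.mul_sum]
  refine Finset.sum_congr rfl fun s _ => ?_
  push_cast
  simp only [Finset.sum_mul, Finset.mul_sum]

theorem sum13 (f : Fin 13 → k) : ∑ s, f s = f 0 + f 1 + f 2 + f 3 + f 4 + f 5 + f 6 + f 7 + f 8 + f 9 + f 10 +
    f 11 + f 12 := by
  simp only [Fin.sum_univ_succ, Fin.sum_univ_zero]
  simp only [add_zero, ← add_assoc]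
  rfl

/-- the two odd sums do not vanish simultaneously -/
theorem odd_sums (hψ : ψ.IsPrimitive) :
    (∑ s, ((hh true s : ℤ) : k) * ψ s) ^ 2 + (∑ s, ((hh false s : ℤ) : k) * ψ s) ^ 2 = -13 := by
  have h0 : ∑ s, ψ s = 0 := by
    have := AddChar.sum_mulShift (ψ := ψ) (1 : ZMod 13) hψ
    simpa using this
  have hz : ∀ n : ℕ, ψ ((n : ℕ) : ZMod 13) = ψ 1 ^ n := by
    intro n
    rw [← AddChar.map_nsmul_eq_pow, nsmul_eq_mul, mul_one]
  set ζ := ψ 1 with hζ
  have e : ∀ f : ZMod 13 → k, ∑ s, f s = f 0 + f 1 + f 2 + f 3 + f 4 + f 5 + f 6 + f 7 + f 8 + f 9 + f 10 +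
      f 11 + f 12 := fun f => sum13 f
  have z0 : ψ 0 = 1 := AddChar.map_zero_eq_one ψ
  have z2 : ψ 2 = ζ ^ 2 := hz 2
  have z3 : ψ 3 = ζ ^ 3 := hz 3
  have z4 : ψ 4 = ζ ^ 4 := hz 4
  have z5 : ψ 5 = ζ ^ 5 := hz 5
  have z6 : ψ 6 = ζ ^ 6 := hz 6
  have z7 : ψ 7 = ζ ^ 7 := hz 7
  have z8 : ψ 8 = ζ ^ 8 := hz 8
  have z9 : ψ 9 = ζ ^ 9 := hz 9
  have z10 : ψ 10 = ζ ^ 10 := hz 10
  have z11 : ψ 11 = ζ ^ 11 := hz 11
  have z12 : ψ 12 = ζ ^ 12 := hz 12
  rw [e, z0, z2, z3, z4, z5, z6, z7, z8, z9, z10, z11, z12, ← hζ] at h0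
  rw [e, e, z0, z2, z3, z4, z5, z6, z7, z8, z9, z10, z11, z12, ← hζ]
  have t0 : hh true 0 = 0 := rfl
  have t1 : hh true 1 = 1 := rfl
  have t2 : hh true 2 = 0 := rfl
  have t3 : hh true 3 = 1 := rfl
  have t4 : hh true 4 = -1 := rfl
  have t5 : hh true 5 = 0 := rfl
  have t6 : hh true 6 = 0 := rfl
  have t7 : hh true 7 = 0 := rfl
  have t8 : hh true 8 = 0 := rfl
  have t9 : hh true 9 = 1 := rfl
  have t10 : hh true 10 = -1 := rfl
  have t11 : hh true 11 = 0 := rfl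
  have t12 : hh true 12 = -1 := rfl
  have f0 : hh false 0 = 0 := rfl
  have f1 : hh false 1 = 0 := rfl
  have f2 : hh false 2 = 1 := rfl
  have f3 : hh false 3 = 0 := rfl
  have f4 : hh false 4 = 0 := rfl
  have f5 : hh false 5 = 1 := rfl
  have f6 : hh false 6 = 1 := rfl
  have f7 : hh false 7 = -1 := rfl
  have f8 : hh false 8 = -1 := rfl
  have f9 : hh false 9 = 0 := rfl
  have f10 : hh false 10 = 0 := rfl
  have f11 : hh false 11 = -1 := rfl
  have f12 : hh false 12 = 0 := rfl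
  rw [t0, t1, t2, t3, t4, t5, t6, t7, t8, t9, t10, t11, t12, f0, f1, f2, f3, f4, f5, f6, f7, f8, f9, f10, f11, f12]
  push_cast
  linear_combination (13 - 13 * ζ + ζ ^ 2 - ζ ^ 3 + 3 * ζ ^ 4 - 5 * ζ ^ 5 + 3 * ζ ^ 6 - ζ ^ 7 + 3 * ζ ^ 8 -
    5 * ζ ^ 9 + 3 * ζ ^ 10 - ζ ^ 11 + ζ ^ 12) * h0

/-- **the invariant form** -/
theorem exists_form (hψ : ψ.IsPrimitive) (hK : (Fintype.card (ZMod 13) : k) ≠ 0) (h2 : (2 : k) ≠ 0)
    (hspan : Submodule.span k (Set.range R) = ⊤) (h : Hw R ψ v lam)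
    (h1 : finrank k (LinearMap.range (E R ψ 0)) = 1) (hne : ∃ a, lam a ≠ 1) (hE1 : E R ψ 1 ≠ 0) :
    ∃ f : V →ₗ[k] V →ₗ[k] V →ₗ[k] k, IsAltForm f ∧ f ≠ 0 ∧ ∀ g x y z, f (R g x) (R g y) (R g z) = f x y z := by
  obtain ⟨c, hc0, hc, -, hsq, -, -, φ, hφ, hE⟩ := h.one hψ hK hspan h1
  have hl := lam_eq_et hsq hne
  -- weight vectors
  have hEb : ∀ a : (ZMod 13)ˣ, E R ψ (1 / (a : ZMod 13) ^ 2) ≠ 0 := by
    intro a h0
    apply hE1
    have h3 := t_mul_E R ψ a 1
    rw [h0, zero_mul] at h3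
    have h4 : R (t a⁻¹) * (R (t a) * E R ψ 1) = E R ψ 1 := by
      rw [← mul_assoc, ← map_mul, ← t_mul, inv_mul_cancel, t_one, map_one, one_mul]
    rw [← h4, h3, mul_zero]
  have h3n : (3 : ZMod 13) ≠ 0 := by decide
  have h4n : (4 : ZMod 13) ≠ 0 := by decide
  have hE3 : E R ψ 3 ≠ 0 := by
    have := hEb (Units.mk0 3 h3n)
    have h5 : (1 : ZMod 13) / ((Units.mk0 (3 : ZMod 13) h3n : (ZMod 13)ˣ) : ZMod 13) ^ 2 = 3 := by
      rw [Units.val_mk0]
      decide +kernel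
    rwa [h5] at this
  have hE9 : E R ψ 9 ≠ 0 := by
    have := hEb (Units.mk0 4 h4n)
    have h5 : (1 : ZMod 13) / ((Units.mk0 (4 : ZMod 13) h4n : (ZMod 13)ˣ) : ZMod 13) ^ 2 = 9 := by
      rw [Units.val_mk0]
      decide +kernel
    rwa [h5] at this
  have wt : ∀ b : ZMod 13, b ≠ 0 → E R ψ b ≠ 0 → ∃ (x : V) (α : k), α ≠ 0 ∧ φ x = 0 ∧
      ∀ a, ph R φ (some a) x = ψ (-(b * a)) * α := by
    intro b hb hEb
    set x := E R ψ b (R (w 1) v) with hx
    have hx0 : x ≠ 0 := fun h0 => hEb (h.E_eq_zero hψ hK hspan hb h0)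
    have hux : ∀ y, R (u y) x = ψ (b * y) • x := by
      intro y
      have h3 := congrArg (fun f : Module.End k V => f (R (w 1) v)) (R_mul_E R ψ b y)
      simpa only [Module.End.mul_apply, LinearMap.smul_apply] using h3
    have hφx : φ x = 0 := by
      apply eq_of_smul h hE
      rw [← phi_E h hE, zero_smul, hx, ← Module.End.mul_apply, E_mul_of_ne R hψ hK (Ne.symm hb), LinearMap.zero_apply]
    refine ⟨x, φ (R (w 1) x), ?_, hφx, ?_⟩
    · intro h0
      have key : ∀ g, φ (R g x) = 0 := by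
        intro g
        rcases bruhat g with ⟨y, a, rfl⟩ | ⟨y, c, z, rfl⟩
        · rw [map_mul, Module.End.mul_apply, phi_u h hE, phi_t h hE, hφx, mul_zero]
        · have e3 : w c = t c⁻¹ * w 1 := by rw [t_mul_w, inv_inv, w_one_mul_t]
          rw [map_mul, map_mul, Module.End.mul_apply, Module.End.mul_apply, phi_u h hE, hux, map_smul, map_smul,
            e3, MonoidHom.map_mul, Module.End.mul_apply, phi_t h hE, h0, mul_zero, smul_zero]
      have key2 : ∀ A : Module.End k V, φ (A x) = 0 := by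
        intro A
        have hA : A ∈ Submodule.span k (Set.range R) := by rw [hspan]; trivial
        induction hA using Submodule.span_induction with
        | mem y hy => obtain ⟨g, rfl⟩ := hy; exact key g
        | zero => rw [LinearMap.zero_apply, map_zero]
        | add a b _ _ ha hb => rw [LinearMap.add_apply, map_add, ha, hb, add_zero]
        | smul r a _ ha => rw [LinearMap.smul_apply, map_smul, ha, smul_zero]
      obtain ⟨χ, hχ⟩ := exists_dual (k := k) hx0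
      have h5 := key2 (χ.smulRight v)
      rw [LinearMap.smulRight_apply, hχ, one_smul, hφ] at h5
      exact one_ne_zero h5
    · intro a
      show φ (R (w 1) (R (u (-a)) x)) = _
      rw [hux, map_smul, map_smul, smul_eq_mul, mul_neg]
  obtain ⟨x, α, hα, hx0, hx⟩ := wt 1 one_ne_zero hE1
  obtain ⟨y, β, hβ, hy0, hy⟩ := wt 3 h3n hE3
  obtain ⟨z, γ, hγ, hz0, hz⟩ := wt 9 (by decide) hE9
  have hx' : ∀ a, ph R φ (some a) x = ψ (-a) * α := fun a => by rw [hx, one_mul]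
  have e1 := fm_eval (ψ := ψ) hx0 hy0 hz0 hx' hy hz true
  have e2 := fm_eval (ψ := ψ) hx0 hy0 hz0 hx' hy hz false
  simp only [sums, sums'] at e1 e2
  set g1 := ∑ s, ((hh true s : ℤ) : k) * ψ s with hg1
  set g2 := ∑ s, ((hh false s : ℤ) : k) * ψ s with hg2
  have e1' : fm R φ true x y z = α * β * γ * (26 * (-3 * g1 + 2 * g2)) := by
    rw [e1, hg1, hg2]
    congr 1
    rw [Finset.mul_sum, Finset.mul_sum, ← Finset.sum_add_distrib, Finset.mul_sum]
    refine Finset.sum_congr rfl fun s _ => ?_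
    push_cast
    ring
  have e2' : fm R φ false x y z = α * β * γ * (26 * (2 * g1 + 3 * g2)) := by
    rw [e2, hg1, hg2]
    congr 1
    rw [Finset.mul_sum, Finset.mul_sum, ← Finset.sum_add_distrib, Finset.mul_sum]
    refine Finset.sum_congr rfl fun s _ => ?_
    push_cast
    ring
  have h13 : (13 : k) ≠ 0 := by
    rw [ZMod.card] at hK
    exact_mod_cast hK
  have h26 : (26 : k) ≠ 0 := by
    have : (26 : k) = 2 * 13 := by norm_num
    rw [this]
    exact mul_ne_zero h2 h13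
  have hαβγ := mul_ne_zero (mul_ne_zero hα hβ) hγ
  by_cases hf : fm R φ true = 0
  · refine ⟨fm R φ false, fm_isAlt h2 φ false, ?_, fm_inv h hE hl false⟩
    intro hf'
    rw [hf] at e1'
    rw [hf'] at e2'
    have q1 : -3 * g1 + 2 * g2 = 0 := (mul_eq_zero.1 ((mul_eq_zero.1 e1'.symm).resolve_left hαβγ)).resolve_left h26
    have q2 : 2 * g1 + 3 * g2 = 0 := (mul_eq_zero.1 ((mul_eq_zero.1 e2'.symm).resolve_left hαβγ)).resolve_left h26
    have q3 : g1 = 0 := by
      apply (mul_eq_zero.1 _).resolve_left h13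
      linear_combination -3 * q1 + 2 * q2
    have q4 : g2 = 0 := by
      apply (mul_eq_zero.1 _).resolve_left h13
      linear_combination 2 * q1 + 3 * q2
    have q5 := odd_sums (k := k) hψ
    rw [← hg1, ← hg2, q3, q4] at q5
    apply h13
    linear_combination q5
  · exact ⟨fm R φ true, fm_isAlt h2 φ true, hf, fm_inv h hE hl true⟩

end Cfsg.Agent.H856.L13
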