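import Cfsg.Agent.H856.L13b

/-!
# `L₂(13)` : an invariant alternating 3-form in dimension 7, for a core (helper856)
-/

set_option autoImplicit false
set_option linter.unusedSectionVars false

namespace Cfsg.Agent.H856.L13

open Matrix Module Cfsg Cfsg.Geo Cfsg.Agent.H464.Sl2 Cfsg.Agent.H179.G2 Cfsg.Agent.H856.Tri Cfsg.Agent.H915.LD

universe u' v'

variable {ι : Type} [Fintype ι] [DecidableEq ι] {F : Type u'} [Field F] {P : Subgroup (GL ι F)}

theorem mulShift_E {k : Type*} [Field k] {V : Type*} [AddCommGroup V] [Module k V]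
    {K : Type*} [Field K] [Fintype K] {R : SpecialLinearGroup (Fin 2) K →* Module.End k V}
    (ψ : AddChar K k) (c b : K) : E R (ψ.mulShift c) b = E R ψ (c * b) := by
  unfold E
  congr 1
  refine Finset.sum_congr rfl fun x _ => ?_
  rw [AddChar.mulShift_apply]
  congr 2
  ring

theorem form_aux (hC : Core P) (ρ : SpecialLinearGroup (Fin 2) (ZMod 13) →* GL ι F) (hρ : ρ.range = P)
    (h13 : (13 : F) ≠ 0) (h2 : (2 : F) ≠ 0) (hn : Fintype.card ι = 7) :
    ∃ f : (ι → F) →ₗ[F] (ι → F) →ₗ[F] (ι → F) →ₗ[F] F, IsAltForm f ∧ f ≠ 0 ∧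
      ∀ g ∈ P, ∀ x y z, f ((g : Matrix ι ι F) *ᵥ x) ((g : Matrix ι ι F) *ᵥ y) ((g : Matrix ι ι F) *ᵥ z) = f x y z := by
  let re := reGL (F := F) (Fintype.equivFin ι)
  let ρ' : SpecialLinearGroup (Fin 2) (ZMod 13) →* GL (Fin (Fintype.card ι)) F := re.toMonoidHom.comp ρ
  have hρ'1 : ρ' ≠ 1 := by
    intro h
    have h1 : ρ = 1 := by
      ext1 g
      apply re.injective
      have h2 := DFunLike.congr_fun h g
      rw [MonoidHom.one_apply, map_one]
      exact h2
    rw [h1] at hρ
    apply hC.nonabelian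
    have h3 : Subsingleton P := by
      constructor
      rintro ⟨a, ha⟩ ⟨b, hb⟩
      rw [← hρ] at ha hb
      obtain ⟨x, rfl⟩ := ha
      obtain ⟨y, rfl⟩ := hb
      rfl
    have h2 : Subsingleton (P ⧸ (scalars ι F).subgroupOf P) := by
      constructor
      intro a b
      induction a using QuotientGroup.induction_on with
      | H a =>
        induction b using QuotientGroup.induction_on with
        | H b => rw [Subsingleton.elim a b]
    exact ⟨⟨fun a b => Subsingleton.elim _ _⟩⟩
  have habs : ActsAbsolutelyIrreducibly (matrixSet ρ'.range) := by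
    have h1 : ρ'.range = P.map re.toMonoidHom := by
      rw [MonoidHom.range_comp, hρ]
    rw [h1]
    exact absIrr_reGL _ hC.absIrred
  set k := AlgebraicClosure F with hk
  have hi : Function.Injective (algebraMap F k) := (algebraMap F k).injective
  have hK : (Fintype.card (ZMod 13) : k) ≠ 0 := by
    rw [ZMod.card]
    intro h
    apply h13
    apply hi
    rw [map_zero, ← h, map_ofNat]
    norm_num
  have h2k : (2 : k) ≠ 0 := by
    intro h
    apply h2
    apply hi
    rw [map_zero, ← h, map_ofNat]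
  obtain ⟨ψ, hψ⟩ := exists_prim (K := ZMod 13) hK
  set R := Cfsg.Agent.H464.Sl2.ext ρ' k with hR
  have hspan : Submodule.span k (Set.range R) = ⊤ := span_ext ρ' _ (span_eq_top ρ' habs)
  have hR1 : R ≠ 1 := ext_ne_one ρ' _ hρ'1
  obtain ⟨b, b', hb, hb', hE, hE', h0⟩ := half_cases R hψ hK hspan hR1 (by rw [ZMod.card]; norm_num)
    (by rw [Module.finrank_fin_fun, ZMod.card, hn]; omega)
  have h01 : finrank k (LinearMap.range (E R ψ 0)) = 1 := by
    rw [Module.finrank_fin_fun, ZMod.card] at h0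
    omega
  set ψ' := ψ.mulShift b' with hψ'
  have hprim : ψ'.IsPrimitive := by
    intro a ha h
    have h3 := hψ (mul_ne_zero hb' ha)
    apply h3
    rw [← h, hψ']
    ext x
    simp only [AddChar.mulShift_apply]
    ring_nf
  have hE0 : E R ψ' 0 = E R ψ 0 := by rw [hψ', mulShift_E, mul_zero]
  have hE1 : E R ψ' 1 ≠ 0 := by
    rw [hψ', mulShift_E, mul_one]
    intro h
    rw [h, LinearMap.range_zero, finrank_bot] at hE'
    exact zero_ne_one hE'
  have hEb : E R ψ' (b / b') = 0 := by rw [hψ', mulShift_E, mul_div_cancel₀ _ hb']; exact hE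
  have hne0 : LinearMap.range (E R ψ' 0) ≠ ⊥ := by
    rw [hE0]
    intro h
    rw [h, finrank_bot] at h01
    exact zero_ne_one h01
  obtain ⟨v, lam, hv⟩ := exists_hw hprim hK hne0
  have h01' : finrank k (LinearMap.range (E R ψ' 0)) = 1 := by rw [hE0]; exact h01
  have hne := hv.lam_ne_one hprim hK hspan h01' (div_ne_zero hb hb') hEb one_ne_zero hE1
  obtain ⟨f, hf, hf0, hfi⟩ := exists_form hprim hK h2k hspan hv h01' hne hE1
  -- descend
  let c : (ι → F) →ₗ[F] (Fin (Fintype.card ι) → k) :=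
    { toFun := fun x i => algebraMap F k (x ((Fintype.equivFin ι).symm i))
      map_add' := fun x y => by funext i; simp
      map_smul' := fun a x => by
        funext i
        simp only [Pi.smul_apply, smul_eq_mul, map_mul, RingHom.id_apply, Algebra.smul_def] }
  have hc : Submodule.span k (Set.range c) = ⊤ := by
    rw [eq_top_iff, ← (Pi.basisFun k (Fin (Fintype.card ι))).span_eq, Submodule.span_le]
    rintro _ ⟨i, rfl⟩
    apply Submodule.subset_span
    refine ⟨Pi.single ((Fintype.equivFin ι).symm i) 1, ?_⟩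
    funext j
    change algebraMap F k ((Pi.single ((Fintype.equivFin ι).symm i) 1 : ι → F) ((Fintype.equivFin ι).symm j)) =
      (Pi.basisFun k (Fin (Fintype.card ι)) i) j
    rw [Pi.basisFun_apply, Pi.single_apply, Pi.single_apply]
    simp only [EmbeddingLike.apply_eq_iff_eq]
    split_ifs <;> simp
  obtain ⟨f', hf', hf'0, hinv⟩ := descend (F := F) (V := ι → F) hf hf0 c hc
  refine ⟨f', hf', hf'0, ?_⟩
  intro g hg x y z
  rw [← hρ] at hg
  obtain ⟨g, rfl⟩ := hg
  have hcg : ∀ x, c ((ρ g : Matrix ι ι F) *ᵥ x) = R g (c x) := by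
    intro x
    funext i
    change algebraMap F k (((ρ g : Matrix ι ι F) *ᵥ x) ((Fintype.equivFin ι).symm i)) =
      (((ρ' g : Matrix _ _ F).map (algebraMap F k)) *ᵥ (c x)) i
    simp only [Matrix.mulVec, dotProduct, map_sum, map_mul]
    rw [← Equiv.sum_comp (Fintype.equivFin ι)]
    refine Finset.sum_congr rfl fun j _ => ?_
    change _ = algebraMap F k ((ρ g : Matrix ι ι F) ((Fintype.equivFin ι).symm i)
      ((Fintype.equivFin ι).symm (Fintype.equivFin ι j))) * algebraMap F k (x ((Fintype.equivFin ι).symm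
        (Fintype.equivFin ι j)))
    rw [Equiv.symm_apply_apply]
  apply hinv
  rw [hcg, hcg, hcg, hfi]

/-- **`L₂(13)`** : an invariant alternating 3-form -/
theorem l13_form (hC : Core P) {K : Type v'} [Field K] [Fintype K] (hK : Fintype.card K = 13)
    (ρ : SpecialLinearGroup (Fin 2) K →* GL ι F) (hρ : ρ.range = P)
    (h13 : (13 : F) ≠ 0) (h2 : (2 : F) ≠ 0) (hn : Fintype.card ι = 7) :
    ∃ f : (ι → F) →ₗ[F] (ι → F) →ₗ[F] (ι → F) →ₗ[F] F, IsAltForm f ∧ f ≠ 0 ∧
      ∀ g ∈ P, ∀ x y z, f ((g : Matrix ι ι F) *ᵥ x) ((g : Matrix ι ι F) *ᵥ y) ((g : Matrix ι ι F) *ᵥ z) = f x y z := by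
  let e : ZMod 13 ≃+* K := ZMod.ringEquivOfPrime K (by norm_num) hK
  let E : SpecialLinearGroup (Fin 2) (ZMod 13) →* SpecialLinearGroup (Fin 2) K :=
    Matrix.SpecialLinearGroup.map (e : ZMod 13 →+* K)
  have hE : Function.Surjective E := by
    intro g
    refine ⟨Matrix.SpecialLinearGroup.map (e.symm : K →+* ZMod 13) g, ?_⟩
    apply Subtype.ext
    ext i j
    change e (e.symm (g.1 i j)) = g.1 i j
    exact e.apply_symm_apply _
  refine form_aux hC (ρ.comp E) ?_ h13 h2 hn
  rw [MonoidHom.range_comp, MonoidHom.range_eq_top.2 hE, ← MonoidHom.range_eq_map, hρ]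

end Cfsg.Agent.H856.L13
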