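import Cfsg.Agent.H856.Tz4
import Cfsg.Agent.H879.Nine.Types
import Cfsg.Agent.H879.TL.KillSp

/-!
# `Ω₇(q)`: the assembly (helper856)
-/

set_option autoImplicit false
set_option linter.unusedSectionVars false

namespace Cfsg.Agent.H856.Tz

open QuadraticMap Matrix Cfsg Cfsg.Geo Cfsg.Agent.H915.LD Cfsg.Agent.H936.List12 Cfsg.Agent.H912.Bd
  Cfsg.Agent.H912.Five
open Cfsg.Agent.LieClassical.OrthCore

universe u v

namespace C7

variable {ι : Type} [Fintype ι] [DecidableEq ι] {F : Type u} [Field F] [Fintype F] {p : ℕ}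
  {Q : QuadraticForm F (ι → F)} {H P : Subgroup (GL ι F)} (c : C7 p Q H P) {P' : Subgroup (GL (Fin 7) F)}
include c

/-- cross characteristic -/
theorem cross (h' : Cop P P') (h : CandD p 7 (Soc P')) : Concl P := by
  have := Fact.mk c.prime
  have := c.charP
  obtain ⟨s⟩ := h'.iso
  have hseven := c.seven
  have h2 := c.ne_two
  rcases h with h | h | h | ⟨-, -, h⟩ | h
  · -- alternating groups
    obtain ⟨m, h5, h14, -, -, -, ⟨e0⟩⟩ := h
    have e := s.trans e0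
    rcases (show m = 5 ∨ m = 6 ∨ m = 7 ∨ 8 ≤ m by omega) with rfl | rfl | rfl | hm8
    · by_cases hp5 : p = 5
      · subst hp5
        obtain ⟨f⟩ := Cfsg.Agent.S0253.result (F := ZMod 5) (ZMod.card 5)
        exact c.own_l2 (ZMod 5) (e.trans f.symm)
      · exact (c.not_a5 hp5 e).elim
    · by_cases hp3 : p = 3
      · subst hp3
        obtain ⟨K, _, _, -, _, ⟨f⟩⟩ := H937.T2.exists_nine e
        exact c.own_l2 K f
      · exact (c.not_a6 hp3 e).elim
    · exact (c.not_a7 e).elim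
    · exact c.alt hm8 e
  · -- classical groups
    rcases h with ⟨q, hq, hpq, -, h⟩ | ⟨-, h8, -⟩ | ⟨h3, -, h⟩ | ⟨-, h1, -⟩ | ⟨-, h3, -, h⟩ | ⟨-, h8, -⟩ |
      ⟨-, h1, -⟩ | ⟨-, -, h⟩ | ⟨-, -, h⟩
    · obtain ⟨K, iK, iKf, hK, ⟨e0⟩⟩ := h
      have e := s.trans e0
      have h5 : 5 ≤ Fintype.card K := by
        rw [hK]
        revert hq
        simp only [Finset.mem_insert, Finset.mem_singleton]
        omega
      have h9 : Fintype.card K ≠ 9 := by
        rw [hK]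
        revert hq
        simp only [Finset.mem_insert, Finset.mem_singleton]
        omega
      have h1 := H464.Sl2.l2_degrees p c.core h5 h9 (by rw [hK]; exact hpq) e (by rw [hseven]; norm_num)
      rw [hseven] at h1
      rcases h1 with ⟨h1, h2⟩ | ⟨h1, h2⟩ | ⟨h1, h2⟩ | ⟨h1, h2⟩ | ⟨h1, h2⟩ | ⟨h1, h2⟩ | ⟨h1, h2⟩ | ⟨h1, h2⟩ | ⟨h1, h2⟩
      · exact absurd h2 (by decide)
      · refine (c.not_l27 h1 ?_ e).elim
        rintro rfl
        exact hpq (by rw [← hK, h1])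
      · exact c.l28 h1 e
      · exact absurd h2 (by decide)
      · refine c.l213 h1 ?_ e
        rintro rfl
        exact hpq (by rw [← hK, h1])
      · exact absurd h2 (by decide)
      · exact absurd h2 (by decide)
      · exact absurd h2 (by decide)
      · omega
    · omega
    · obtain ⟨K, iK, iKf, hK, ⟨e⟩⟩ := h
      exact c.u33 (by rw [hK]; norm_num) h3 (s.trans e)
    · omega
    · obtain ⟨K, iK, iKf, hK, ⟨e⟩⟩ := h
      have h1 := H659.Sp4.u42_stage' c.core p h2 h3 (by rw [hseven]; norm_num) (k := K) (by rw [hK]; norm_num)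
        (s.trans e)
      rw [hseven] at h1
      omega
    · omega
    · omega
    · obtain ⟨K, iK, iKf, hK, ⟨e⟩⟩ := h
      exact c.sp62 ⟨K, iK, iKf, hK, ⟨s.trans e⟩⟩
    · obtain ⟨K, iK, iKf, hK, ⟨e⟩⟩ := h
      have h1 := H916.T8.om hK c.core p (s.trans e) c.two (by rw [hseven]; norm_num)
      rw [hseven] at h1
      omega
  · -- multipliers
    rcases h with ⟨-, h1, -⟩ | ⟨-, h1, -⟩
    · omega
    · omega
  · have h1 := H814.Sz8.core_sz8 h'.core c.two (by rw [Fintype.card_fin]; norm_num) h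
    rw [Fintype.card_fin] at h1
    omega
  · -- sporadic groups
    rcases spor_cases h'.core h'.sd h with ⟨h11, ⟨e⟩⟩ | ⟨⟨e⟩⟩
    · exact c.j1 h11 (s.trans e)
    · exact (H48.Seven.no_orb p h'.core e H921.Spor.J2.J2_two Nat.prime_two (Ne.symm h2) (by norm_num)
        (by norm_num)).elim

/-- own characteristic -/
theorem own (h' : Cop P P') (h : H905.Md.SmallDC p 7 (Soc P'))
    (hOm : ¬ (IsPOmegaOdd (Soc P) ∨
      (∃ (K : Type) (_ : Field K) (_ : Fintype K) (k : ℕ), 4 ≤ k ∧ Odd (Fintype.card K) ∧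
        Nonempty (Soc P ≃* Cfsg.POmega K (quadFormPlus k K))) ∨
      ∃ (K : Type) (_ : Field K) (_ : Fintype K) (k : ℕ) (a b : K), 4 ≤ k ∧ Odd (Fintype.card K) ∧
        (∀ z₁ z₂ : K, z₁ ^ 2 + a * z₁ * z₂ + b * z₂ ^ 2 = 0 → z₁ = 0 ∧ z₂ = 0) ∧
        Nonempty (Soc P ≃* Cfsg.POmega K (quadFormMinus (k - 1) K a b)))) : Concl P := by
  have hp := Fact.mk c.prime
  have := c.charP
  obtain ⟨s⟩ := h'.iso
  have hseven := c.seven
  have h2 := c.ne_two
  have two_odd : ∀ (K : Type) [Field K] [Fintype K] [CharP K p], Odd (Fintype.card K) := by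
    intro K _ _ _
    obtain ⟨k, -, hk⟩ := FiniteField.card K p
    rw [hk]
    exact (hp.out.odd_of_ne_two c.ne_two).pow
  rcases h with h | h | h | ⟨h2', -⟩ | ⟨h3, h⟩ | h | h | h | h | h | ⟨-, h2', -⟩
  · obtain ⟨K, iK, iKf, iKp, l, hl, hl4, ⟨e⟩⟩ := h
    rcases (show l = 1 ∨ l = 2 ∨ 3 ≤ l by omega) with rfl | rfl | hl3
    · exact c.own_l2 K (s.trans e)
    · exact c.own_l3 K (s.trans e)
    · exact (own_psl (p := p) h'.core h'.fixQ (by omega) e).elim
  · obtain ⟨K, iK, iKf, iKp, m, hm, hm2, hm3, ⟨e⟩⟩ := h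
    by_cases h3 : m = 2
    · subst h3
      have h1 := (H905.Sp4.core_psp4 p c.core (K := K) (by rw [Nat.card_eq_fintype_card]; exact hm3 rfl) (s.trans e)
        (by rw [hseven]; norm_num)).2.2
      rw [hseven] at h1
      omega
    · have h1 := H879.TL.kill_psp c.core c.two c.bot (by omega) (two_odd K) (s.trans e)
      rw [hseven] at h1
      omega
  · obtain ⟨K, iK, iKf, iKp, N, q, hK, hN, hN2, hN3, ⟨e⟩⟩ := h
    rcases (show N = 3 ∨ N = 4 ∨ 5 ≤ N by omega) with rfl | rfl | hN5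
    · refine c.own_u3 K hK ?_ (s.trans e)
      have h4 := Fintype.one_lt_card (α := K)
      rw [hK] at h4
      by_contra hq
      have h5 : q = 0 ∨ q = 1 ∨ q = 2 := by omega
      rcases h5 with rfl | rfl | rfl
      · norm_num at h4
      · norm_num at h4
      · exact hN3 ⟨rfl, rfl⟩
    · exact (H876.D3.not_four_seven p K c.seven hK c.core (s.trans e)).elim
    · exact (H879.Nine.own_psu (p := p) (by norm_num) h'.core h'.sd hN5 hK e).elim
  · exact absurd h2' h2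
  · obtain ⟨K, iK, iKf, m, hm, hK, ⟨e⟩⟩ := h
    exact c.own_ree h3 ⟨K, iK, iKf, m, hm, hK, ⟨s.trans e⟩⟩
  · obtain ⟨K, iK, iKf, iKp, m, hm, hm2, ho, ⟨e⟩⟩ := h
    exact (hOm (Or.inl ⟨K, iK, iKf, m, hm, ho, ⟨s.trans e⟩⟩)).elim
  · obtain ⟨K, iK, iKf, iKp, m, hm, hm2, ⟨e⟩⟩ := h
    omega
  · obtain ⟨K, iK, iKf, iKp, m, a, b, hm, hm2, hab, ⟨e⟩⟩ := h
    exact (hOm (Or.inr (Or.inr ⟨K, iK, iKf, m, a, b, hm, two_odd K, hab, ⟨s.trans e⟩⟩))).elim
  · obtain ⟨-, K, iK, iKf, iKp, h3, ⟨e⟩⟩ := h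
    exact c.own_g2 K h3 (s.trans e)
  · obtain ⟨-, K, iK, iKf, iKp, q, hq, hK, ⟨e⟩⟩ := h
    have h1 := (H392.TD.d4_small p c.core hq hK (s.trans e) (by rw [hseven]; norm_num)).1
    omega
  · exact absurd h2' h2

/-- **the conclusion** -/
theorem main (hk : H879.Nine.Known.{u})
    (hOm : ¬ (IsPOmegaOdd (Soc P) ∨
      (∃ (K : Type) (_ : Field K) (_ : Fintype K) (k : ℕ), 4 ≤ k ∧ Odd (Fintype.card K) ∧
        Nonempty (Soc P ≃* Cfsg.POmega K (quadFormPlus k K))) ∨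
      ∃ (K : Type) (_ : Field K) (_ : Fintype K) (k : ℕ) (a b : K), 4 ≤ k ∧ Odd (Fintype.card K) ∧
        (∀ z₁ z₂ : K, z₁ ^ 2 + a * z₁ * z₂ + b * z₂ ^ 2 = 0 → z₁ = 0 ∧ z₂ = 0) ∧
        Nonempty (Soc P ≃* Cfsg.POmega K (quadFormMinus (k - 1) K a b)))) : Concl P := by
  have hp := Fact.mk c.prime
  have := c.charP
  obtain ⟨P', h'⟩ := c.cop
  have hs : IsSimpleGroup (Soc P') := h'.core.simple
  by_cases hL : IsLieTypeChar p (Soc P')
  · have h1 := H905.Md.small_dc (p := p) h'.core.absIrred.1 h'.core.perfect hL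
      (by rw [Fintype.card_fin]; norm_num)
    rw [Fintype.card_fin] at h1
    exact c.own h' h1 hOm
  · rcases list₁ (by norm_num) h'.core (hk _ hs) hL with h1 | h1
    · exact c.cross h' h1
    · exact absurd h1.1 c.ne_two

end C7

end Cfsg.Agent.H856.Tz
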