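import Cfsg.Agent.J4.Simple

/-!
# An element of order 40 in `J4`
-/

set_option autoImplicit false

namespace Cfsg.Agent.H856.Order40

open Cfsg.Agent.Lib.F2Mat Cfsg.Agent.Lib.F2MatGroup Cfsg.Agent.J4.Rep112 Cfsg.Agent.J4.Simple

theorem w_pow40 : (xg * yg * xg * yg * tg) ^ 40 = 1 := by
  apply Codes.eq_one (n := 112)
  · codes_tac
  · decide +kernel

theorem w_pow20 : (xg * yg * xg * yg * tg) ^ 20 ≠ 1 := by
  refine ne_one_of_codes (n := 112) (by codes_tac) ?_ ?_
  · decide +kernel
  · decide +kernel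

theorem w_pow8 : (xg * yg * xg * yg * tg) ^ 8 ≠ 1 := by
  refine ne_one_of_codes (n := 112) (by codes_tac) ?_ ?_
  · decide +kernel
  · decide +kernel

theorem orderOf_w : orderOf (xg * yg * xg * yg * tg) = 40 := by
  apply orderOf_eq_of_pow_and_pow_div_prime (by norm_num) w_pow40
  intro p hp hp40
  have h : p = 2 ∨ p = 5 := by
    have h1 : p ∈ Nat.primeFactors 40 := Nat.mem_primeFactors.2 ⟨hp, hp40, by norm_num⟩
    have h2 : Nat.primeFactors 40 = {2, 5} := by
      rw [show 40 = 2 ^ 3 * 5 by norm_num, Nat.primeFactors_mul (by norm_num) (by norm_num),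
        Nat.primeFactors_prime_pow (by norm_num) Nat.prime_two,
        Nat.Prime.primeFactors (by norm_num)]
      rfl
    rw [h2] at h1
    simpa using h1
  rcases h with rfl | rfl
  · exact w_pow20
  · exact w_pow8

/-- `J4` has an element of order 40 -/
theorem exists_orderOf : ∃ u : Cfsg.Spor.J4, 40 ∣ orderOf u := by
  refine ⟨x * y * x * y * t, ?_⟩
  have h := orderOf_map_dvd rho (x * y * x * y * t)
  rwa [map_mul, map_mul, map_mul, map_mul, rho_x, rho_y, rho_t, orderOf_w] at h

end Cfsg.Agent.H856.Order40
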