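import Mathlib
import Cfsg.Agent.LieClassical.OrthTrans

/-!
# The deleted permutation module of degree 8 in dimension 7

`Fr8 u` : eight vectors of a 7-dimensional space with sum 0 and no other relation.
`pm` : the action of `Perm (Fin 8)`; `Inv8` : a quadratic form with constant products.
-/

set_option autoImplicit false
set_option linter.unusedSectionVars false

open scoped Pointwise

namespace Cfsg.Agent.H856.Sv

open Equiv QuadraticMap Cfsg.Agent.LieClassical.OrthCore Cfsg.Agent.LieClassical.OrthTrans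

variable {F : Type*} [Field F] {V : Type*} [AddCommGroup V] [Module F V]

/-- eight vectors whose only relation is that their sum is 0 -/
structure Fr8 (F : Type*) [Field F] {V : Type*} [AddCommGroup V] [Module F V] (u : Fin 8 → V) : Prop where
  sum : ∑ i, u i = 0
  rel : ∀ x : Fin 8 → F, ∑ i, x i • u i = 0 → ∀ i j, x i = x j

namespace Fr8

variable {u : Fin 8 → V} (hu : Fr8 F u)

include hu

theorem li : LinearIndependent F (fun j : Fin 7 => u j.castSucc) := by
  rw [Fintype.linearIndependent_iff]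
  intro y hy j
  let y' : Fin 8 → F := Fin.lastCases 0 y
  have h1 : ∑ k, y' k • u k = 0 := by
    rw [Fin.sum_univ_castSucc]
    simp only [y', Fin.lastCases_castSucc, Fin.lastCases_last, zero_smul, add_zero]
    exact hy
  have h2 := hu.rel y' h1 j.castSucc (Fin.last 7)
  simp only [y'] at h2
  rwa [Fin.lastCases_castSucc, Fin.lastCases_last] at h2

theorem last_eq : u (Fin.last 7) = -∑ j : Fin 7, u j.castSucc := by
  have h := hu.sum
  rw [Fin.sum_univ_castSucc] at h
  rw [eq_neg_iff_add_eq_zero, add_comm]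
  exact h

variable (h7 : Module.finrank F V = 7)

/-- the basis `u 0, ..., u 6` -/
noncomputable def basis : Module.Basis (Fin 7) F V :=
  haveI : FiniteDimensional F V := Module.finite_of_finrank_pos (by rw [h7]; norm_num)
  basisOfLinearIndependentOfCardEqFinrank hu.li (by rw [Fintype.card_fin, h7])

theorem basis_apply (j : Fin 7) : hu.basis h7 j = u j.castSucc := by
  simp [basis]

include h7

theorem exists_lin {W : Type*} [AddCommGroup W] [Module F W] (v : Fin 8 → W) (hv : ∑ i, v i = 0) :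
    ∃ L : V →ₗ[F] W, ∀ i, L (u i) = v i := by
  refine ⟨(hu.basis h7).constr F fun j => v j.castSucc, fun i => ?_⟩
  have key : ∀ j : Fin 7, (hu.basis h7).constr F (fun j => v j.castSucc) (u j.castSucc) = v j.castSucc := by
    intro j
    rw [← hu.basis_apply h7, Module.Basis.constr_basis]
  rcases Fin.eq_castSucc_or_eq_last i with ⟨j, rfl⟩ | rfl
  · exact key j
  · rw [hu.last_eq, map_neg, map_sum]
    simp only [key]
    rw [Fin.sum_univ_castSucc] at hv
    rw [neg_eq_iff_add_eq_zero]
    exact hv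

theorem span_eq : Submodule.span F (Set.range u) = ⊤ := by
  rw [eq_top_iff, ← (hu.basis h7).span_eq]
  apply Submodule.span_mono
  rintro _ ⟨j, rfl⟩
  exact ⟨_, (hu.basis_apply h7 j).symm⟩

theorem ext_lin {W : Type*} [AddCommGroup W] [Module F W] {L L' : V →ₗ[F] W} (h : ∀ i, L (u i) = L' (u i)) :
    L = L' := by
  apply (hu.basis h7).ext
  intro j
  rw [hu.basis_apply, h]

theorem exists_sum (v : V) : ∃ x : Fin 8 → F, ∑ i, x i • u i = v := by
  have h : v ∈ Submodule.span F (Set.range u) := by rw [hu.span_eq h7]; trivial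
  rw [Submodule.mem_span_range_iff_exists_fun] at h
  exact h

omit h7 in
theorem ne_zero (i : Fin 8) : u i ≠ 0 := by
  intro h
  have h1 := hu.rel (Pi.single i 1) (by
    rw [Finset.sum_eq_single i]
    · simp [h]
    · intro j _ hj
      simp [Pi.single_eq_of_ne hj]
    · intro h; exact absurd (Finset.mem_univ i) h)
  obtain ⟨j, hj⟩ : ∃ j : Fin 8, j ≠ i := exists_ne i
  have h2 := h1 i j
  rw [Pi.single_eq_same, Pi.single_eq_of_ne hj] at h2
  exact one_ne_zero h2

/-- the action of a permutation -/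
theorem exists_pm (σ : Perm (Fin 8)) : ∃ g : V ≃ₗ[F] V, ∀ i, g (u i) = u (σ i) := by
  have hs : ∀ τ : Perm (Fin 8), ∑ i, u (τ i) = 0 := fun τ => by rw [Equiv.sum_comp τ u, hu.sum]
  obtain ⟨L, hL⟩ := hu.exists_lin h7 (fun i => u (σ i)) (hs σ)
  obtain ⟨L', hL'⟩ := hu.exists_lin h7 (fun i => u (σ⁻¹ i)) (hs σ⁻¹)
  refine ⟨LinearEquiv.ofLinearMap L L' (hu.ext_lin h7 fun i => ?_) (hu.ext_lin h7 fun i => ?_), hL⟩
  · simp [hL, hL']
  · simp [hL, hL']

omit h7 in
/-- the permutation action -/
noncomputable def pm (h7 : Module.finrank F V = 7) : Perm (Fin 8) →* (V ≃ₗ[F] V) where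
  toFun σ := (hu.exists_pm h7 σ).choose
  map_one' := by
    apply LinearEquiv.toLinearMap_injective
    apply hu.ext_lin h7
    intro i
    exact (hu.exists_pm h7 1).choose_spec i
  map_mul' σ τ := by
    apply LinearEquiv.toLinearMap_injective
    apply hu.ext_lin h7
    intro i
    have h1 := (hu.exists_pm h7 (σ * τ)).choose_spec i
    have h2 := (hu.exists_pm h7 τ).choose_spec i
    have h3 := (hu.exists_pm h7 σ).choose_spec (τ i)
    show (hu.exists_pm h7 (σ * τ)).choose (u i) =
      (hu.exists_pm h7 σ).choose ((hu.exists_pm h7 τ).choose (u i))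
    rw [h1, h2, h3]
    rfl

omit h7 in
theorem pm_apply (h7 : Module.finrank F V = 7) (σ : Perm (Fin 8)) (i : Fin 8) :
    hu.pm h7 σ (u i) = u (σ i) := (hu.exists_pm h7 σ).choose_spec i

end Fr8

/-! ### the form -/

/-- a quadratic form with constant products -/
structure Inv8 (Q : QuadraticForm F V) (u : Fin 8 → V) (b : F) : Prop where
  fr : Fr8 F u
  pol : ∀ i j, i ≠ j → polar Q (u i) (u j) = b

namespace Inv8

variable {Q : QuadraticForm F V} {u : Fin 8 → V} {b : F} (hI : Inv8 Q u b)

include hI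

theorem pol_self (i : Fin 8) : polar Q (u i) (u i) = -7 * b := by
  have h1 : polar Q (u i) (∑ j, u j) = 0 := by rw [hI.fr.sum, polar_zero_right]
  have h2 : polar Q (u i) (∑ j, u j) = ∑ j, polar Q (u i) (u j) :=
    map_sum (polarBilin Q (u i)) u Finset.univ
  rw [h2, ← Finset.add_sum_erase _ _ (Finset.mem_univ i), Finset.sum_congr rfl (fun j hj =>
    hI.pol i j (Ne.symm (Finset.ne_of_mem_erase hj))), Finset.sum_const, Finset.card_erase_of_mem (Finset.mem_univ i),
    Finset.card_univ, Fintype.card_fin, nsmul_eq_mul] at h1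
  have h3 : ((8 - 1 : ℕ) : F) = 7 := by norm_num
  rw [h3] at h1
  linear_combination h1

theorem pol_perm (σ : Perm (Fin 8)) (i j : Fin 8) : polar Q (u (σ i)) (u (σ j)) = polar Q (u i) (u j) := by
  by_cases h : i = j
  · rw [h, hI.pol_self, hI.pol_self]
  · rw [hI.pol _ _ h, hI.pol _ _ (fun h' => h (σ.injective h'))]

variable (h7 : Module.finrank F V = 7)
include h7

theorem mem_O_of {g : V ≃ₗ[F] V} (h2 : (2 : F) ≠ 0)
    (h : ∀ i j, polar Q (g (u i)) (g (u j)) = polar Q (u i) (u j)) : g ∈ O Q := by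
  have h1 : ((polarBilin Q).compl₁₂ (g : V →ₗ[F] V) (g : V →ₗ[F] V)) = polarBilin Q := by
    apply hI.fr.ext_lin h7
    intro i
    apply hI.fr.ext_lin h7
    intro j
    exact h i j
  rw [mem_O]
  intro v
  have h3 : polar Q (g v) (g v) = polar Q v v := by
    have := congrArg (fun B : LinearMap.BilinForm F V => B v v) h1
    exact this
  rw [polar_self', polar_self'] at h3
  exact mul_left_cancel₀ h2 h3

theorem pm_mem (h2 : (2 : F) ≠ 0) (σ : Perm (Fin 8)) : hI.fr.pm h7 σ ∈ O Q := by
  apply hI.mem_O_of h7 h2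
  intro i j
  rw [hI.fr.pm_apply, hI.fr.pm_apply, hI.pol_perm]

theorem b_ne (hQ : Nondeg Q) : b ≠ 0 := by
  intro hb
  apply hI.fr.ne_zero 0
  apply hQ
  intro y
  have h1 : polarBilin Q (u 0) = 0 := by
    apply hI.fr.ext_lin h7
    intro j
    show polar Q (u 0) (u j) = 0
    by_cases h : (0 : Fin 8) = j
    · rw [← h, hI.pol_self, hb, mul_zero]
    · rw [hI.pol _ _ h, hb]
  exact congrArg (fun f : V →ₗ[F] F => f y) h1

/-- even permutations are in the commutator group -/
theorem pm_mem_comm (h2 : (2 : F) ≠ 0) {σ : Perm (Fin 8)} (hσ : σ ∈ alternatingGroup (Fin 8)) :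
    hI.fr.pm h7 σ ∈ ⁅O Q, O Q⁆ := by
  have h1 : σ ∈ ⁅(⊤ : Subgroup (Perm (Fin 8))), (⊤ : Subgroup (Perm (Fin 8)))⁆ := by
    have h3 := alternatingGroup.commutator_perm_eq (α := Fin 8) (by norm_num)
    rw [commutator_def] at h3
    rw [h3]
    exact hσ
  have h4 : (⁅(⊤ : Subgroup (Perm (Fin 8))), (⊤ : Subgroup (Perm (Fin 8)))⁆).map (hI.fr.pm h7) ≤ ⁅O Q, O Q⁆ := by
    rw [Subgroup.map_commutator]
    apply Subgroup.commutator_mono <;>
    · rintro _ ⟨τ, -, rfl⟩
      exact hI.pm_mem h7 h2 τ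
  exact h4 ⟨σ, h1, rfl⟩

end Inv8

end Cfsg.Agent.H856.Sv
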