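import Cfsg.Agent.H856.Sv1
import Cfsg.Agent.LieClassical.OrthFinite

/-!
# Ω₇(q) preserves no small set of vectors

`not_preserve` : a set of fewer than `3 ^ 5` vectors, not contained in `{0}`, is not invariant under `E(Q)`, `dim V = 7`.
-/

set_option autoImplicit false
set_option linter.unusedSectionVars false

open scoped Pointwise

namespace Cfsg.Agent.H856.Sv

open QuadraticMap Cfsg.Agent.LieClassical.OrthCore Cfsg.Agent.LieClassical.OrthTrans
open Cfsg.Agent.LieClassical.OrthFinite

variable {F : Type*} [Field F] {V : Type*} [AddCommGroup V] [Module F V]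

theorem not_preserve [Finite F] {Q : QuadraticForm F V} (hQ : Nondeg Q) (h7 : Module.finrank F V = 7)
    (h2 : (2 : F) ≠ 0) {X : Set V} (hX : X.Finite) (hc : X.ncard < 243) {r : V} (hr : r ∈ X) (hr0 : r ≠ 0)
    (hpre : ∀ g ∈ E Q, ∀ x ∈ X, g x ∈ X) : False := by
  have hfin : FiniteDimensional F V := Module.finite_of_finrank_pos (by rw [h7]; norm_num)
  have hG : Good Q := good_of_finite hQ (by rw [h7]; norm_num)
  obtain ⟨x, y, hxy⟩ := hG.exists_hyp
  obtain ⟨u, hu, hur⟩ := exists_sing_polar_one hQ hxy hr0
  have hu0 : u ≠ 0 := by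
    rintro rfl
    rw [polar_zero_left] at hur
    exact zero_ne_one hur
  obtain ⟨u', huu'⟩ := exists_hyp hQ hu hu0
  let f : V →ₗ[F] F × F := (polarBilin Q u).prod (polarBilin Q u')
  have hf : 5 ≤ Module.finrank F (LinearMap.ker f) := by
    have h1 := f.finrank_range_add_finrank_ker
    have h3 : Module.finrank F (LinearMap.range f) ≤ 2 := by
      refine (Submodule.finrank_le _).trans ?_
      rw [Module.finrank_prod, Module.finrank_self]
    omega
  have hmem : ∀ w : LinearMap.ker f, polar Q u w = 0 ∧ polar Q u' w = 0 := by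
    intro w
    have h1 : f w = 0 := w.2
    exact ⟨congrArg Prod.fst h1, congrArg Prod.snd h1⟩
  have hFq : 3 ≤ Nat.card F := by
    have hF : Fintype F := Fintype.ofFinite F
    rw [Nat.card_eq_fintype_card]
    by_contra h
    have h4 : Fintype.card F = 2 := by
      have := Fintype.one_lt_card (α := F)
      omega
    apply h2
    have h5 : ((Fintype.card F : ℕ) : F) = 0 := Nat.cast_card_eq_zero F
    rw [h4] at h5
    exact_mod_cast h5
  have hcard : 243 ≤ Nat.card (LinearMap.ker f) := by
    rw [Module.natCard_eq_pow_finrank (K := F)]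
    calc 243 = 3 ^ 5 := by norm_num
      _ ≤ Nat.card F ^ 5 := Nat.pow_le_pow_left hFq 5
      _ ≤ _ := Nat.pow_le_pow_right (by omega) hf
  let φ : LinearMap.ker f → X := fun w =>
    ⟨siegel Q u w hu (hmem w).1 r, hpre _ (siegel_mem_E hu (hmem w).1) r hr⟩
  have hφ : Function.Injective φ := by
    intro w w' hww
    have h1 : siegel Q u w hu (hmem w).1 r = siegel Q u w' hu (hmem w').1 r := congrArg Subtype.val hww
    rw [siegel_apply, siegel_apply, hur] at h1
    have h3 : ((w : V) - w') = (polar Q w r + Q w - polar Q w' r - Q w') • u := by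
      have h4 : (w : V) - w' - (polar Q w r + Q w - polar Q w' r - Q w') • u =
          (r + (1 : F) • (w : V) - polar Q w r • u - (Q w * 1) • u) -
          (r + (1 : F) • (w' : V) - polar Q w' r • u - (Q w' * 1) • u) := by module
      rw [← sub_eq_zero, h4, h1, sub_self]
    have h5 : polar Q u' ((w : V) - w') = 0 := by
      rw [polar_sub_right, (hmem w).2, (hmem w').2, sub_zero]
    rw [h3, polar_smul_right, huu'.pair', smul_eq_mul, mul_one] at h5
    rw [h5, zero_smul, sub_eq_zero] at h3
    exact Subtype.ext h3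
  have := hX.to_subtype
  have h6 := Nat.card_le_card_of_injective φ hφ
  rw [Nat.card_coe_set_eq] at h6
  omega

end Cfsg.Agent.H856.Sv
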