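import Cfsg.Agent.H856.Sv3
import Cfsg.Agent.StandardComponent.AltAut

/-!
# `A₈` is not the core of a maximal subgroup of Ω₇(q)
-/

set_option autoImplicit false
set_option linter.unusedSectionVars false

open scoped Pointwise

namespace Cfsg.Agent.H856.Sv

open Equiv QuadraticMap Cfsg.Agent.LieClassical.OrthCore Cfsg.Agent.LieClassical.OrthTrans
open Cfsg.Agent.LieClassical.OrthFinite

variable {F : Type*} [Field F] {V : Type*} [AddCommGroup V] [Module F V]

theorem exists_even_pair {i j : Fin 8} (hij : i ≠ j) :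
    ∃ g : alternatingGroup (Fin 8), (g : Perm (Fin 8)) 0 = i ∧ (g : Perm (Fin 8)) 1 = j := by
  revert i j
  have key : ∀ i j : Fin 8, i ≠ j → ∃ σ : Perm (Fin 8), σ 0 = i ∧ σ 1 = j := by
    intro i j hij
    refine ⟨swap 0 i * swap 1 (swap 0 i j), ?_, ?_⟩
    · have h0 : (0 : Fin 8) ≠ swap 0 i j := by
        intro h
        have h1 : swap 0 i (0 : Fin 8) = swap 0 i (swap 0 i j) := congrArg _ h
        rw [swap_apply_left, swap_apply_self] at h1
        exact hij h1
      have h2 : swap 1 (swap 0 i j) (0 : Fin 8) = 0 := swap_apply_of_ne_of_ne (by decide) h0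
      rw [Perm.mul_apply, h2, swap_apply_left]
    · rw [Perm.mul_apply, swap_apply_left, swap_apply_self]
  intro i j hij
  obtain ⟨σ, h0, h1⟩ := key i j hij
  rcases Int.units_eq_one_or (Perm.sign σ) with hs | hs
  · exact ⟨⟨σ, Perm.mem_alternatingGroup.2 hs⟩, h0, h1⟩
  · refine ⟨⟨σ * swap 2 3, Perm.mem_alternatingGroup.2 ?_⟩, ?_, ?_⟩
    · rw [Perm.sign_mul, hs, Perm.sign_swap (by decide)]; rfl
    · show σ (swap 2 3 0) = i
      rw [swap_apply_of_ne_of_ne (by decide) (by decide), h0]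
    · show σ (swap 2 3 1) = j
      rw [swap_apply_of_ne_of_ne (by decide) (by decide), h1]

theorem exists_third : ∀ i k j : Fin 8, ∃ l : Fin 8, l ≠ i ∧ l ≠ k ∧ l ≠ j := by decide

/-- the vectors fixed by a point stabiliser -/
theorem Fr8.fixed {u : Fin 8 → V} (hu : Fr8 F u) (h7 : Module.finrank F V = 7)
    {τ : alternatingGroup (Fin 8) →* (V ≃ₗ[F] V)}
    (hτ : ∀ (g : alternatingGroup (Fin 8)) i, τ g (u i) = u ((g : Perm (Fin 8)) i)) (j : Fin 8) {v : V}
    (hv : ∀ g : alternatingGroup (Fin 8), (g : Perm (Fin 8)) j = j → τ g v = v) : ∃ c : F, v = c • u j := by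
  obtain ⟨x, rfl⟩ := hu.exists_sum h7 v
  have key : ∀ g : alternatingGroup (Fin 8), (g : Perm (Fin 8)) j = j → ∀ i, x ((g : Perm (Fin 8)) i) = x i := by
    intro g hg i
    have h1 := hv g hg
    rw [map_sum] at h1
    simp only [map_smul, hτ] at h1
    have h2 : ∑ k, x k • u ((g : Perm (Fin 8)) k) = ∑ k, x ((g : Perm (Fin 8))⁻¹ k) • u k := by
      rw [← Equiv.sum_comp (g : Perm (Fin 8)) (fun k => x ((g : Perm (Fin 8))⁻¹ k) • u k)]
      simp
    rw [h2, ← sub_eq_zero, ← Finset.sum_sub_distrib] at h1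
    simp only [← sub_smul] at h1
    have h3 := hu.rel _ h1 ((g : Perm (Fin 8)) i) j
    have h4 : (g : Perm (Fin 8))⁻¹ j = j := by rw [Perm.inv_eq_iff_eq]; exact hg.symm
    rw [h4, sub_self, show (g : Perm (Fin 8))⁻¹ ((g : Perm (Fin 8)) i) = i from (g : Perm (Fin 8)).symm_apply_apply i,
      sub_eq_zero] at h3
    exact h3.symm
  -- all coordinates different from `j` agree
  have hconst : ∀ i k : Fin 8, i ≠ j → k ≠ j → x i = x k := by
    intro i k hi hk
    by_cases hik : i = k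
    · rw [hik]
    obtain ⟨l, hl⟩ := exists_third i k j
    have h1 := key ⟨swap i k * swap k l, by
      rw [Perm.mem_alternatingGroup, Perm.sign_mul, Perm.sign_swap hik, Perm.sign_swap hl.2.1.symm]; rfl⟩
      (by
        show swap i k (swap k l j) = j
        rw [swap_apply_of_ne_of_ne hk.symm hl.2.2.symm, swap_apply_of_ne_of_ne hi.symm hk.symm]) i
    rw [← h1]
    show x (swap i k (swap k l i)) = x k
    rw [swap_apply_of_ne_of_ne hik hl.1.symm, swap_apply_left]
  obtain ⟨i0, hi0⟩ : ∃ i : Fin 8, i ≠ j := exists_ne j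
  refine ⟨x j - x i0, ?_⟩
  have h1 : ∑ i, x i • u i = ∑ i, x i • u i - x i0 • ∑ i, u i := by rw [hu.sum, smul_zero, sub_zero]
  rw [h1, Finset.smul_sum, ← Finset.sum_sub_distrib]
  simp only [← sub_smul]
  rw [Finset.sum_eq_single j]
  · intro i _ hi
    rw [hconst i i0 hi hi0, sub_self, zero_smul]
  · intro h
    exact absurd (Finset.mem_univ j) h

/-- the 126 vectors of the root system -/
def Xs (u : Fin 8 → V) : Set V :=
  {v | (∃ i j, i ≠ j ∧ v = u i - u j) ∨ ∃ S : Finset (Fin 8), S.card = 4 ∧ v = ∑ i ∈ S, u i}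

theorem Xs_sub (u : Fin 8 → V) : Xs u ⊆
    (((Finset.univ : Finset (Fin 8 × Fin 8)) : Set (Fin 8 × Fin 8)).image (fun x => u x.1 - u x.2)) ∪
      ((((Finset.univ : Finset (Fin 8)).powersetCard 4 : Finset (Finset (Fin 8))) : Set (Finset (Fin 8))).image
        (fun S => ∑ i ∈ S, u i)) := by
  rintro v (⟨i, j, -, rfl⟩ | ⟨S, hS, rfl⟩)
  · left
    exact ⟨(i, j), by simp, rfl⟩
  · right
    exact ⟨S, by simp [Finset.mem_powersetCard, hS], rfl⟩

theorem Xs_finite (u : Fin 8 → V) : (Xs u).Finite :=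
  Set.Finite.subset (((Finset.finite_toSet _).image _).union ((Finset.finite_toSet _).image _)) (Xs_sub u)

theorem Xs_ncard (u : Fin 8 → V) : (Xs u).ncard < 243 := by
  refine lt_of_le_of_lt (Set.ncard_le_ncard (Xs_sub u)
    (((Finset.finite_toSet _).image _).union ((Finset.finite_toSet _).image _))) ?_
  refine lt_of_le_of_lt (Set.ncard_union_le _ _) ?_
  have h1 := Set.ncard_image_le (f := fun x : Fin 8 × Fin 8 => u x.1 - u x.2)
    (Finset.finite_toSet (Finset.univ : Finset (Fin 8 × Fin 8)))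
  have h2 := Set.ncard_image_le (f := fun S : Finset (Fin 8) => ∑ i ∈ S, u i)
    (Finset.finite_toSet ((Finset.univ : Finset (Fin 8)).powersetCard 4))
  rw [Set.ncard_coe_finset] at h1 h2
  rw [Finset.card_powersetCard] at h2
  simp only [Finset.card_univ, Fintype.card_prod, Fintype.card_fin] at h1 h2
  have h3 : Nat.choose 8 4 = 70 := by decide
  omega

theorem Xs_perm {u : Fin 8 → V} {g : V ≃ₗ[F] V} {σ : Perm (Fin 8)} (h : ∀ i, g (u i) = u (σ i)) :
    ∀ x ∈ Xs u, g x ∈ Xs u := by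
  rintro x (⟨i, j, hij, rfl⟩ | ⟨S, hS, rfl⟩)
  · left
    exact ⟨σ i, σ j, fun h' => hij (σ.injective h'), by rw [map_sub, h, h]⟩
  · right
    refine ⟨S.map σ.toEmbedding, by rw [Finset.card_map, hS], ?_⟩
    rw [map_sum, Finset.sum_map]
    exact Finset.sum_congr rfl fun i _ => h i

theorem Xs_neg {u : Fin 8 → V} (hu : Fr8 F u) : ∀ x ∈ Xs u, -x ∈ Xs u := by
  rintro x (⟨i, j, hij, rfl⟩ | ⟨S, hS, rfl⟩)
  · left
    exact ⟨j, i, hij.symm, by rw [neg_sub]⟩
  · right
    refine ⟨Sᶜ, by rw [Finset.card_compl, hS, Fintype.card_fin], ?_⟩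
    rw [neg_eq_iff_add_eq_zero, Finset.sum_add_sum_compl, hu.sum]

theorem Xs_pm {u : Fin 8 → V} (hu : Fr8 F u) {g : V ≃ₗ[F] V} {σ : Perm (Fin 8)} {c : F} (hc : c = 1 ∨ c = -1)
    (h : ∀ i, g (u i) = c • u (σ i)) : ∀ x ∈ Xs u, g x ∈ Xs u := by
  rcases hc with rfl | rfl
  · exact Xs_perm (fun i => by rw [h, one_smul])
  · intro x hx
    have h1 := Xs_neg hu _ (Xs_perm (g := (LinearEquiv.neg F : V ≃ₗ[F] V) * g) (σ := σ) (u := u) (fun i => by
      show -(g (u i)) = _
      rw [h, neg_smul, one_smul, neg_neg]) x hx)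
    rwa [show ((LinearEquiv.neg F : V ≃ₗ[F] V) * g) x = -(g x) from rfl, neg_neg] at h1

end Cfsg.Agent.H856.Sv
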