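import Cfsg.Agent.H856.Sv4

/-!
# `A₈` is not the core of a maximal subgroup of Ω₇(q): the conclusion
-/

set_option autoImplicit false
set_option linter.unusedSectionVars false

open scoped Pointwise

namespace Cfsg.Agent.H856.Sv

open Equiv QuadraticMap Cfsg.Agent.LieClassical.OrthCore Cfsg.Agent.LieClassical.OrthTrans
open Cfsg.Agent.LieClassical.OrthFinite

variable {F : Type*} [Field F] {V : Type*} [AddCommGroup V] [Module F V]

namespace Max7

variable {Q : QuadraticForm F V} {H P : Subgroup (V ≃ₗ[F] V)} (hM : Max7 Q H P)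

include hM

/-- the action of the normaliser -/
def cj {h : V ≃ₗ[F] V} (hh : h ∈ H) : P ≃* P where
  toFun x := ⟨h * x * h⁻¹, hM.normal h hh x x.2⟩
  invFun x := ⟨h⁻¹ * x * h⁻¹⁻¹, hM.normal h⁻¹ (H.inv_mem hh) x x.2⟩
  left_inv x := by
    apply Subtype.ext
    show h⁻¹ * (h * x * h⁻¹) * h⁻¹⁻¹ = x
    group
  right_inv x := by
    apply Subtype.ext
    show h * (h⁻¹ * x * h⁻¹⁻¹) * h⁻¹ = x
    group
  map_mul' x y := by
    apply Subtype.ext
    show h * (x * y) * h⁻¹ = h * x * h⁻¹ * (h * y * h⁻¹)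
    group

/-- `P ≅ A₈` : the elements of `H` permute the eight vectors up to sign -/
theorem a8_form [Finite F] (e : P ≃* alternatingGroup (Fin 8)) {u : Fin 8 → V} {b : F} (hI : Inv8 Q u b)
    (hτ : ∀ (g : alternatingGroup (Fin 8)) i, ((e.symm g : P) : V ≃ₗ[F] V) (u i) = u ((g : Perm (Fin 8)) i))
    {h : V ≃ₗ[F] V} (hh : h ∈ H) :
    ∃ (σ : Perm (Fin 8)) (c : F), (c = 1 ∨ c = -1) ∧ ∀ i, h (u i) = c • u (σ i) := by
  let τ : alternatingGroup (Fin 8) →* (V ≃ₗ[F] V) := P.subtype.comp e.symm.toMonoidHom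
  let e' : MulAut (alternatingGroup (Fin 8)) := e.symm.trans ((hM.cj hh).trans e)
  obtain ⟨σ, hσ⟩ := Cfsg.Agent.StandardComponent.AltAut.exists_conj (m := 6) (by norm_num) e'
  have h1 : ∀ x : alternatingGroup (Fin 8), τ (e' x) = h * τ x * h⁻¹ := by
    intro x
    show ((e.symm (e (hM.cj hh (e.symm x))) : P) : V ≃ₗ[F] V) = _
    rw [e.symm_apply_apply]
    rfl
  have h2 : ∀ i, ∃ c : F, h (u i) = c • u (σ i) := by
    intro i
    refine hI.fr.fixed hM.finrank_eq (τ := τ) hτ (σ i) fun g hg => ?_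
    obtain ⟨x, rfl⟩ := e'.surjective g
    have hx : (x : Perm (Fin 8)) i = i := by
      have h3 : ((e' x : alternatingGroup (Fin 8)) : Perm (Fin 8)) = σ * x * σ⁻¹ := hσ x
      rw [h3] at hg
      have h4 : (σ * (x : Perm (Fin 8)) * σ⁻¹) (σ i) = σ ((x : Perm (Fin 8)) i) := by
        simp
      rw [h4] at hg
      exact σ.injective hg
    rw [h1]
    show h (τ x (h⁻¹ (h (u i)))) = h (u i)
    rw [show h⁻¹ (h (u i)) = u i from h.symm_apply_apply _]
    have h5 : τ x (u i) = u ((x : Perm (Fin 8)) i) := hτ x i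
    rw [h5, hx]
  choose c hc using h2
  have h3 : ∀ i j, c i = c j := by
    have h4 : ∑ j, c (σ⁻¹ j) • u j = 0 := by
      rw [← Equiv.sum_comp σ (fun j => c (σ⁻¹ j) • u j)]
      have h5 : ∑ i, h (u i) = 0 := by rw [← map_sum, hI.fr.sum, map_zero]
      rw [← h5]
      refine Finset.sum_congr rfl fun i _ => ?_
      rw [hc]
      simp
    intro i j
    have h6 := hI.fr.rel _ h4 (σ i) (σ j)
    simpa using h6
  refine ⟨σ, c 0, ?_, fun i => by rw [hc, h3 i 0]⟩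
  have h4 := hM.pol hh (u 0) (u 1)
  rw [hc, hc, h3 1 0, polar_smul_left, polar_smul_right, smul_eq_mul, smul_eq_mul,
    hI.pol _ _ (fun h' => absurd (σ.injective h') (by decide)), hI.pol _ _ (by decide)] at h4
  have hb := hI.b_ne hM.finrank_eq hM.nondeg
  have h5 : c 0 * c 0 = 1 := by
    apply mul_right_cancel₀ hb
    rw [one_mul, mul_assoc]
    exact h4
  exact mul_self_eq_one_iff.1 h5

end Max7

/-! ### the extra reflection -/

/-- the block -/
def B4 : Finset (Fin 8) := {0, 1, 2, 3}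

theorem card_B4 : B4.card = 4 := by decide

theorem S_cases : ∀ S : Finset (Fin 8), S.card = 4 → (S ∩ B4).card = 2 ∨ S = B4 ∨ S = B4ᶜ ∨
    (∃ i ∈ B4, ∃ j ∈ B4ᶜ, S = insert j (B4.erase i)) ∨ (∃ i ∈ B4, ∃ j ∈ B4ᶜ, S = insert i (B4ᶜ.erase j)) := by
  decide +kernel

namespace Inv8

variable {Q : QuadraticForm F V} {u : Fin 8 → V} {b : F} (hI : Inv8 Q u b)

include hI

theorem pol_w (i : Fin 8) : polar Q (∑ k ∈ B4, u k) (u i) = if i ∈ B4 then -4 * b else 4 * b := by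
  have h1 : polar Q (∑ k ∈ B4, u k) (u i) = ∑ k ∈ B4, polar Q (u k) (u i) := by
    rw [polar_comm]
    have h2 : polar Q (u i) (∑ k ∈ B4, u k) = ∑ k ∈ B4, polar Q (u i) (u k) :=
      map_sum (polarBilin Q (u i)) u B4
    rw [h2]
    exact Finset.sum_congr rfl fun k _ => polar_comm _ _ _
  rw [h1]
  have h3 : ∀ k ∈ B4, polar Q (u k) (u i) = b + if k = i then -8 * b else 0 := by
    intro k _
    by_cases h : k = i
    · rw [if_pos h, h, hI.pol_self]; ring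
    · rw [if_neg h, hI.pol _ _ h, add_zero]
  rw [Finset.sum_congr rfl h3, Finset.sum_add_distrib, Finset.sum_const, card_B4, Finset.sum_ite_eq']
  by_cases h : i ∈ B4
  · rw [if_pos h, if_pos h, nsmul_eq_mul]; push_cast; ring
  · rw [if_neg h, if_neg h, nsmul_eq_mul]; push_cast; ring

theorem Q_w (h2 : (2 : F) ≠ 0) : Q (∑ k ∈ B4, u k) = -8 * b := by
  have h1 : polar Q (∑ k ∈ B4, u k) (∑ k ∈ B4, u k) = ∑ i ∈ B4, polar Q (∑ k ∈ B4, u k) (u i) :=
    map_sum (polarBilin Q (∑ k ∈ B4, u k)) u B4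
  have h3 : ∀ i ∈ B4, polar Q (∑ k ∈ B4, u k) (u i) = -4 * b := fun i hi => by rw [hI.pol_w, if_pos hi]
  rw [Finset.sum_congr rfl h3, Finset.sum_const, card_B4, polar_self', nsmul_eq_mul] at h1
  apply mul_left_cancel₀ h2
  rw [h1]
  push_cast
  ring

variable (h7 : Module.finrank F V = 7) (h2 : (2 : F) ≠ 0) (hQ : Nondeg Q)

include h7 h2 hQ

theorem Q_w_ne : Q (∑ k ∈ B4, u k) ≠ 0 := by
  rw [hI.Q_w h2, show (-8 : F) = -(2 * 2 * 2) by norm_num]
  exact mul_ne_zero (neg_ne_zero.2 (mul_ne_zero (mul_ne_zero h2 h2) h2)) (hI.b_ne h7 hQ)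

/-- the reflection -/
theorem exists_refl : ∃ r : V ≃ₗ[F] V, r ∈ O Q ∧ r * r = 1 ∧
    (∀ i ∈ B4, r (u i) = u i - (2 : F)⁻¹ • ∑ k ∈ B4, u k) ∧
    (∀ i ∉ B4, r (u i) = u i + (2 : F)⁻¹ • ∑ k ∈ B4, u k) ∧ r (∑ k ∈ B4, u k) = -∑ k ∈ B4, u k := by
  have hw := hI.Q_w_ne h7 h2 hQ
  have hb := hI.b_ne h7 hQ
  have h4b : -4 * b ≠ 0 := by
    rw [show (-4 : F) = -(2 * 2) by norm_num]
    exact mul_ne_zero (neg_ne_zero.2 (mul_ne_zero h2 h2)) hb
  have e1 : (-8 * b)⁻¹ * (-4 * b) = (2 : F)⁻¹ := by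
    rw [show (-8 * b) = 2 * (-4 * b) by ring, mul_inv, mul_assoc, inv_mul_cancel₀ h4b, mul_one]
  have e2 : (-8 * b)⁻¹ * (4 * b) = -(2 : F)⁻¹ := by
    rw [show 4 * b = -(-4 * b) by ring, mul_neg, e1]
  refine ⟨refl Q _ hw, refl_mem_O hw, refl_mul_self hw, ?_, ?_, ?_⟩
  · intro i hi
    rw [LieClassical.OrthCore.refl_apply, hI.pol_w, if_pos hi, hI.Q_w h2, e1]
  · intro i hi
    rw [LieClassical.OrthCore.refl_apply, hI.pol_w, if_neg hi, hI.Q_w h2, e2, neg_smul, sub_neg_eq_add]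
  · rw [LieClassical.OrthCore.refl_apply, polar_self']
    have h3 : (Q (∑ k ∈ B4, u k))⁻¹ * (2 * Q (∑ k ∈ B4, u k)) = 2 := by
      field_simp
    rw [h3, two_smul]
    abel

end Inv8

/-- the reflection preserves the root system -/
theorem Xs_refl {u : Fin 8 → V} (hu : Fr8 F u) (h2 : (2 : F) ≠ 0) {r : V ≃ₗ[F] V}
    (hr1 : ∀ i ∈ B4, r (u i) = u i - (2 : F)⁻¹ • ∑ k ∈ B4, u k)
    (hr2 : ∀ i ∉ B4, r (u i) = u i + (2 : F)⁻¹ • ∑ k ∈ B4, u k)
    (hr3 : r (∑ k ∈ B4, u k) = -∑ k ∈ B4, u k) : ∀ x ∈ Xs u, r x ∈ Xs u := by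
  have hh : (2 : F)⁻¹ + (2 : F)⁻¹ = 1 := by rw [← two_mul, mul_inv_cancel₀ h2]
  have hw2 : (2 : F)⁻¹ • ∑ k ∈ B4, u k + (2 : F)⁻¹ • ∑ k ∈ B4, u k = ∑ k ∈ B4, u k := by
    rw [← add_smul, hh, one_smul]
  have hcomp : ∑ k ∈ B4ᶜ, u k = -∑ k ∈ B4, u k := by
    rw [eq_neg_iff_add_eq_zero, add_comm, Finset.sum_add_sum_compl, hu.sum]
  have s1 : ∀ i ∈ B4, ∀ j ∈ B4ᶜ, ∑ k ∈ insert j (B4.erase i), u k = u j - u i + ∑ k ∈ B4, u k := by
    intro i hi j hj
    have hj' : j ∉ B4 := Finset.mem_compl.1 hj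
    rw [Finset.sum_insert (fun h => hj' (Finset.mem_of_mem_erase h)), ← Finset.add_sum_erase B4 _ hi]
    abel
  have s2 : ∀ i ∈ B4, ∀ j ∈ B4ᶜ, ∑ k ∈ insert i (B4ᶜ.erase j), u k = u i - u j - ∑ k ∈ B4, u k := by
    intro i hi j hj
    have hi' : i ∉ B4ᶜ := fun h => Finset.mem_compl.1 h hi
    rw [Finset.sum_insert (fun h => hi' (Finset.mem_of_mem_erase h)), sub_sub, sub_eq_add_neg, neg_add, ← hcomp,
      ← Finset.add_sum_erase B4ᶜ _ hj]
    abel
  rintro x (⟨i, j, hij, rfl⟩ | ⟨S, hS, rfl⟩)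
  · by_cases hi : i ∈ B4
    · by_cases hj : j ∈ B4
      · left
        exact ⟨i, j, hij, by rw [map_sub, hr1 i hi, hr1 j hj]; abel⟩
      · right
        refine ⟨insert i (B4ᶜ.erase j), ?_, ?_⟩
        · have : ∀ i ∈ B4, ∀ j ∈ B4ᶜ, (insert i (B4ᶜ.erase j)).card = 4 := by decide
          exact this i hi j (Finset.mem_compl.2 hj)
        · rw [s2 i hi j (Finset.mem_compl.2 hj), map_sub, hr1 i hi, hr2 j hj]
          nth_rewrite 3 [← hw2]
          abel
    · by_cases hj : j ∈ B4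
      · right
        refine ⟨insert i (B4.erase j), ?_, ?_⟩
        · have : ∀ j ∈ B4, ∀ i ∈ B4ᶜ, (insert i (B4.erase j)).card = 4 := by decide
          exact this j hj i (Finset.mem_compl.2 hi)
        · rw [s1 j hj i (Finset.mem_compl.2 hi), map_sub, hr1 j hj, hr2 i hi]
          nth_rewrite 3 [← hw2]
          abel
      · left
        exact ⟨i, j, hij, by rw [map_sub, hr2 i hi, hr2 j hj]; abel⟩
  · rcases S_cases S hS with h | rfl | rfl | ⟨i, hi, j, hj, rfl⟩ | ⟨i, hi, j, hj, rfl⟩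
    · right
      refine ⟨S, hS, ?_⟩
      have hsd : (S \ B4).card = 2 := by
        have := Finset.card_sdiff_add_card_inter S B4
        omega
      rw [map_sum, ← Finset.sum_inter_add_sum_sdiff S B4, ← Finset.sum_inter_add_sum_sdiff S B4]
      rw [Finset.sum_congr rfl (fun k (hk : k ∈ S ∩ B4) => hr1 k (Finset.mem_inter.1 hk).2),
        Finset.sum_congr rfl (fun k (hk : k ∈ S \ B4) => hr2 k (Finset.mem_sdiff.1 hk).2),
        Finset.sum_sub_distrib, Finset.sum_add_distrib, Finset.sum_const, Finset.sum_const, h, hsd]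
      abel
    · right
      exact ⟨B4ᶜ, by decide, by rw [hr3, hcomp]⟩
    · right
      exact ⟨B4, by decide, by rw [hcomp, map_neg, hr3, neg_neg]⟩
    · left
      refine ⟨j, i, fun h => Finset.mem_compl.1 hj (h ▸ hi), ?_⟩
      rw [s1 i hi j hj, map_add, map_sub, hr3, hr1 i hi, hr2 j (Finset.mem_compl.1 hj)]
      nth_rewrite 3 [← hw2]
      abel
    · left
      refine ⟨i, j, fun h => Finset.mem_compl.1 hj (h ▸ hi), ?_⟩
      rw [s2 i hi j hj, map_sub, map_sub, hr3, hr1 i hi, hr2 j (Finset.mem_compl.1 hj)]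
      nth_rewrite 3 [← hw2]
      abel

theorem pick : ∀ j : Fin 8, ∃ i k : Fin 8, i ≠ j ∧ k ≠ j ∧ (i = 0 ∨ i = 1) ∧ (k = 3 ∨ k = 5) := by decide

/-- **`A₈` is not the core of a maximal subgroup** -/
theorem Max7.not_a8 [Finite F] {Q : QuadraticForm F V} {H P : Subgroup (V ≃ₗ[F] V)} (hM : Max7 Q H P)
    (e : P ≃* alternatingGroup (Fin 8)) : False := by
  let τ : alternatingGroup (Fin 8) →* (V ≃ₗ[F] V) := P.subtype.comp e.symm.toMonoidHom
  have h7 := hM.finrank_eq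
  have h2 := hM.two_ne
  rcases a8_cases h7 h2 τ with ⟨w, hw, hfix⟩ | ⟨u, hu, hτ⟩
  · refine hM.no_fix hw fun g hg => ?_
    have h1 := hfix (e ⟨g, hg⟩)
    rwa [show τ (e ⟨g, hg⟩) = g by
      show ((e.symm (e ⟨g, hg⟩) : P) : V ≃ₗ[F] V) = g
      rw [e.symm_apply_apply]] at h1
  have hI : Inv8 Q u (polar Q (u 0) (u 1)) := by
    refine ⟨hu, fun i j hij => ?_⟩
    obtain ⟨g, h0, h1⟩ := exists_even_pair hij
    have h3 := hM.pol (hM.PH (e.symm g).2) (u 0) (u 1)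
    have h4 : ∀ i, ((e.symm g : P) : V ≃ₗ[F] V) (u i) = u ((g : Perm (Fin 8)) i) := hτ g
    rw [h4, h4, h0, h1] at h3
    exact h3
  obtain ⟨r, hrO, hrr, hr1, hr2, hr3⟩ := hI.exists_refl h7 h2 hM.nondeg
  have hrX := Xs_refl hu h2 hr1 hr2 hr3
  have hrinv : r⁻¹ = r := inv_eq_of_mul_eq_one_left hrr
  let s : V ≃ₗ[F] V := hu.pm h7 (swap 3 4)
  have hs : ∀ i, s (u i) = u (swap 3 4 i) := hu.pm_apply h7 (swap 3 4)
  have hsX := Xs_perm hs
  have hss : s⁻¹ = s := by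
    show (hu.pm h7 (swap 3 4))⁻¹ = hu.pm h7 (swap 3 4)
    rw [← map_inv, swap_inv]
  have hsO : s ∈ O Q := hI.pm_mem h7 h2 _
  have hgE : r * s * r⁻¹ * s⁻¹ ∈ E Q := by
    rw [← hM.comm_eq]
    exact Subgroup.commutator_mem_commutator hrO hsO
  have hgX : ∀ x ∈ Xs u, (r * s * r⁻¹ * s⁻¹) x ∈ Xs u := by
    intro x hx
    rw [hrinv, hss]
    exact hrX _ (hsX _ (hrX _ (hsX _ hx)))
  have h01 : u 0 - u 1 ≠ 0 := by
    intro h
    have h3 := hu.rel (fun i => if i = 0 then 1 else if i = 1 then -1 else 0) (by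
      rw [← h]
      simp [Fin.sum_univ_eight, sub_eq_add_neg]) 0 1
    simp only [if_true] at h3
    rw [if_neg (by decide)] at h3
    apply h2
    linear_combination h3
  have hgH : r * s * r⁻¹ * s⁻¹ ∈ H := by
    refine hM.mem_of_preserve (Xs_finite u) (Xs_ncard u) (r := u 0 - u 1) (Or.inl ⟨0, 1, by decide, rfl⟩) h01
      (fun h hh => ?_) hgE hgX
    obtain ⟨σ, c, hc, hcu⟩ := hM.a8_form e hI hτ hh
    exact Xs_pm hu hc hcu
  obtain ⟨σ, c, hc, hcu⟩ := hM.a8_form e hI hτ hgH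
  have h3 : (r * s * r⁻¹ * s⁻¹) (u 7) = u 7 + (2 : F)⁻¹ • (u 0 + u 1 + u 2 + u 4) := by
    rw [hrinv, hss]
    show r (s (r (s (u 7)))) = _
    rw [hs, show swap 3 4 (7 : Fin 8) = 7 by decide, hr2 7 (by decide), map_add, map_smul, hs,
      show swap 3 4 (7 : Fin 8) = 7 by decide, map_sum]
    simp only [hs]
    rw [show ∑ x ∈ B4, u (swap 3 4 x) = u 0 + u 1 + u 2 + u 4 by
      simp only [B4]
      rw [Finset.sum_insert (by decide), Finset.sum_insert (by decide), Finset.sum_insert (by decide),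
        Finset.sum_singleton, show swap 3 4 (0 : Fin 8) = 0 by decide, show swap 3 4 (1 : Fin 8) = 1 by decide,
        show swap 3 4 (2 : Fin 8) = 2 by decide, show swap 3 4 (3 : Fin 8) = 4 by decide]
      abel]
    rw [map_add, map_smul, map_add, map_add, map_add, hr1 0 (by decide), hr1 1 (by decide), hr1 2 (by decide),
      hr2 4 (by decide), hr2 7 (by decide)]
    have hh : (2 : F)⁻¹ * 2 = 1 := inv_mul_cancel₀ h2
    match_scalars <;> first | ring1 | linear_combination (2 : F)⁻¹ * hh | linear_combination (-(2 : F)⁻¹) * hh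
  have h4 := hcu 7
  rw [h3] at h4
  have h5 := hu.rel (fun i => (if i = 7 then 1 else 0) + (if i = 0 ∨ i = 1 ∨ i = 2 ∨ i = 4 then (2 : F)⁻¹ else 0) -
    (if i = σ 7 then c else 0)) (by
      simp only [sub_smul, Finset.sum_sub_distrib, add_smul, Finset.sum_add_distrib, ite_smul, zero_smul,
        Finset.sum_ite_eq', Finset.mem_univ, if_true]
      rw [← h4]
      simp [Fin.sum_univ_eight, smul_add])
  obtain ⟨i, k, hi, hk, hi', hk'⟩ := pick (σ 7)
  have h6 := h5 i k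
  simp only [if_neg hi, if_neg hk] at h6
  have h20 : (2 : F)⁻¹ ≠ 0 := inv_ne_zero h2
  rcases hi' with rfl | rfl <;> rcases hk' with rfl | rfl <;> simp at h6 <;> exact h2 h6

end Cfsg.Agent.H856.Sv
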