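import Cfsg.Agent.H856.Sv4

/-!
# `A₉` in dimension 7

A 7-dimensional representation of `A₉` without fixed vectors, characteristic not 2: the characteristic is 3 and there is
a basis in which all matrix entries are in the prime field.
-/

set_option autoImplicit false
set_option linter.unusedSectionVars false

open scoped Pointwise

namespace Cfsg.Agent.H856.Sv

open Equiv QuadraticMap

variable {F : Type*} [Field F] {V : Type*} [AddCommGroup V] [Module F V]

/-- the span of a basis over the prime field -/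
def pspan {ι : Type*} (b : Module.Basis ι F V) : Submodule (⊥ : Subfield F) V :=
  Submodule.span (⊥ : Subfield F) (Set.range b)

/-- coordinates of vectors in the span over the prime field -/
theorem repr_mem_bot {ι : Type*} (b : Module.Basis ι F V) {v : V} (hv : v ∈ pspan b) (i : ι) :
    b.repr v i ∈ (⊥ : Subfield F) := by
  classical
  induction hv using Submodule.span_induction with
  | mem x hx =>
    obtain ⟨j, rfl⟩ := hx
    rw [Module.Basis.repr_self, Finsupp.single_apply]
    split_ifs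
    · exact Subfield.one_mem _
    · exact Subfield.zero_mem _
  | zero =>
    rw [map_zero]
    exact Subfield.zero_mem _
  | add x y _ _ hx hy =>
    rw [map_add]
    exact Subfield.add_mem _ hx hy
  | smul c x _ hx =>
    have h1 : c • x = (c : F) • x := rfl
    rw [h1, map_smul]
    exact Subfield.mul_mem _ c.2 hx

theorem trace_mem_bot {ι : Type*} [Fintype ι] [DecidableEq ι] (b : Module.Basis ι F V) (L : V →ₗ[F] V)
    (h : ∀ j, L (b j) ∈ pspan b) : LinearMap.trace F V L ∈ (⊥ : Subfield F) := by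
  rw [LinearMap.trace_eq_matrix_trace F b, Matrix.trace]
  refine Subfield.sum_mem _ fun j _ => ?_
  rw [Matrix.diag_apply, LinearMap.toMatrix_apply]
  exact repr_mem_bot b (h j) j

theorem pow_eq_of_mem_bot (p : ℕ) [Fact p.Prime] [CharP F p] {x : F} (hx : x ∈ (⊥ : Subfield F)) : x ^ p = x := by
  have h1 : (⊥ : Subfield F) ≤ RingHom.eqLocusField (frobenius F p) (RingHom.id F) := bot_le
  exact h1 hx

/-- the stabiliser of the last point -/
theorem exists_io9 : ∃ ι : alternatingGroup (Fin 8) →* alternatingGroup (Fin 9),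
    (∀ g i, ((ι g : alternatingGroup (Fin 9)) : Perm (Fin 9)) (Fin.castSucc i) = ((g : Perm (Fin 8)) i).castSucc) ∧
    (∀ g, ((ι g : alternatingGroup (Fin 9)) : Perm (Fin 9)) (Fin.last 8) = Fin.last 8) ∧
    ∀ g : alternatingGroup (Fin 9), (g : Perm (Fin 9)) (Fin.last 8) = Fin.last 8 → g ∈ ι.range := by
  let e : Fin 8 ≃ {x : Fin 9 // x ≠ Fin.last 8} := finSuccAboveEquiv (Fin.last 8)
  have he : ∀ i, ((e i : {x : Fin 9 // x ≠ Fin.last 8}) : Fin 9) = i.castSucc := by
    intro i
    show (((finSuccAboveEquiv (Fin.last 8)) i : {x : Fin 9 // x ≠ Fin.last 8}) : Fin 9) = i.castSucc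
    rw [finSuccAboveEquiv_apply]
    exact Fin.succAbove_last_apply i
  let f0 : Perm (Fin 8) →* Perm (Fin 9) := Equiv.Perm.extendDomainHom e
  have h0 : ∀ g i, f0 g (Fin.castSucc i) = (g i).castSucc := by
    intro g i
    rw [← he, ← he]
    exact Equiv.Perm.extendDomain_apply_image g e i
  have h1 : ∀ g, f0 g (Fin.last 8) = Fin.last 8 := by
    intro g
    exact Equiv.Perm.extendDomain_apply_not_subtype g e (not_not.2 rfl)
  refine ⟨(f0.comp (alternatingGroup (Fin 8)).subtype).codRestrict _ ?_, fun g i => h0 _ i, fun g => h1 _, ?_⟩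
  · intro x
    change Equiv.Perm.extendDomain (x : Perm (Fin 8)) e ∈ alternatingGroup _
    rw [Equiv.Perm.mem_alternatingGroup, Equiv.Perm.sign_extendDomain]
    exact Equiv.Perm.mem_alternatingGroup.1 x.2
  · intro g hg
    have h1 : ∀ x, (g : Perm (Fin 9)) x ≠ Fin.last 8 ↔ x ≠ Fin.last 8 := by
      intro x
      rw [not_iff_not]
      constructor
      · intro h
        apply (g : Perm (Fin 9)).injective
        rw [h, hg]
      · rintro rfl; exact hg
    let h : Perm (Fin 8) := e.symm.permCongr ((g : Perm (Fin 9)).subtypePerm h1)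
    have h2 : Equiv.Perm.extendDomain h e = g := by
      ext x
      by_cases hx : x = Fin.last 8
      · rw [Equiv.Perm.extendDomain_apply_not_subtype h e (not_not.2 hx), hx, hg]
      · rw [Equiv.Perm.extendDomain_apply_subtype h e hx]
        simp [h, Equiv.permCongr_apply, Equiv.Perm.subtypePerm_apply]
    have h3 : Perm.sign h = 1 := by
      rw [← Equiv.Perm.sign_extendDomain h e, h2]
      exact Equiv.Perm.mem_alternatingGroup.1 g.2
    exact ⟨⟨h, Equiv.Perm.mem_alternatingGroup.2 h3⟩, Subtype.ext h2⟩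

theorem exists_even9 {i j : Fin 9} (hij : i ≠ j) :
    ∃ g : alternatingGroup (Fin 9), (g : Perm (Fin 9)) 0 = i ∧ (g : Perm (Fin 9)) (Fin.last 8) = j := by
  revert i j
  have key : ∀ i j : Fin 9, i ≠ j → ∃ σ : Perm (Fin 9), σ 0 = i ∧ σ (Fin.last 8) = j := by
    intro i j hij
    refine ⟨swap 0 i * swap (Fin.last 8) (swap 0 i j), ?_, ?_⟩
    · have h0 : (0 : Fin 9) ≠ swap 0 i j := by
        intro h
        have h1 : swap 0 i (0 : Fin 9) = swap 0 i (swap 0 i j) := congrArg _ h
        rw [swap_apply_left, swap_apply_self] at h1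
        exact hij h1
      have h2 : swap (Fin.last 8) (swap 0 i j) (0 : Fin 9) = 0 := swap_apply_of_ne_of_ne (by decide) h0
      rw [Perm.mul_apply, h2, swap_apply_left]
    · rw [Perm.mul_apply, swap_apply_left, swap_apply_self]
  intro i j hij
  obtain ⟨σ, h0, h1⟩ := key i j hij
  rcases Int.units_eq_one_or (Perm.sign σ) with hs | hs
  · exact ⟨⟨σ, Perm.mem_alternatingGroup.2 hs⟩, h0, h1⟩
  · refine ⟨⟨σ * swap 2 3, Perm.mem_alternatingGroup.2 ?_⟩, ?_, ?_⟩
    · rw [Perm.sign_mul, hs, Perm.sign_swap (by decide)]; rfl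
    · show σ (swap 2 3 0) = i
      rw [swap_apply_of_ne_of_ne (by decide) (by decide), h0]
    · show σ (swap 2 3 (Fin.last 8)) = j
      rw [swap_apply_of_ne_of_ne (by decide) (by decide), h1]

theorem exists_third2 : ∀ i k : Fin 8, ∃ l : Fin 8, l ≠ i ∧ l ≠ k ∧ l ≠ 0 ∧ l ≠ 1 := by decide

/-- the vectors fixed by the stabiliser of two points -/
theorem Fr8.fixed2 {u : Fin 8 → V} (hu : Fr8 F u) (h7 : Module.finrank F V = 7)
    {τ : alternatingGroup (Fin 8) →* (V ≃ₗ[F] V)}
    (hτ : ∀ (g : alternatingGroup (Fin 8)) i, τ g (u i) = u ((g : Perm (Fin 8)) i)) {v : V}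
    (hv : ∀ g : alternatingGroup (Fin 8), (g : Perm (Fin 8)) 0 = 0 → (g : Perm (Fin 8)) 1 = 1 → τ g v = v) :
    ∃ c d : F, v = c • u 0 + d • u 1 := by
  obtain ⟨x, rfl⟩ := hu.exists_sum h7 v
  have key : ∀ g : alternatingGroup (Fin 8), (g : Perm (Fin 8)) 0 = 0 → (g : Perm (Fin 8)) 1 = 1 →
      ∀ i, x ((g : Perm (Fin 8)) i) = x i := by
    intro g hg hg' i
    have h1 := hv g hg hg'
    rw [map_sum] at h1
    simp only [map_smul, hτ] at h1
    have h2 : ∑ k, x k • u ((g : Perm (Fin 8)) k) = ∑ k, x ((g : Perm (Fin 8))⁻¹ k) • u k := by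
      rw [← Equiv.sum_comp (g : Perm (Fin 8)) (fun k => x ((g : Perm (Fin 8))⁻¹ k) • u k)]
      simp
    rw [h2, ← sub_eq_zero, ← Finset.sum_sub_distrib] at h1
    simp only [← sub_smul] at h1
    have h3 := hu.rel _ h1 ((g : Perm (Fin 8)) i) 0
    have h4 : (g : Perm (Fin 8))⁻¹ 0 = 0 := by rw [Perm.inv_eq_iff_eq]; exact hg.symm
    rw [h4, sub_self, show (g : Perm (Fin 8))⁻¹ ((g : Perm (Fin 8)) i) = i from (g : Perm (Fin 8)).symm_apply_apply i,
      sub_eq_zero] at h3
    exact h3.symm
  have hconst : ∀ i k : Fin 8, i ≠ 0 → i ≠ 1 → k ≠ 0 → k ≠ 1 → x i = x k := by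
    intro i k hi0 hi1 hk0 hk1
    by_cases hik : i = k
    · rw [hik]
    obtain ⟨l, hl⟩ := exists_third2 i k
    have h1 := key ⟨swap i k * swap k l, by
      rw [Perm.mem_alternatingGroup, Perm.sign_mul, Perm.sign_swap hik, Perm.sign_swap hl.2.1.symm]; rfl⟩
      (by
        show swap i k (swap k l 0) = 0
        rw [swap_apply_of_ne_of_ne hk0.symm hl.2.2.1.symm, swap_apply_of_ne_of_ne hi0.symm hk0.symm])
      (by
        show swap i k (swap k l 1) = 1
        rw [swap_apply_of_ne_of_ne hk1.symm hl.2.2.2.symm, swap_apply_of_ne_of_ne hi1.symm hk1.symm]) i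
    rw [← h1]
    show x (swap i k (swap k l i)) = x k
    rw [swap_apply_of_ne_of_ne hik hl.1.symm, swap_apply_left]
  refine ⟨x 0 - x 2, x 1 - x 2, ?_⟩
  have h1 : ∑ i, x i • u i = ∑ i, x i • u i - x 2 • ∑ i, u i := by rw [hu.sum, smul_zero, sub_zero]
  rw [h1, Finset.smul_sum, ← Finset.sum_sub_distrib]
  simp only [← sub_smul]
  rw [Fin.sum_univ_eight, hconst 3 2 (by decide) (by decide) (by decide) (by decide),
    hconst 4 2 (by decide) (by decide) (by decide) (by decide),
    hconst 5 2 (by decide) (by decide) (by decide) (by decide),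
    hconst 6 2 (by decide) (by decide) (by decide) (by decide),
    hconst 7 2 (by decide) (by decide) (by decide) (by decide)]
  simp

section Nine

open Cfsg.Agent.H637.SevenA8

/-- three-cycle on `Fin 9` -/
theorem exists_tc9 {a b c : Fin 9} (hab : a ≠ b) (hbc : b ≠ c) (hac : a ≠ c) :
    ∃ g : alternatingGroup (Fin 9), (g : Perm (Fin 9)) a = b ∧ (g : Perm (Fin 9)) b = c ∧
      (g : Perm (Fin 9)) c = a ∧ ∀ x, x ≠ a → x ≠ b → x ≠ c → (g : Perm (Fin 9)) x = x := by
  refine ⟨⟨swap a b * swap b c, ?_⟩, ?_, ?_, ?_, ?_⟩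
  · rw [Perm.mem_alternatingGroup, Perm.sign_mul, Perm.sign_swap hab, Perm.sign_swap hbc]; rfl
  · show swap a b (swap b c a) = b
    rw [swap_apply_of_ne_of_ne hab hac, swap_apply_left]
  · show swap a b (swap b c b) = c
    rw [swap_apply_left, swap_apply_of_ne_of_ne hac.symm hbc.symm]
  · show swap a b (swap b c c) = a
    rw [swap_apply_right, swap_apply_right]
  · intro x h1 h2 h3
    show swap a b (swap b c x) = x
    rw [swap_apply_of_ne_of_ne h2 h3, swap_apply_of_ne_of_ne h1 h2]

/-- **`A₉` in dimension 7** -/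
theorem a9_main (h7 : Module.finrank F V = 7) (h2 : (2 : F) ≠ 0) (τ : alternatingGroup (Fin 9) →* (V ≃ₗ[F] V))
    (hno : ∀ w : V, (∀ g, τ g w = w) → w = 0) :
    (3 : F) = 0 ∧ ∃ b : Module.Basis (Fin 7) F V, ∀ g j, τ g (b j) ∈ pspan b := by
  have hfin : FiniteDimensional F V := Module.finite_of_finrank_pos (by rw [h7]; norm_num)
  obtain ⟨ι, hι1, hι2, hι3⟩ := exists_io9
  rcases a8_cases h7 h2 (τ.comp ι) with ⟨w, hw, hfix⟩ | ⟨u, hu, hτ⟩
  · exfalso
    apply hw
    apply hno
    exact nine_fixed h2 (endHom τ) h7 (w := w) (by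
      intro g hg
      obtain ⟨g', rfl⟩ := hι3 g hg
      exact hfix g')
  replace hτ : ∀ (g : alternatingGroup (Fin 8)) i, τ (ι g) (u i) = u ((g : Perm (Fin 8)) i) := hτ
  -- vectors attached to ordered pairs
  obtain ⟨U, hU, hU8⟩ : ∃ U : Fin 9 → Fin 9 → V,
      (∀ (g : alternatingGroup (Fin 9)) a b, a ≠ b →
        τ g (U a b) = U ((g : Perm (Fin 9)) a) ((g : Perm (Fin 9)) b)) ∧
      ∀ i : Fin 8, U i.castSucc (Fin.last 8) = u i := by
    have hwd : ∀ g : alternatingGroup (Fin 9), (g : Perm (Fin 9)) 0 = 0 →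
        (g : Perm (Fin 9)) (Fin.last 8) = Fin.last 8 → τ g (u 0) = u 0 := by
      intro g h0 h8
      obtain ⟨g', rfl⟩ := hι3 g h8
      rw [hτ]
      have h1 := hι1 g' 0
      have h2 : ((g' : Perm (Fin 8)) 0).castSucc = (0 : Fin 8).castSucc := by
        rw [← h1]
        exact h0
      rw [Fin.castSucc_injective _ h2]
    have hwd2 : ∀ g g' : alternatingGroup (Fin 9), (g : Perm (Fin 9)) 0 = (g' : Perm (Fin 9)) 0 →
        (g : Perm (Fin 9)) (Fin.last 8) = (g' : Perm (Fin 9)) (Fin.last 8) → τ g (u 0) = τ g' (u 0) := by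
      intro g g' h0 h8
      have h1 := hwd (g'⁻¹ * g) (by
        show (g' : Perm (Fin 9))⁻¹ ((g : Perm (Fin 9)) 0) = 0
        rw [h0]
        exact (g' : Perm (Fin 9)).symm_apply_apply 0) (by
        show (g' : Perm (Fin 9))⁻¹ ((g : Perm (Fin 9)) (Fin.last 8)) = Fin.last 8
        rw [h8]
        exact (g' : Perm (Fin 9)).symm_apply_apply _)
      rw [map_mul] at h1
      have h3 := congrArg (τ g') h1
      rw [← h3]
      show τ g (u 0) = (τ g' * (τ g'⁻¹ * τ g)) (u 0)
      rw [map_inv, mul_inv_cancel_left]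
    have hex : ∀ a b : Fin 9, ∃ g : alternatingGroup (Fin 9), a ≠ b →
        (g : Perm (Fin 9)) 0 = a ∧ (g : Perm (Fin 9)) (Fin.last 8) = b := by
      intro a b
      by_cases h : a = b
      · exact ⟨1, fun h' => absurd h h'⟩
      · obtain ⟨g, h1, h2⟩ := exists_even9 h
        exact ⟨g, fun _ => ⟨h1, h2⟩⟩
    choose k hk using hex
    refine ⟨fun a b => τ (k a b) (u 0), fun g a b hab => ?_, fun i => ?_⟩
    · have hgab : (g : Perm (Fin 9)) a ≠ (g : Perm (Fin 9)) b := fun h => hab ((g : Perm (Fin 9)).injective h)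
      show (τ g * τ (k a b)) (u 0) = _
      rw [← map_mul]
      apply hwd2
      · show (g : Perm (Fin 9)) ((k a b : Perm (Fin 9)) 0) = _
        rw [(hk a b hab).1, (hk _ _ hgab).1]
      · show (g : Perm (Fin 9)) ((k a b : Perm (Fin 9)) (Fin.last 8)) = _
        rw [(hk a b hab).2, (hk _ _ hgab).2]
    · obtain ⟨g, hg⟩ := exists_map (n := 8) (by norm_num) 0 i
      have h1 := hτ g 0
      rw [hg] at h1
      rw [← h1]
      have hi : i.castSucc ≠ Fin.last 8 := (Fin.castSucc_lt_last i).ne
      apply hwd2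
      · rw [(hk _ _ hi).1]
        have h3 := hι1 g 0
        rw [hg] at h3
        exact h3.symm
      · rw [(hk _ _ hi).2, hι2]
  -- the sign
  obtain ⟨c, hc⟩ : ∃ c : F, U (Fin.last 8) (0 : Fin 8).castSucc = c • u 0 := by
    refine hu.fixed h7 (τ := τ.comp ι) hτ 0 fun g hg => ?_
    show τ (ι g) _ = _
    rw [hU _ _ _ (by decide), hι2, hι1, hg]
  have hc' : ∀ a b : Fin 9, a ≠ b → U b a = c • U a b := by
    intro a b hab
    obtain ⟨g, h1, h2⟩ := exists_even9 hab
    have h3 := congrArg (τ g) hc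
    rw [← hU8 0, hU _ _ _ (by decide), map_smul, hU _ _ _ (by decide), show (0 : Fin 8).castSucc = (0 : Fin 9) from rfl,
      h1, h2] at h3
    exact h3
  have hcc : c * c = 1 := by
    have h1 := hc' (Fin.last 8) (0 : Fin 8).castSucc (by decide)
    rw [hc, hU8, smul_smul] at h1
    have h3 : (1 - c * c) • u 0 = 0 := by rw [sub_smul, ← h1, one_smul, sub_self]
    have h4 := (smul_eq_zero.1 h3).resolve_right (hu.ne_zero 0)
    linear_combination -h4
  -- the vectors for pairs of points in `Fin 8`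
  obtain ⟨x, y, hxy⟩ : ∃ x y : F, U (0 : Fin 8).castSucc (1 : Fin 8).castSucc = x • u 0 + y • u 1 := by
    refine hu.fixed2 h7 (τ := τ.comp ι) hτ fun g hg hg' => ?_
    show τ (ι g) _ = _
    rw [hU _ _ _ (by decide), hι1, hι1, hg, hg']
  have hpair : ∀ i j : Fin 8, i ≠ j → U i.castSucc j.castSucc = x • u i + y • u j := by
    intro i j hij
    obtain ⟨g, h1, h2⟩ := exists_even_pair hij
    have h3 := congrArg (τ (ι g)) hxy
    rw [hU _ _ _ (by decide), map_add, map_smul, map_smul, hτ, hτ, hι1, hι1, h1, h2] at h3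
    exact h3
  have hyx : y = c * x := by
    have h1 := hc' (0 : Fin 8).castSucc (1 : Fin 8).castSucc (by decide)
    rw [hpair 0 1 (by decide), hpair 1 0 (by decide)] at h1
    have h3 := hu.rel (fun i => if i = 0 then y - c * x else if i = 1 then x - c * y else 0) (by
      simp only [Fin.sum_univ_eight]
      simp
      rw [← sub_eq_zero] at h1
      rw [← h1]
      module) 0 2
    simpa [sub_eq_zero] using h3
  -- the general law
  have hlaw : ∀ a b d : Fin 9, a ≠ b → a ≠ d → b ≠ d → U a b = x • U a d + (c * x) • U b d := by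
    intro a b d hab had hbd
    -- an even permutation moving `0, 1, 8` to `a, b, d`
    obtain ⟨g, h1, h2⟩ := exists_even9 had
    have hb' : (g : Perm (Fin 9))⁻¹ b ≠ 0 ∧ (g : Perm (Fin 9))⁻¹ b ≠ Fin.last 8 := by
      constructor
      · intro h
        rw [Perm.inv_eq_iff_eq, h1] at h
        exact hab h.symm
      · intro h
        rw [Perm.inv_eq_iff_eq, h2] at h
        exact hbd h
    obtain ⟨i, hi⟩ : ∃ i : Fin 8, i.castSucc = (g : Perm (Fin 9))⁻¹ b :=
      Fin.exists_castSucc_eq.2 hb'.2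
    have hi0 : i ≠ 0 := by
      rintro rfl
      exact hb'.1 hi.symm
    have hgi : (g : Perm (Fin 9)) i.castSucc = b := by
      rw [hi]
      exact (g : Perm (Fin 9)).apply_symm_apply b
    have h3 := congrArg (τ g) (hpair 0 i hi0.symm)
    rw [← hU8 0, ← hU8 i, hyx, map_add, map_smul, map_smul, hU _ _ _ (by
        intro h
        exact hi0 (Fin.castSucc_injective _ h).symm), hU _ _ _ (by decide),
      hU _ _ _ ((Fin.castSucc_lt_last i).ne), hgi, show (0 : Fin 8).castSucc = (0 : Fin 9) from rfl, h1, h2] at h3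
    exact h3
  have hx0 : x ≠ 0 := by
    intro h
    have h1 := hlaw (0 : Fin 8).castSucc (Fin.last 8) (1 : Fin 8).castSucc (by decide) (by decide) (by decide)
    rw [h, mul_zero, zero_smul, zero_smul, add_zero, hU8] at h1
    exact hu.ne_zero 0 h1
  have hkey : x = 1 ∧ c = -1 := by
    have h1 := hlaw (0 : Fin 8).castSucc (1 : Fin 8).castSucc (2 : Fin 8).castSucc (by decide) (by decide) (by decide)
    rw [hpair 0 1 (by decide), hpair 0 2 (by decide), hpair 1 2 (by decide), hyx] at h1
    have h3 := hu.rel (fun i => if i = 0 then x - x * x else if i = 1 then c * x - c * x * x else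
        if i = 2 then -(x * (c * x) + c * x * (c * x)) else 0) (by
      simp only [Fin.sum_univ_eight]
      simp
      rw [← sub_eq_zero] at h1
      rw [← h1]
      module)
    have h4 := h3 0 3
    have h5 := h3 2 3
    simp at h4 h5
    have hx1 : x = 1 := by
      have h6 : x * (1 - x) = 0 := by linear_combination h4
      rcases mul_eq_zero.1 h6 with h7 | h7
      · exact absurd h7 hx0
      · linear_combination -h7
    refine ⟨hx1, ?_⟩
    rw [hx1] at h5
    have h6 : (c + 1) * 1 = 0 := by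
      have h8 : c * (c + 1) = 0 := by linear_combination -h5
      linear_combination c * h8 + (-c-1) * hcc
    linear_combination h6
  obtain ⟨hx1, hc1⟩ := hkey
  have hpair' : ∀ i j : Fin 8, i ≠ j → U i.castSucc j.castSucc = u i - u j := by
    intro i j hij
    rw [hpair i j hij, hyx, hx1, hc1]
    module
  have h8i : ∀ i : Fin 8, U (Fin.last 8) i.castSucc = -u i := by
    intro i
    rw [hc' i.castSucc (Fin.last 8) (Fin.castSucc_lt_last i).ne, hU8, hc1, neg_smul, one_smul]
  constructor
  · obtain ⟨g, h80, h01, h18, hfix⟩ := exists_tc9 (a := Fin.last 8) (b := 0) (c := 1) (by decide) (by decide) (by decide)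
    have h1 : ∑ i : Fin 8, τ g (U i.castSucc (Fin.last 8)) = 0 := by
      rw [← map_sum]
      simp only [hU8, hu.sum, map_zero]
    have h3 : ∀ i : Fin 8, τ g (U i.castSucc (Fin.last 8)) = U ((g : Perm (Fin 9)) i.castSucc) 0 := by
      intro i
      rw [hU _ _ _ (Fin.castSucc_lt_last i).ne, h80]
    simp only [h3] at h1
    rw [Fin.sum_univ_eight] at h1
    rw [show (g : Perm (Fin 9)) (0 : Fin 8).castSucc = (1 : Fin 8).castSucc from h01,
      show (g : Perm (Fin 9)) (1 : Fin 8).castSucc = Fin.last 8 from h18,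
      hfix (2 : Fin 8).castSucc (by decide) (by decide) (by decide),
      hfix (3 : Fin 8).castSucc (by decide) (by decide) (by decide),
      hfix (4 : Fin 8).castSucc (by decide) (by decide) (by decide),
      hfix (5 : Fin 8).castSucc (by decide) (by decide) (by decide),
      hfix (6 : Fin 8).castSucc (by decide) (by decide) (by decide),
      hfix (7 : Fin 8).castSucc (by decide) (by decide) (by decide)] at h1
    rw [show (0 : Fin 9) = (0 : Fin 8).castSucc from rfl, hpair' 1 0 (by decide), h8i, hpair' 2 0 (by decide),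
      hpair' 3 0 (by decide), hpair' 4 0 (by decide), hpair' 5 0 (by decide), hpair' 6 0 (by decide),
      hpair' 7 0 (by decide)] at h1
    have h4 := hu.sum
    rw [Fin.sum_univ_eight] at h4
    have h5 : (9 : F) • u 0 = 0 := by
      have h6 : (9 : F) • u 0 = (u 0 + u 1 + u 2 + u 3 + u 4 + u 5 + u 6 + u 7) -
        (u 1 - u 0 + -u 0 + (u 2 - u 0) + (u 3 - u 0) + (u 4 - u 0) + (u 5 - u 0) + (u 6 - u 0) + (u 7 - u 0)) := by
        module
      rw [h6, h4, h1, sub_zero]
    have h6 := (smul_eq_zero.1 h5).resolve_right (hu.ne_zero 0)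
    have h7 : (3 : F) * 3 = 0 := by linear_combination h6
    rcases mul_eq_zero.1 h7 with h | h <;> exact h
  · refine ⟨hu.basis h7, fun g j => ?_⟩
    have hum : ∀ i, u i ∈ pspan (hu.basis h7) := by
      intro i
      rcases Fin.eq_castSucc_or_eq_last i with ⟨j, rfl⟩ | rfl
      · rw [← hu.basis_apply h7]
        exact Submodule.subset_span ⟨j, rfl⟩
      · rw [hu.last_eq]
        refine Submodule.neg_mem _ (Submodule.sum_mem _ fun j _ => ?_)
        rw [← hu.basis_apply h7]
        exact Submodule.subset_span ⟨j, rfl⟩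
    have hUm : ∀ a b : Fin 9, a ≠ b → U a b ∈ pspan (hu.basis h7) := by
      intro a b hab
      rcases Fin.eq_castSucc_or_eq_last a with ⟨i, rfl⟩ | rfl
      · rcases Fin.eq_castSucc_or_eq_last b with ⟨k, rfl⟩ | rfl
        · rw [hpair' i k (fun h => hab (by rw [h]))]
          exact Submodule.sub_mem _ (hum i) (hum k)
        · rw [hU8]
          exact hum i
      · rcases Fin.eq_castSucc_or_eq_last b with ⟨k, rfl⟩ | rfl
        · rw [h8i]
          exact Submodule.neg_mem _ (hum k)
        · exact absurd rfl hab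
    rw [hu.basis_apply, ← hU8, hU _ _ _ (Fin.castSucc_lt_last _).ne]
    exact hUm _ _ fun h => (Fin.castSucc_lt_last _).ne ((g : Perm (Fin 9)).injective h)

end Nine

end Cfsg.Agent.H856.Sv
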