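import Cfsg.Agent.S0765
import Cfsg.Agent.ClassicalGeometry.SympBasic
import Cfsg.Agent.H856.Sv5

/-!
# `Sp₆(2)` is generated by `A₈` and a transvection

`phi : Perm (Fin 8) →* Sp₆(2)`; `tB` : the transvection attached to the partition `0123|4567`.
-/

set_option autoImplicit false
set_option linter.unusedSectionVars false

open scoped Pointwise Matrix

namespace Cfsg.Agent.H856.SpS

open Equiv Cfsg.Agent.ClassicalGeometry.SympBasic

/-- the natural module -/
abbrev M6 : Type := Fin 3 ⊕ Fin 3 → ZMod 2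

/-- the group -/
abbrev G6 : Type := Matrix.symplecticGroup (Fin 3) (ZMod 2)

/-- eight vectors with sum zero and pairwise products 1, except the last -/
def dl : Fin 8 → M6 :=
  ![Sum.elim ![1, 0, 0] ![0, 0, 0], Sum.elim ![0, 0, 0] ![1, 0, 0],
    Sum.elim ![1, 1, 0] ![1, 0, 0], Sum.elim ![1, 0, 0] ![1, 1, 0],
    Sum.elim ![1, 1, 1] ![1, 1, 0], Sum.elim ![1, 1, 0] ![1, 1, 1],
    Sum.elim ![1, 1, 1] ![1, 1, 1], 0]

theorem dl_seven : dl 7 = 0 := rfl

theorem dl_sum : ∑ i, dl i = 0 := by decide +kernel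

/-- the symplectic form -/
abbrev fm (x y : M6) : ZMod 2 := Cfsg.sympForm 3 (ZMod 2) x y

theorem form_tri0 : ∀ a b c : Fin 8, a ≠ c → b ≠ c →
    (∑ i : Fin 3, ((dl a + dl c) (Sum.inr i) * (dl b + dl c) (Sum.inl i) -
      (dl a + dl c) (Sum.inl i) * (dl b + dl c) (Sum.inr i))) = if a = b then 0 else 1 := by
  decide +kernel

theorem form_tri {a b c : Fin 8} (h1 : a ≠ c) (h2 : b ≠ c) :
    fm (dl a + dl c) (dl b + dl c) = if a = b then 0 else 1 := by
  rw [fm, sympForm_eq_sum]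
  exact form_tri0 a b c h1 h2

theorem dl_li : LinearIndependent (ZMod 2) (fun i : Fin 6 => dl (Fin.castLE (by norm_num) i)) := by
  rw [Fintype.linearIndependent_iff]
  have key : ∀ g : Fin 6 → ZMod 2, ∑ i, g i • dl (Fin.castLE (by norm_num : 6 ≤ 8) i) = 0 → g = 0 := by
    decide +kernel
  intro g hg i
  rw [key g hg]
  rfl

/-- the basis -/
noncomputable def b6 : Module.Basis (Fin 6) (ZMod 2) M6 :=
  basisOfLinearIndependentOfCardEqFinrank dl_li (by simp)

theorem b6_apply (i : Fin 6) : b6 i = dl (Fin.castLE (by norm_num) i) := by simp [b6]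

/-- the linear map of a permutation -/
noncomputable def Lp (σ : Perm (Fin 8)) : M6 →ₗ[ZMod 2] M6 :=
  b6.constr (ZMod 2) (fun i => dl (σ (Fin.castLE (by norm_num) i)) + dl (σ 7))

theorem add_self (x : M6) : x + x = 0 := by
  funext i
  exact CharTwo.add_self_eq_zero _

theorem Lp_low (σ : Perm (Fin 8)) (i : Fin 6) :
    Lp σ (dl (Fin.castLE (by norm_num) i)) = dl (σ (Fin.castLE (by norm_num) i)) + dl (σ 7) := by
  rw [← b6_apply, Lp, Module.Basis.constr_basis]

theorem dl_six : dl 6 = dl 0 + dl 1 + dl 2 + dl 3 + dl 4 + dl 5 := by decide +kernel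

theorem Lp_apply (σ : Perm (Fin 8)) (i : Fin 8) : Lp σ (dl i) = dl (σ i) + dl (σ 7) := by
  have h0 : Lp σ (dl 0) = dl (σ 0) + dl (σ 7) := Lp_low σ 0
  have h1 : Lp σ (dl 1) = dl (σ 1) + dl (σ 7) := Lp_low σ 1
  have h2 : Lp σ (dl 2) = dl (σ 2) + dl (σ 7) := Lp_low σ 2
  have h3 : Lp σ (dl 3) = dl (σ 3) + dl (σ 7) := Lp_low σ 3
  have h4 : Lp σ (dl 4) = dl (σ 4) + dl (σ 7) := Lp_low σ 4
  have h5 : Lp σ (dl 5) = dl (σ 5) + dl (σ 7) := Lp_low σ 5
  have hs : ∑ j, dl (σ j) = 0 := by rw [Equiv.sum_comp σ dl, dl_sum]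
  rw [Fin.sum_univ_eight] at hs
  have h6 : Lp σ (dl 6) = dl (σ 6) + dl (σ 7) := by
    rw [dl_six, map_add, map_add, map_add, map_add, map_add, h0, h1, h2, h3, h4, h5]
    have e1 : dl (σ 0) + dl (σ 7) + (dl (σ 1) + dl (σ 7)) + (dl (σ 2) + dl (σ 7)) + (dl (σ 3) + dl (σ 7)) +
        (dl (σ 4) + dl (σ 7)) + (dl (σ 5) + dl (σ 7)) =
        (dl (σ 0) + dl (σ 1) + dl (σ 2) + dl (σ 3) + dl (σ 4) + dl (σ 5) + dl (σ 6) + dl (σ 7)) +
        (dl (σ 7) + dl (σ 7)) + (dl (σ 7) + dl (σ 7)) + (dl (σ 7) - dl (σ 6)) := by abel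
    rw [e1, hs, add_self]
    have e2 : -dl (σ 6) = dl (σ 6) := by rw [neg_eq_iff_add_eq_zero, add_self]
    rw [sub_eq_add_neg, e2]
    abel
  have h7 : Lp σ (dl 7) = dl (σ 7) + dl (σ 7) := by rw [dl_seven, map_zero, add_self]
  fin_cases i
  · exact h0
  · exact h1
  · exact h2
  · exact h3
  · exact h4
  · exact h5
  · exact h6
  · exact h7

theorem ext6 {W : Type*} [AddCommGroup W] [Module (ZMod 2) W] {L L' : M6 →ₗ[ZMod 2] W}
    (h : ∀ i, L (dl i) = L' (dl i)) : L = L' := by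
  apply b6.ext
  intro i
  rw [b6_apply, h]

theorem Lp_mul (σ τ : Perm (Fin 8)) : Lp (σ * τ) = (Lp σ).comp (Lp τ) := by
  apply ext6
  intro i
  rw [LinearMap.comp_apply, Lp_apply, Lp_apply, map_add, Lp_apply, Lp_apply]
  show dl (σ (τ i)) + dl (σ (τ 7)) = dl (σ (τ i)) + dl (σ 7) + (dl (σ (τ 7)) + dl (σ 7))
  have e1 : dl (σ (τ i)) + dl (σ 7) + (dl (σ (τ 7)) + dl (σ 7)) =
    dl (σ (τ i)) + dl (σ (τ 7)) + (dl (σ 7) + dl (σ 7)) := by abel
  rw [e1, add_self, add_zero]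

theorem Lp_one : Lp 1 = LinearMap.id := by
  apply ext6
  intro i
  rw [Lp_apply]
  show dl i + dl 7 = dl i
  rw [dl_seven, add_zero]

theorem Lp_form (σ : Perm (Fin 8)) (x y : M6) : fm (Lp σ x) (Lp σ y) = fm x y := by
  have key : ((sympBilin 3 (ZMod 2)).compl₁₂ (Lp σ) (Lp σ)) = sympBilin 3 (ZMod 2) := by
    apply b6.ext
    intro i
    apply b6.ext
    intro j
    rw [LinearMap.compl₁₂_apply, sympBilin_apply, sympBilin_apply, b6_apply, b6_apply, Lp_low, Lp_low]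
    have hi : (Fin.castLE (by norm_num : 6 ≤ 8) i) ≠ 7 := by revert i; decide
    have hj : (Fin.castLE (by norm_num : 6 ≤ 8) j) ≠ 7 := by revert j; decide
    have h1 := form_tri (a := σ (Fin.castLE (by norm_num) i)) (b := σ (Fin.castLE (by norm_num) j)) (c := σ 7)
      (fun h => hi (σ.injective h)) (fun h => hj (σ.injective h))
    have h2 := form_tri hi hj
    rw [dl_seven, add_zero, add_zero] at h2
    rw [show Cfsg.sympForm 3 (ZMod 2) (dl (Fin.castLE (by norm_num) i)) (dl (Fin.castLE (by norm_num) j)) = _ from h2]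
    refine Eq.trans h1 ?_
    simp only [EmbeddingLike.apply_eq_iff_eq]
  exact congrArg (fun B : LinearMap.BilinForm (ZMod 2) M6 => B x y) key

/-- the homomorphism from the symmetric group -/
noncomputable def phi : Perm (Fin 8) →* G6 where
  toFun σ := ⟨LinearMap.toMatrix' (Lp σ), by
    rw [mem_symplecticGroup_iff]
    intro x y
    rw [← Matrix.toLin'_apply, ← Matrix.toLin'_apply, Matrix.toLin'_toMatrix']
    exact Lp_form σ x y⟩
  map_one' := by
    apply Subtype.ext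
    show LinearMap.toMatrix' (Lp 1) = 1
    rw [Lp_one, LinearMap.toMatrix'_id]
  map_mul' σ τ := by
    apply Subtype.ext
    show LinearMap.toMatrix' (Lp (σ * τ)) = LinearMap.toMatrix' (Lp σ) * LinearMap.toMatrix' (Lp τ)
    rw [Lp_mul, LinearMap.toMatrix'_comp]

theorem phi_mulVec (σ : Perm (Fin 8)) (x : M6) :
    ((phi σ : G6) : Matrix (Fin 3 ⊕ Fin 3) (Fin 3 ⊕ Fin 3) (ZMod 2)) *ᵥ x = Lp σ x := by
  show LinearMap.toMatrix' (Lp σ) *ᵥ x = Lp σ x
  rw [← Matrix.toLin'_apply, Matrix.toLin'_toMatrix']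

/-- transvections -/
abbrev tv (v : M6) : G6 := transv v 1

theorem conj_tv (g : G6) (v : M6) :
    g * tv v * g⁻¹ = tv ((g : Matrix (Fin 3 ⊕ Fin 3) (Fin 3 ⊕ Fin 3) (ZMod 2)) *ᵥ v) := by
  rw [mul_inv_eq_iff_eq_mul]
  apply Subtype.ext
  exact mul_sympTransvection g.2 v 1

theorem tv_mulVec (v x : M6) : ((tv v : G6) : Matrix (Fin 3 ⊕ Fin 3) (Fin 3 ⊕ Fin 3) (ZMod 2)) *ᵥ x =
    x + fm x v • v := by
  have h := sympTransvection_mulVec v x (1 : ZMod 2)
  rw [one_mul] at h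
  exact h

theorem tv_mul_self (v : M6) : tv v * tv v = 1 := by
  apply Subtype.ext
  have h2 : (1 : ZMod 2) + 1 = 0 := by decide
  show Cfsg.sympTransvection 3 v (1 : ZMod 2) * Cfsg.sympTransvection 3 v (1 : ZMod 2) = 1
  rw [sympTransvection_mul, h2, sympTransvection_zero]

/-- the extra transvection -/
noncomputable def tB : G6 := tv (∑ i ∈ Sv.B4, dl i)

theorem tB_mul_self : tB * tB = 1 := tv_mul_self _

theorem four_mul (x : M6) : x + x + x + x = 0 := by rw [add_assoc, add_self]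

/-- the action on sums of four -/
theorem Lp_quad (σ : Perm (Fin 8)) (S : Finset (Fin 8)) (hS : S.card = 4) :
    Lp σ (∑ i ∈ S, dl i) = ∑ i ∈ S, dl (σ i) := by
  rw [map_sum]
  simp only [Lp_apply]
  rw [Finset.sum_add_distrib, Finset.sum_const, hS]
  have h1 : (4 : ℕ) • dl (σ 7) = 0 := by
    rw [← four_mul (dl (σ 7))]
    simp only [succ_nsmul, zero_nsmul, zero_add]
  rw [h1, add_zero]

theorem Lp_pair (σ : Perm (Fin 8)) (i j : Fin 8) : Lp σ (dl i + dl j) = dl (σ i) + dl (σ j) := by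
  rw [map_add, Lp_apply, Lp_apply]
  have e1 : dl (σ i) + dl (σ 7) + (dl (σ j) + dl (σ 7)) =
    dl (σ i) + dl (σ j) + (dl (σ 7) + dl (σ 7)) := by abel
  rw [e1, add_self, add_zero]

/-- an even permutation moving the block to a given 4-set -/
theorem exists_even_quad (S : Finset (Fin 8)) (hS : S.card = 4) :
    ∃ g : alternatingGroup (Fin 8), Sv.B4.map (g : Perm (Fin 8)).toEmbedding = S := by
  have h1 : Sv.B4.card = S.card := by rw [hS]; rfl
  let e : Sv.B4 ≃ S := Finset.equivOfCardEq h1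
  obtain ⟨f, hf⟩ := Finset.exists_equiv_extend_of_card_eq (α := Fin 8) (t := (Finset.univ : Finset (Fin 8)))
    (by simp) (s := Sv.B4) (f := fun i => if h : i ∈ Sv.B4 then (e ⟨i, h⟩ : Fin 8) else 0)
    (Finset.subset_univ _) (by
      intro i hi j hj hij
      simp only [Finset.mem_coe] at hi hj
      simp only [dif_pos hi, dif_pos hj] at hij
      have h3 := e.injective (Subtype.ext hij)
      exact congrArg Subtype.val h3)
  let σ : Perm (Fin 8) := f.trans (Equiv.subtypeUnivEquiv (fun x => Finset.mem_univ x))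
  have hσ : ∀ i (hi : i ∈ Sv.B4), σ i = (e ⟨i, hi⟩ : Fin 8) := by
    intro i hi
    have h3 := hf i hi
    rw [dif_pos hi] at h3
    exact h3
  have hmap : ∀ τ : Perm (Fin 8), Sv.B4.map τ.toEmbedding = Sv.B4 → Sv.B4.map (σ * τ).toEmbedding = S := by
    intro τ hτ
    apply Finset.eq_of_subset_of_card_le
    · intro x hx
      rw [Finset.mem_map] at hx
      obtain ⟨i, hi, rfl⟩ := hx
      have h4 : τ i ∈ Sv.B4 := by
        rw [← hτ]
        exact Finset.mem_map_of_mem _ hi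
      show σ (τ i) ∈ S
      rw [hσ _ h4]
      exact (e _).2
    · rw [Finset.card_map, hS]
      rfl
  rcases Int.units_eq_one_or (Perm.sign σ) with hs | hs
  · refine ⟨⟨σ, Perm.mem_alternatingGroup.2 hs⟩, ?_⟩
    have h5 := hmap 1 (by decide)
    rwa [mul_one] at h5
  · refine ⟨⟨σ * swap 0 1, Perm.mem_alternatingGroup.2 ?_⟩, hmap _ (by decide)⟩
    rw [Perm.sign_mul, hs, Perm.sign_swap (by decide)]; rfl

theorem classify : ∀ v : M6, v = 0 ∨ (∃ i j : Fin 8, i ≠ j ∧ v = dl i + dl j) ∨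
    ∃ S : Finset (Fin 8), S.card = 4 ∧ v = ∑ i ∈ S, dl i := by
  decide +kernel

theorem form_quads0 : (∑ i : Fin 3, ((∑ k ∈ ({0, 2, 3, 4} : Finset (Fin 8)), dl k) (Sum.inr i) *
    (∑ k ∈ ({1, 2, 3, 4} : Finset (Fin 8)), dl k) (Sum.inl i) -
      (∑ k ∈ ({0, 2, 3, 4} : Finset (Fin 8)), dl k) (Sum.inl i) *
      (∑ k ∈ ({1, 2, 3, 4} : Finset (Fin 8)), dl k) (Sum.inr i))) = 1 := by
  decide +kernel

theorem quads_add : (∑ k ∈ ({0, 2, 3, 4} : Finset (Fin 8)), dl k) + (∑ k ∈ ({1, 2, 3, 4} : Finset (Fin 8)), dl k) =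
    dl 0 + dl 1 := by
  decide +kernel

/-- **`Sp₆(2)` is generated by `A₈` and one transvection** -/
theorem gen (K : Subgroup G6) (h8 : ∀ g : alternatingGroup (Fin 8), phi (g : Perm (Fin 8)) ∈ K) (hB : tB ∈ K) :
    K = ⊤ := by
  have hconj : ∀ g ∈ K, ∀ v, tv v ∈ K →
      tv ((g : Matrix (Fin 3 ⊕ Fin 3) (Fin 3 ⊕ Fin 3) (ZMod 2)) *ᵥ v) ∈ K := by
    intro g hg v hv
    rw [← conj_tv]
    exact K.mul_mem (K.mul_mem hg hv) (K.inv_mem hg)
  have hquad : ∀ S : Finset (Fin 8), S.card = 4 → tv (∑ i ∈ S, dl i) ∈ K := by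
    intro S hS
    obtain ⟨g, hg⟩ := exists_even_quad S hS
    have h1 := hconj _ (h8 g) _ hB
    rw [phi_mulVec, Lp_quad _ _ (by rfl)] at h1
    rw [← hg, Finset.sum_map]
    exact h1
  have h01 : tv (dl 0 + dl 1) ∈ K := by
    have h1 := hconj _ (hquad {1, 2, 3, 4} (by decide)) _ (hquad {0, 2, 3, 4} (by decide))
    rw [tv_mulVec, fm, sympForm_eq_sum, form_quads0, one_smul, quads_add] at h1
    exact h1
  have hpair : ∀ i j : Fin 8, i ≠ j → tv (dl i + dl j) ∈ K := by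
    intro i j hij
    obtain ⟨g, h0, h1⟩ := Sv.exists_even_pair hij
    have h2 := hconj _ (h8 g) _ h01
    rw [phi_mulVec, Lp_pair, h0, h1] at h2
    exact h2
  have hall : ∀ v : M6, tv v ∈ K := by
    intro v
    rcases classify v with rfl | ⟨i, j, hij, rfl⟩ | ⟨S, hS, rfl⟩
    · have h1 : tv (0 : M6) = 1 := by
        apply Subtype.ext
        show Cfsg.sympTransvection 3 (0 : M6) (1 : ZMod 2) = 1
        rw [← Matrix.mulVec_injective.eq_iff]
        funext x
        rw [sympTransvection_mulVec, smul_zero, add_zero, Matrix.one_mulVec]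
      rw [h1]
      exact K.one_mem
    · exact hpair i j hij
    · exact hquad S hS
  rw [eq_top_iff, ← Cfsg.Agent.S0765.result, Subgroup.closure_le]
  rintro A ⟨w, c, hA⟩
  have hc : ∀ c : ZMod 2, c = 0 ∨ c = 1 := by decide
  rcases hc c with rfl | rfl
  · have h1 : A = 1 := by
      apply Subtype.ext
      rw [hA, sympTransvection_zero]
      rfl
    rw [h1]
    exact K.one_mem
  · have h1 : A = tv w := Subtype.ext hA
    rw [h1]
    exact hall w

/-- elements of `A₈` preserving the block partition commute with the transvection -/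
theorem tB_comm {σ : Perm (Fin 8)} (h : ∑ i ∈ Sv.B4, dl (σ i) = ∑ i ∈ Sv.B4, dl i) :
    phi σ * tB = tB * phi σ := by
  have h1 := conj_tv (phi σ) (∑ i ∈ Sv.B4, dl i)
  rw [phi_mulVec, Lp_quad _ _ (by rfl), h] at h1
  rwa [mul_inv_eq_iff_eq_mul] at h1

end Cfsg.Agent.H856.SpS
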