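import Cfsg.Agent.H856.Sv7
import Cfsg.Agent.H856.Sv6
import Cfsg.Agent.H637.JW

/-!
# `Sp₆(2)` in dimension 7: the entries are in the prime field
-/

set_option autoImplicit false
set_option linter.unusedSectionVars false

open scoped Pointwise

namespace Cfsg.Agent.H856.Sv

open Equiv Cfsg.Agent.H637.JW

variable {F : Type*} [Field F] {V : Type*} [AddCommGroup V] [Module F V]

theorem prim_neg_one (h2 : (2 : F) ≠ 0) : IsPrimitiveRoot (-1 : F) 2 := by
  refine IsPrimitiveRoot.mk_of_lt _ (by norm_num) (by norm_num) fun l hl hl2 => ?_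
  have h1 : l = 1 := by omega
  rw [h1, pow_one]
  intro h
  apply h2
  linear_combination -h

/-- a regular elementary abelian group of order 8 normalised by an element of order 7: in dimension 7 a fixed vector forces
the trivial action -/
theorem E_fix (h7 : Module.finrank F V = 7) (h2 : (2 : F) ≠ 0) {e0 e1 e2 c : V ≃ₗ[F] V}
    (h00 : e0 * e0 = 1) (h11 : e1 * e1 = 1) (h22 : e2 * e2 = 1) (h01 : e0 * e1 = e1 * e0)
    (h02 : e0 * e2 = e2 * e0) (h12 : e1 * e2 = e2 * e1) (hc0 : c * e0 = e1 * c) (hc1 : c * e1 = e2 * c)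
    (hc2 : c * e2 = e0 * e1 * c) {w : V} (hw : w ≠ 0) (hw0 : e0 w = w) (hw1 : e1 w = w) (hw2 : e2 w = w) :
    e0 = 1 := by
  have hfin : FiniteDimensional F V := Module.finite_of_finrank_pos (by rw [h7]; norm_num)
  have ap : ∀ {a b : V ≃ₗ[F] V}, a = b → ∀ v, a v = b v := fun h v => by rw [h]
  have h00' : ∀ v, e0 (e0 v) = v := ap h00
  have h11' : ∀ v, e1 (e1 v) = v := ap h11
  have h22' : ∀ v, e2 (e2 v) = v := ap h22
  have h01' : ∀ v, e0 (e1 v) = e1 (e0 v) := ap h01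
  have h02' : ∀ v, e0 (e2 v) = e2 (e0 v) := ap h02
  have h12' : ∀ v, e1 (e2 v) = e2 (e1 v) := ap h12
  have hc0' : ∀ v, c (e0 v) = e1 (c v) := ap hc0
  have hc1' : ∀ v, c (e1 v) = e2 (c v) := ap hc1
  have hc2' : ∀ v, c (e2 v) = e0 (e1 (c v)) := ap hc2
  let f : Fin 3 → Module.End F V := ![(e0 : V →ₗ[F] V), (e1 : V →ₗ[F] V), (e2 : V →ₗ[F] V)]
  have hfc : ∀ j k, f j * f k = f k * f j := by
    intro j k
    fin_cases j <;> fin_cases k
    · rfl
    · exact LinearMap.ext h01'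
    · exact LinearMap.ext h02'
    · exact LinearMap.ext fun v => (h01' v).symm
    · rfl
    · exact LinearMap.ext h12'
    · exact LinearMap.ext fun v => (h02' v).symm
    · exact LinearMap.ext fun v => (h12' v).symm
    · rfl
  have hf2 : ∀ k, f k ^ 2 = 1 := by
    intro k
    rw [pow_two]
    fin_cases k
    · exact LinearMap.ext h00'
    · exact LinearMap.ext h11'
    · exact LinearMap.ext h22'
  have hind := indep_W (K := F) (by exact_mod_cast h2) (prim_neg_one h2) hfc hf2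
  have hmem : ∀ (χ : Fin 3 → ZMod 2) (v : V), v ∈ W 2 (-1 : F) f χ ↔
      e0 v = (-1 : F) ^ (χ 0).val • v ∧ e1 v = (-1 : F) ^ (χ 1).val • v ∧ e2 v = (-1 : F) ^ (χ 2).val • v := by
    intro χ v
    rw [mem_W]
    constructor
    · intro h
      exact ⟨h 0, h 1, h 2⟩
    · rintro ⟨a, b, d⟩ k
      fin_cases k
      · exact a
      · exact b
      · exact d
  -- the step
  have hstep : ∀ χ : Fin 3 → ZMod 2, W 2 (-1 : F) f χ ≠ ⊥ → W 2 (-1 : F) f ![χ 0 + χ 2, χ 0, χ 1] ≠ ⊥ := by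
    intro χ h
    obtain ⟨v, hv, hv0⟩ := (Submodule.ne_bot_iff _).1 h
    rw [Submodule.ne_bot_iff]
    refine ⟨c v, ?_, fun h => hv0 (c.injective (by rw [h, map_zero]))⟩
    rw [hmem] at hv ⊢
    obtain ⟨a, b, d⟩ := hv
    have a' : e1 (c v) = (-1 : F) ^ (χ 0).val • c v := by rw [← hc0', a, map_smul]
    have b' : e2 (c v) = (-1 : F) ^ (χ 1).val • c v := by rw [← hc1', b, map_smul]
    have d' : e0 (e1 (c v)) = (-1 : F) ^ (χ 2).val • c v := by rw [← hc2', d, map_smul]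
    refine ⟨?_, a', b'⟩
    rw [a', map_smul] at d'
    have h3 : (-1 : F) ^ (χ 0).val * (-1 : F) ^ (χ 0).val = 1 := by
      rw [← mul_pow]; norm_num
    have h4 : e0 (c v) = ((-1 : F) ^ (χ 0).val * (-1 : F) ^ (χ 2).val) • c v := by
      rw [mul_smul, ← d', smul_smul, h3, one_smul]
    rw [h4]
    congr 1
    show _ = (-1 : F) ^ (χ 0 + χ 2).val
    rw [pow_val_add (by norm_num)]
  -- the nontrivial characters form one orbit
  have hs' : ∀ χ χ' : Fin 3 → ZMod 2, ![χ 0 + χ 2, χ 0, χ 1] = χ' → W 2 (-1 : F) f χ ≠ ⊥ →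
      W 2 (-1 : F) f χ' ≠ ⊥ := fun χ χ' h h1 => h ▸ hstep χ h1
  have s1 := hs' ![1, 0, 0] ![1, 1, 0] (by decide)
  have s2 := hs' ![1, 1, 0] ![1, 1, 1] (by decide)
  have s3 := hs' ![1, 1, 1] ![0, 1, 1] (by decide)
  have s4 := hs' ![0, 1, 1] ![1, 0, 1] (by decide)
  have s5 := hs' ![1, 0, 1] ![0, 1, 0] (by decide)
  have s6 := hs' ![0, 1, 0] ![0, 0, 1] (by decide)
  have s7 := hs' ![0, 0, 1] ![1, 0, 0] (by decide)
  have hcase : ∀ χ : Fin 3 → ZMod 2, χ ≠ 0 → χ = ![1, 0, 0] ∨ χ = ![1, 1, 0] ∨ χ = ![1, 1, 1] ∨ χ = ![0, 1, 1] ∨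
    χ = ![1, 0, 1] ∨ χ = ![0, 1, 0] ∨ χ = ![0, 0, 1] := by decide
  have horb : W 2 (-1 : F) f ![1, 0, 0] ≠ ⊥ → ∀ χ : Fin 3 → ZMod 2, χ ≠ 0 → W 2 (-1 : F) f χ ≠ ⊥ := by
    intro h1 χ hχ
    rcases hcase χ hχ with h | h | h | h | h | h | h <;> rw [h]
    · exact h1
    · exact s1 h1
    · exact s2 (s1 h1)
    · exact s3 (s2 (s1 h1))
    · exact s4 (s3 (s2 (s1 h1)))
    · exact s5 (s4 (s3 (s2 (s1 h1))))
    · exact s6 (s5 (s4 (s3 (s2 (s1 h1)))))
  have horb' : ∀ χ : Fin 3 → ZMod 2, χ ≠ 0 → W 2 (-1 : F) f χ ≠ ⊥ → W 2 (-1 : F) f ![1, 0, 0] ≠ ⊥ := by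
    intro χ hχ hW
    rcases hcase χ hχ with h | h | h | h | h | h | h <;> rw [h] at hW
    · exact hW
    · exact s7 (s6 (s5 (s4 (s3 (s2 hW)))))
    · exact s7 (s6 (s5 (s4 (s3 hW))))
    · exact s7 (s6 (s5 (s4 hW)))
    · exact s7 (s6 (s5 hW))
    · exact s7 (s6 hW)
    · exact s7 hW
  have hw' : W 2 (-1 : F) f 0 ≠ ⊥ := by
    rw [Submodule.ne_bot_iff]
    refine ⟨w, ?_, hw⟩
    rw [hmem]
    simp [hw0, hw1, hw2]
  have hbot : ∀ χ : Fin 3 → ZMod 2, χ ≠ 0 → W 2 (-1 : F) f χ = ⊥ := by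
    by_contra hne
    push Not at hne
    obtain ⟨χ, hχ, hW⟩ := hne
    have hall : ∀ χ : Fin 3 → ZMod 2, W 2 (-1 : F) f χ ≠ ⊥ := by
      intro χ'
      by_cases h : χ' = 0
      · rw [h]; exact hw'
      · exact horb (horb' χ hχ hW) χ' h
    have h1 := sum_le_top hind
    have h3 : ∀ χ ∈ (Finset.univ : Finset (Fin 3 → ZMod 2)), 1 ≤ Module.finrank F (W 2 (-1 : F) f χ) := by
      intro χ _
      rw [Nat.one_le_iff_ne_zero]
      intro h
      exact hall χ (Submodule.finrank_eq_zero.1 h)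
    have h4 := Finset.card_nsmul_le_sum _ _ _ h3
    rw [Finset.card_univ] at h4
    simp only [Fintype.card_fun, ZMod.card, Fintype.card_fin, smul_eq_mul] at h4
    omega
  have hz : ∀ (χ : Fin 3 → ZMod 2), χ ≠ 0 → ∀ y, e0 y = (-1 : F) ^ (χ 0).val • y → e1 y = (-1 : F) ^ (χ 1).val • y →
      e2 y = (-1 : F) ^ (χ 2).val • y → y = 0 := by
    intro χ hχ y a b d
    have h1 : y ∈ W 2 (-1 : F) f χ := (hmem χ y).2 ⟨a, b, d⟩
    rw [hbot χ hχ] at h1
    exact h1
  have p0 : ∀ y : V, (-1 : F) ^ (0 : ZMod 2).val • y = y := fun y => by simp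
  have p1 : ∀ y : V, (-1 : F) ^ (1 : ZMod 2).val • y = -y := fun y => by
    rw [show (1 : ZMod 2).val = 1 from rfl, pow_one, neg_smul, one_smul]
  have half : ∀ y z z' : V, y + z = 0 → y - z = 0 → y = 0 := by
    intro y z _ h h'
    have h3 : (2 : F) • y = 0 := by
      rw [show (2 : F) • y = (y + z) + (y - z) by module, h, h', add_zero]
    exact (smul_eq_zero.1 h3).resolve_left h2
  have hz4 : ∀ z, e0 z = -z → e1 z = z → z = 0 := by
    intro z h0 h1
    refine half z (e2 z) 0 ?_ ?_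
    · refine hz ![1, 0, 0] (by decide) _ ?_ ?_ ?_
      · refine Eq.trans ?_ (p1 _).symm
        rw [map_add, h02', h0, map_neg]; abel
      · refine Eq.trans ?_ (p0 _).symm
        rw [map_add, h12', h1]
      · refine Eq.trans ?_ (p0 _).symm
        rw [map_add, h22', add_comm]
    · refine hz ![1, 0, 1] (by decide) _ ?_ ?_ ?_
      · refine Eq.trans ?_ (p1 _).symm
        rw [map_sub, h02', h0, map_neg]; abel
      · refine Eq.trans ?_ (p0 _).symm
        rw [map_sub, h12', h1]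
      · refine Eq.trans ?_ (p1 _).symm
        rw [map_sub, h22', neg_sub]
  have hz5 : ∀ z, e0 z = -z → e1 z = -z → z = 0 := by
    intro z h0 h1
    refine half z (e2 z) 0 ?_ ?_
    · refine hz ![1, 1, 0] (by decide) _ ?_ ?_ ?_
      · refine Eq.trans ?_ (p1 _).symm
        rw [map_add, h02', h0, map_neg]; abel
      · refine Eq.trans ?_ (p1 _).symm
        rw [map_add, h12', h1, map_neg]; abel
      · refine Eq.trans ?_ (p0 _).symm
        rw [map_add, h22', add_comm]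
    · refine hz ![1, 1, 1] (by decide) _ ?_ ?_ ?_
      · refine Eq.trans ?_ (p1 _).symm
        rw [map_sub, h02', h0, map_neg]; abel
      · refine Eq.trans ?_ (p1 _).symm
        rw [map_sub, h12', h1, map_neg]; abel
      · refine Eq.trans ?_ (p1 _).symm
        rw [map_sub, h22', neg_sub]
  have hz6 : ∀ z, e0 z = -z → z = 0 := by
    intro z h0
    refine half z (e1 z) 0 (hz4 _ ?_ ?_) (hz5 _ ?_ ?_)
    · rw [map_add, h01', h0, map_neg]; abel
    · rw [map_add, h11', add_comm]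
    · rw [map_sub, h01', h0, map_neg]; abel
    · rw [map_sub, h11', neg_sub]
  apply LinearEquiv.ext
  intro v
  have h1 := hz6 (e0 v - v) (by rw [map_sub, h00', neg_sub])
  rw [sub_eq_zero] at h1
  exact h1

theorem pspan_map {ι : Type*} (b : Module.Basis ι F V) (L : V →ₗ[F] V) (h : ∀ j, L (b j) ∈ pspan b) {v : V}
    (hv : v ∈ pspan b) : L v ∈ pspan b := by
  induction hv using Submodule.span_induction with
  | mem x hx =>
    obtain ⟨j, rfl⟩ := hx
    exact h j
  | zero =>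
    rw [map_zero]
    exact Submodule.zero_mem _
  | add x y _ _ hx hy =>
    rw [map_add]
    exact Submodule.add_mem _ hx hy
  | smul c x _ hx =>
    have h1 : c • x = (c : F) • x := rfl
    rw [h1, map_smul]
    exact Submodule.smul_mem (pspan b) c hx

/-- the linear automorphisms preserving the span over the prime field -/
def pstab {ι : Type*} (b : Module.Basis ι F V) : Subgroup (V ≃ₗ[F] V) where
  carrier := {g | ∀ v, g v ∈ pspan b ↔ v ∈ pspan b}
  one_mem' := fun v => Iff.rfl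
  mul_mem' := fun {g h} hg hh v => by
    show g (h v) ∈ pspan b ↔ _
    rw [hg, hh]
  inv_mem' := fun {g} hg v => by
    rw [← hg (g⁻¹ v)]
    rw [show g (g⁻¹ v) = v from g.apply_symm_apply v]

/-- making elements of `A₈` -/
def mk8 (p : Perm (Fin 8)) (h : Perm.sign p = 1 := by decide) : alternatingGroup (Fin 8) :=
  ⟨p, Perm.mem_alternatingGroup.2 h⟩

def E0 : alternatingGroup (Fin 8) := mk8 (swap 0 1 * swap 2 3 * swap 4 5 * swap 6 7)
def E1 : alternatingGroup (Fin 8) := mk8 (swap 0 2 * swap 1 3 * swap 4 6 * swap 5 7)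
def E2 : alternatingGroup (Fin 8) := mk8 (swap 0 4 * swap 1 5 * swap 2 6 * swap 3 7)
def Ec : alternatingGroup (Fin 8) := mk8 (swap 1 2 * swap 2 4 * swap 4 3 * swap 3 6 * swap 6 7 * swap 7 5)

theorem E00 : E0 * E0 = 1 := by decide +kernel
theorem E11 : E1 * E1 = 1 := by decide +kernel
theorem E22 : E2 * E2 = 1 := by decide +kernel
theorem E01 : E0 * E1 = E1 * E0 := by decide +kernel
theorem E02 : E0 * E2 = E2 * E0 := by decide +kernel
theorem E12 : E1 * E2 = E2 * E1 := by decide +kernel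
theorem Ec0 : Ec * E0 = E1 * Ec := by decide +kernel
theorem Ec1 : Ec * E1 = E2 * Ec := by decide +kernel
theorem Ec2 : Ec * E2 = E0 * E1 * Ec := by decide +kernel
theorem E0_ne : E0 ≠ 1 := by decide +kernel

/-- `A₈` acting nontrivially in dimension 7 has no fixed vectors -/
theorem a8_no_fix (h7 : Module.finrank F V = 7) (h2 : (2 : F) ≠ 0) (τ : alternatingGroup (Fin 8) →* (V ≃ₗ[F] V))
    {w : V} (hw : w ≠ 0) (hfix : ∀ g, τ g w = w) : ∀ g, τ g = 1 := by
  have h1 : τ E0 = 1 := by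
    refine E_fix h7 h2 (e0 := τ E0) (e1 := τ E1) (e2 := τ E2) (c := τ Ec) ?_ ?_ ?_ ?_ ?_ ?_ ?_ ?_ ?_ hw (hfix _)
      (hfix _) (hfix _)
    · rw [← map_mul, E00, map_one]
    · rw [← map_mul, E11, map_one]
    · rw [← map_mul, E22, map_one]
    · rw [← map_mul, E01, map_mul]
    · rw [← map_mul, E02, map_mul]
    · rw [← map_mul, E12, map_mul]
    · rw [← map_mul, Ec0, map_mul]
    · rw [← map_mul, Ec1, map_mul]
    · rw [← map_mul, Ec2, map_mul, map_mul]
  have hs : IsSimpleGroup (alternatingGroup (Fin 8)) := alternatingGroup.isSimpleGroup (by simp)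
  rcases (inferInstance : τ.ker.Normal).eq_bot_or_eq_top with h | h
  · exfalso
    have h3 : E0 ∈ τ.ker := h1
    rw [h, Subgroup.mem_bot] at h3
    exact E0_ne h3
  · intro g
    have h3 : g ∈ τ.ker := by rw [h]; trivial
    exact h3

def A1 : alternatingGroup (Fin 8) := mk8 (swap 0 1 * swap 2 3)
def A2 : alternatingGroup (Fin 8) := mk8 (swap 0 2 * swap 1 3)
def C1 : alternatingGroup (Fin 8) := mk8 (swap 1 2 * swap 2 3)
def D1 : alternatingGroup (Fin 8) := mk8 (swap 4 5 * swap 5 6)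
def D2 : alternatingGroup (Fin 8) := mk8 (swap 5 6 * swap 6 7)

section act

variable {u : Fin 8 → V} (hu : Fr8 F u) {τ : alternatingGroup (Fin 8) →* (V ≃ₗ[F] V)}
  (hτ : ∀ (g : alternatingGroup (Fin 8)) i, τ g (u i) = u ((g : Perm (Fin 8)) i))

include hu hτ

theorem relg {x : Fin 8 → F} {g : alternatingGroup (Fin 8)} {s : F}
    (h : τ g (∑ i, x i • u i) = s • ∑ i, x i • u i) (i j : Fin 8) :
    x i - s * x ((g : Perm (Fin 8)) i) = x j - s * x ((g : Perm (Fin 8)) j) := by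
  rw [map_sum] at h
  simp only [map_smul, hτ] at h
  rw [Finset.smul_sum, ← Equiv.sum_comp (g : Perm (Fin 8)) (fun k => s • x k • u k), ← sub_eq_zero,
    ← Finset.sum_sub_distrib] at h
  have h1 : ∑ k, (x ((g : Perm (Fin 8))⁻¹ k) - s * x k) • u k = 0 := by
    rw [← Equiv.sum_comp (g : Perm (Fin 8)) (fun k => (x ((g : Perm (Fin 8))⁻¹ k) - s * x k) • u k), ← h]
    refine Finset.sum_congr rfl fun k _ => ?_
    rw [show (g : Perm (Fin 8))⁻¹ ((g : Perm (Fin 8)) k) = k from (g : Perm (Fin 8)).symm_apply_apply k, sub_smul,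
      smul_smul]
  have h3 := hu.rel _ h1 ((g : Perm (Fin 8)) i) ((g : Perm (Fin 8)) j)
  rw [show (g : Perm (Fin 8))⁻¹ ((g : Perm (Fin 8)) i) = i from (g : Perm (Fin 8)).symm_apply_apply i,
    show (g : Perm (Fin 8))⁻¹ ((g : Perm (Fin 8)) j) = j from (g : Perm (Fin 8)).symm_apply_apply j] at h3
  exact h3

variable (h7 : Module.finrank F V = 7)

include h7

theorem in_W1 {v : V} (h1 : τ A1 v = v) (h2 : τ A2 v = -v) (h3 : τ D1 v = v) (h4 : τ D2 v = v) :
    ∃ k : F, v = k • (u 0 + u 1 - u 2 - u 3) := by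
  obtain ⟨x, rfl⟩ := hu.exists_sum h7 v
  have r1 := relg hu hτ (s := 1) (g := A1) (by rw [one_smul]; exact h1)
  have r2 := relg hu hτ (s := -1) (g := A2) (by rw [neg_smul, one_smul]; exact h2)
  have r3 := relg hu hτ (s := 1) (g := D1) (by rw [one_smul]; exact h3)
  have r4 := relg hu hτ (s := 1) (g := D2) (by rw [one_smul]; exact h4)
  have q1 := r1 0 4
  have q2 := r1 2 4
  have q3 := r2 0 4
  have q4 := r3 4 0
  have q5 := r3 5 0
  have q6 := r4 6 0
  rw [show (A1 : Perm (Fin 8)) 0 = 1 by decide, show (A1 : Perm (Fin 8)) 4 = 4 by decide] at q1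
  rw [show (A1 : Perm (Fin 8)) 2 = 3 by decide, show (A1 : Perm (Fin 8)) 4 = 4 by decide] at q2
  rw [show (A2 : Perm (Fin 8)) 0 = 2 by decide, show (A2 : Perm (Fin 8)) 4 = 4 by decide] at q3
  rw [show (D1 : Perm (Fin 8)) 4 = 5 by decide, show (D1 : Perm (Fin 8)) 0 = 0 by decide] at q4
  rw [show (D1 : Perm (Fin 8)) 5 = 6 by decide, show (D1 : Perm (Fin 8)) 0 = 0 by decide] at q5
  rw [show (D2 : Perm (Fin 8)) 6 = 7 by decide, show (D2 : Perm (Fin 8)) 0 = 0 by decide] at q6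
  have e1 : x 1 = x 0 := by linear_combination -q1
  have e3 : x 3 = x 2 := by linear_combination -q2
  have e2 : x 2 = 2 * x 4 - x 0 := by linear_combination q3
  have e5 : x 5 = x 4 := by linear_combination -q4
  have e6 : x 6 = x 4 := by linear_combination -q4 - q5
  have e7 : x 7 = x 4 := by linear_combination -q4 - q5 - q6
  have hs := hu.sum
  rw [Fin.sum_univ_eight] at hs ⊢
  refine ⟨x 0 - x 4, ?_⟩
  have h9 : u 7 = -(u 0 + u 1 + u 2 + u 3 + u 4 + u 5 + u 6) := by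
    rw [eq_neg_iff_add_eq_zero, add_comm]; exact hs
  rw [e7, e6, e5, e3, e2, e1, h9]
  module

theorem in_W0 {v : V} (h1 : τ A1 v = v) (h2 : τ A2 v = v) (h3 : τ D1 v = v) (h4 : τ D2 v = v) :
    ∃ k : F, v = k • (u 0 + u 1 + u 2 + u 3) := by
  obtain ⟨x, rfl⟩ := hu.exists_sum h7 v
  have r1 := relg hu hτ (s := 1) (g := A1) (by rw [one_smul]; exact h1)
  have r2 := relg hu hτ (s := 1) (g := A2) (by rw [one_smul]; exact h2)
  have r3 := relg hu hτ (s := 1) (g := D1) (by rw [one_smul]; exact h3)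
  have r4 := relg hu hτ (s := 1) (g := D2) (by rw [one_smul]; exact h4)
  have q1 := r1 0 4
  have q2 := r1 2 4
  have q3 := r2 0 4
  have q4 := r3 4 0
  have q5 := r3 5 0
  have q6 := r4 6 0
  rw [show (A1 : Perm (Fin 8)) 0 = 1 by decide, show (A1 : Perm (Fin 8)) 4 = 4 by decide] at q1
  rw [show (A1 : Perm (Fin 8)) 2 = 3 by decide, show (A1 : Perm (Fin 8)) 4 = 4 by decide] at q2
  rw [show (A2 : Perm (Fin 8)) 0 = 2 by decide, show (A2 : Perm (Fin 8)) 4 = 4 by decide] at q3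
  rw [show (D1 : Perm (Fin 8)) 4 = 5 by decide, show (D1 : Perm (Fin 8)) 0 = 0 by decide] at q4
  rw [show (D1 : Perm (Fin 8)) 5 = 6 by decide, show (D1 : Perm (Fin 8)) 0 = 0 by decide] at q5
  rw [show (D2 : Perm (Fin 8)) 6 = 7 by decide, show (D2 : Perm (Fin 8)) 0 = 0 by decide] at q6
  have e1 : x 1 = x 0 := by linear_combination -q1
  have e3 : x 3 = x 2 := by linear_combination -q2
  have e2 : x 2 = x 0 := by linear_combination -q3
  have e5 : x 5 = x 4 := by linear_combination -q4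
  have e6 : x 6 = x 4 := by linear_combination -q4 - q5
  have e7 : x 7 = x 4 := by linear_combination -q4 - q5 - q6
  have hs := hu.sum
  rw [Fin.sum_univ_eight] at hs ⊢
  refine ⟨x 0 - x 4, ?_⟩
  have h9 : u 7 = -(u 0 + u 1 + u 2 + u 3 + u 4 + u 5 + u 6) := by
    rw [eq_neg_iff_add_eq_zero, add_comm]; exact hs
  rw [e7, e6, e5, e3, e2, e1, h9]
  module

end act

end Cfsg.Agent.H856.Sv
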