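import Cfsg.Agent.H856.Sv8
import Cfsg.Agent.H464.Sl2Basic

/-!
# `SL₂(8)` : generators, relations, weights

`Oct K` : a field with 8 elements with `b ^ 3 = b + 1`.
-/

set_option autoImplicit false
set_option linter.unusedSectionVars false

open scoped Pointwise

namespace Cfsg.Agent.H856.Sw

open Matrix Cfsg.Agent.H464.Sl2 Cfsg.Agent.H856.Sv

section field

variable {K : Type*} [Field K] [Fintype K] (hK : Fintype.card K = 8)

include hK

theorem two_eq : (2 : K) = 0 := by
  have h1 : ((Fintype.card K : ℕ) : K) = 0 := Nat.cast_card_eq_zero K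
  rw [hK] at h1
  have h2 : (2 : K) * (2 * 2) = 0 := by
    have : ((8 : ℕ) : K) = 2 * (2 * 2) := by norm_num
    rw [← this]
    exact h1
  rcases mul_eq_zero.1 h2 with h | h
  · exact h
  · rcases mul_eq_zero.1 h with h | h <;> exact h

theorem pow_seven (x : Kˣ) : x ^ 7 = 1 := by
  have h1 := FiniteField.pow_card_sub_one_eq_one (x : K) x.ne_zero
  rw [hK] at h1
  apply Units.ext
  rw [Units.val_pow_eq_pow_val, Units.val_one]
  exact h1

theorem neg_eq' (x : K) : -x = x := by
  have h := two_eq hK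
  linear_combination (-x) * h

/-- a primitive element with `b ^ 3 = b + 1` -/
theorem exists_beta : ∃ b : Kˣ, (b : K) ^ 3 = b + 1 := by
  classical
  have h2 := two_eq hK
  obtain ⟨x, hx⟩ : ∃ x : Kˣ, x ≠ 1 := by
    by_contra h
    push Not at h
    have h1 : Fintype.card Kˣ = 7 := by rw [Fintype.card_units, hK]
    have h3 : Fintype.card Kˣ ≤ 1 := Fintype.card_le_one_iff.2 fun a b => by rw [h a, h b]
    omega
  have h7 : (x : K) ^ 7 = 1 := by
    have := pow_seven hK x
    rw [← Units.val_pow_eq_pow_val, this, Units.val_one]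
  have hx1 : (x : K) + 1 ≠ 0 := by
    intro h
    apply hx
    apply Units.ext
    rw [Units.val_one]
    linear_combination h - h2
  have hprod : ((x : K) + 1) * (((x : K) ^ 3 + x + 1) * ((x : K) ^ 3 + (x : K) ^ 2 + 1)) = 0 := by
    linear_combination h7 + ((x : K) ^ 6 + (x : K) ^ 5 + 2 * (x : K) ^ 4 + 2 * (x : K) ^ 3 + (x : K) ^ 2 + (x : K) + 1) * h2 - 0 * h2
  rcases mul_eq_zero.1 ((mul_eq_zero.1 hprod).resolve_left hx1) with h | h
  · exact ⟨x, by linear_combination h - ((x : K) + 1) * h2⟩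
  · refine ⟨x⁻¹, ?_⟩
    have hxi : ((x⁻¹ : Kˣ) : K) * x = 1 := by rw [← Units.val_mul, inv_mul_cancel, Units.val_one]
    have hx0 : (x : K) ^ 3 ≠ 0 := pow_ne_zero _ x.ne_zero
    apply mul_left_cancel₀ hx0
    have e3 : (x : K) ^ 3 * ((x⁻¹ : Kˣ) : K) ^ 3 = 1 := by rw [← mul_pow, mul_comm (x : K), hxi, one_pow]
    have e1 : (x : K) ^ 3 * ((x⁻¹ : Kˣ) : K) = (x : K) ^ 2 := by
      rw [pow_succ, mul_assoc, mul_comm (x : K), hxi, mul_one]
    rw [e3, mul_add, e1, mul_one]
    linear_combination -h + h2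

theorem u_mul_self (x : K) : u x * u x = 1 := by
  rw [← u_add, show x + x = 0 by have h := two_eq hK; linear_combination x * h, u_zero]

theorem mem_zpowers_of {a : Kˣ} (ha : a ≠ 1) (x : Kˣ) : x ∈ Subgroup.zpowers a := by
  classical
  have : Fact (Nat.Prime 7) := ⟨by norm_num⟩
  exact mem_zpowers_of_prime_card (p := 7) (by rw [Nat.card_eq_fintype_card, Fintype.card_units, hK]) ha

/-- every unit is a square -/
theorem sq_sqrt (x : Kˣ) : (x ^ 4) ^ 2 = x := by
  rw [← pow_mul, show 4 * 2 = 7 + 1 by norm_num, pow_add, pow_seven hK, one_mul, pow_one]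

omit [Fintype K] hK in
theorem t_zpow (a : Kˣ) (n : ℤ) : t (a ^ n) = t a ^ n := map_zpow (tHom (K := K)) a n

/-- generation -/
theorem gen_sl (S : Subgroup (SpecialLinearGroup (Fin 2) K)) {a : Kˣ} (ha : a ≠ 1) (h1 : u (1 : K) ∈ S)
    (h2 : t a ∈ S) (h3 : w (1 : Kˣ) ∈ S) : S = ⊤ := by
  have ht : ∀ x : Kˣ, t x ∈ S := by
    intro x
    obtain ⟨n, hn⟩ := mem_zpowers_of hK ha x
    simp only at hn
    rw [← hn, t_zpow]
    exact S.zpow_mem h2 n
  have hu : ∀ x : K, u x ∈ S := by
    intro x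
    by_cases hx : x = 0
    · rw [hx, u_zero]; exact S.one_mem
    have h4 := t_mul_u ((Units.mk0 x hx) ^ 4) (1 : K)
    rw [← Units.val_pow_eq_pow_val, sq_sqrt hK, Units.val_mk0, mul_one] at h4
    have h5 : u x = t ((Units.mk0 x hx) ^ 4) * u 1 * (t ((Units.mk0 x hx) ^ 4))⁻¹ := by
      rw [h4, mul_inv_cancel_right]
    rw [h5]
    exact S.mul_mem (S.mul_mem (ht _) h1) (S.inv_mem (ht _))
  rw [eq_top_iff]
  intro g _
  rcases bruhat g with ⟨x, y, rfl⟩ | ⟨x, y, z, rfl⟩
  · exact S.mul_mem (hu x) (ht y)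
  · rw [← w_one_mul_t]
    exact S.mul_mem (S.mul_mem (hu x) (S.mul_mem h3 (ht y))) (hu z)

omit [Fintype K] hK in
/-- a matrix of determinant 1 -/
def sl (a b c d : K) (h : a * d - b * c = 1) : SpecialLinearGroup (Fin 2) K :=
  ⟨!![a, b; c, d], by rw [det_fin_two_of]; exact h⟩

omit [Fintype K] hK in
@[simp] theorem sl_coe (a b c d : K) (h : a * d - b * c = 1) :
    (sl a b c d h : Matrix (Fin 2) (Fin 2) K) = !![a, b; c, d] := rfl

/-- involutions: the Weyl element is conjugate to a unipotent one -/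
theorem w_conj : ∃ g : SpecialLinearGroup (Fin 2) K, w (1 : Kˣ) * g = g * u 1 := by
  have h2 := two_eq hK
  refine ⟨sl 1 0 1 1 (by ring), ?_⟩
  apply Subtype.ext
  ext i j
  fin_cases i <;> fin_cases j <;> simp <;> linear_combination (-1 : K) * h2

/-- elements of the big cell with split trace -/
theorem wu_conj {l : Kˣ} (hl : (l : K) + ((l⁻¹ : Kˣ) : K) ≠ 0) : ∃ g : SpecialLinearGroup (Fin 2) K,
    w (1 : Kˣ) * u ((l : K) + ((l⁻¹ : Kˣ) : K)) * g = g * t l := by
  have h2 := two_eq hK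
  have hli : ((l⁻¹ : Kˣ) : K) * l = 1 := by rw [← Units.val_mul, inv_mul_cancel, Units.val_one]
  set m : K := ((l⁻¹ : Kˣ) : K) with hm
  set y : K := ((l : K) + m)⁻¹ with hy
  have hxx : ((l : K) + m) * y = 1 := mul_inv_cancel₀ hl
  refine ⟨sl 1 y (l : K) (m * y) (by linear_combination hxx - (l : K) * y * h2), ?_⟩
  apply Subtype.ext
  ext i j
  fin_cases i <;> fin_cases j <;> simp [← hm]
  · linear_combination -(l : K) * h2
  · linear_combination (-m * y) * h2
  · linear_combination hli + h2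
  · linear_combination y * hli + y * h2

/-- an involution is conjugate to `u 1` -/
theorem invol_conj {g : SpecialLinearGroup (Fin 2) K} (hg : g * g = 1) (hg1 : g ≠ 1) :
    ∃ k : SpecialLinearGroup (Fin 2) K, g * k = k * u 1 := by
  have h2 := two_eq hK
  have hdet : g.1 0 0 * g.1 1 1 - g.1 0 1 * g.1 1 0 = 1 := by
    have := g.2
    rwa [Matrix.det_fin_two] at this
  have hm : (g.1 * g.1 : Matrix (Fin 2) (Fin 2) K) = 1 := congrArg Subtype.val hg
  have m00 : g.1 0 0 * g.1 0 0 + g.1 0 1 * g.1 1 0 = 1 := by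
    have := congrFun (congrFun hm 0) 0
    rwa [Matrix.mul_apply, Fin.sum_univ_two, Matrix.one_apply_eq] at this
  have m11 : g.1 1 0 * g.1 0 1 + g.1 1 1 * g.1 1 1 = 1 := by
    have := congrFun (congrFun hm 1) 1
    rwa [Matrix.mul_apply, Fin.sum_univ_two, Matrix.one_apply_eq] at this
  have m01 : g.1 0 0 * g.1 0 1 + g.1 0 1 * g.1 1 1 = 0 := by
    have := congrFun (congrFun hm 0) 1
    rwa [Matrix.mul_apply, Fin.sum_univ_two, Matrix.one_apply_ne (by decide)] at this
  -- the diagonal entries agree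
  have had : g.1 0 0 = g.1 1 1 := by
    by_contra hne
    have h3 : g.1 0 0 + g.1 1 1 ≠ 0 := by
      intro h
      apply hne
      linear_combination h - g.1 1 1 * h2
    have ha : g.1 0 0 = 0 := by
      have : g.1 0 0 * (g.1 0 0 + g.1 1 1) = 0 := by
        linear_combination m00 - hdet + (g.1 0 0 * g.1 1 1 - g.1 0 1 * g.1 1 0) * h2
      exact (mul_eq_zero.1 this).resolve_right h3
    have hb : g.1 0 1 = 0 := by
      have : g.1 0 1 * (g.1 0 0 + g.1 1 1) = 0 := by linear_combination m01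
      exact (mul_eq_zero.1 this).resolve_right h3
    rw [ha, hb] at hdet
    apply zero_ne_one (α := K)
    linear_combination hdet
  by_cases hc : g.1 1 0 = 0
  · have ha1 : g.1 0 0 = 1 := by
      rw [hc] at m00
      have : (g.1 0 0 - 1) * (g.1 0 0 - 1) = 0 := by linear_combination m00 + (1 - g.1 0 0) * h2
      rcases mul_eq_zero.1 this with h | h <;> linear_combination h
    have hgu : g = u (g.1 0 1) := by
      apply Subtype.ext
      change g.1 = _
      ext i j
      fin_cases i <;> fin_cases j <;> simp [hc, ha1, ← had]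
    have hb0 : g.1 0 1 ≠ 0 := by
      intro h
      rw [h, u_zero] at hgu
      exact hg1 hgu
    refine ⟨t ((Units.mk0 _ hb0) ^ 4), ?_⟩
    have h4 := t_mul_u ((Units.mk0 _ hb0) ^ 4) (1 : K)
    rw [← Units.val_pow_eq_pow_val, sq_sqrt hK, Units.val_mk0, mul_one] at h4
    rw [h4, ← hgu]
  · let c : Kˣ := Units.mk0 _ hc
    have hgu : g = u (g.1 0 0 / c) * w c * u (g.1 0 0 / c) := by
      apply Subtype.ext
      change g.1 = _
      have hcc : (c : K) = g.1 1 0 := rfl
      ext i j
      fin_cases i <;> fin_cases j <;> simp [hcc] <;> field_simp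
      · linear_combination -m00 + g.1 0 1 * g.1 1 0 * h2
      · linear_combination -had
    have hwc : w c = t ((c ^ 4)⁻¹) * w 1 * t (c ^ 4) := by
      rw [mul_assoc, w_one_mul_t]
      have hcs : ((c : K) ^ 4) ^ 2 = c := by
        have := congrArg Units.val (sq_sqrt hK c)
        simpa using this
      apply Subtype.ext
      ext i j
      fin_cases i <;> fin_cases j <;> simp
      · rw [← sq, inv_pow, _root_.inv_inj]
        exact hcs.symm
      · rw [← sq]
        exact hcs.symm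
    obtain ⟨k, hk⟩ := w_conj hK
    refine ⟨u (g.1 0 0 / c) * t ((c ^ 4)⁻¹) * k, ?_⟩
    have hti : t (c ^ 4) * t ((c ^ 4)⁻¹) = 1 := by rw [← t_mul, mul_inv_cancel, t_one]
    have hux := u_mul_self hK (g.1 0 0 / c)
    generalize u (g.1 0 0 / c) = ux at hgu hux ⊢
    calc g * (ux * t ((c ^ 4)⁻¹) * k) =
        ux * w c * (ux * ux) * t ((c ^ 4)⁻¹) * k := by
          rw [hgu]
          simp only [mul_assoc]
      _ = ux * t ((c ^ 4)⁻¹) * w 1 * (t (c ^ 4) * t ((c ^ 4)⁻¹)) * k := by
          rw [hux, mul_one, hwc]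
          simp only [mul_assoc]
      _ = ux * t ((c ^ 4)⁻¹) * (w 1 * k) := by
          rw [hti, mul_one]
          simp only [mul_assoc]
      _ = ux * t ((c ^ 4)⁻¹) * k * u 1 := by
          rw [hk]
          simp only [mul_assoc]

end field

end Cfsg.Agent.H856.Sw
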