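import Cfsg.Agent.H856.Sw1

/-!
# Weights of a regular elementary abelian group of order 8 in dimension 7

`exists_frame` : a basis of weight vectors, permuted cyclically by the element of order 7.
-/

set_option autoImplicit false
set_option linter.unusedSectionVars false

open scoped Pointwise

namespace Cfsg.Agent.H856.Sw

open Cfsg.Agent.H637.JW Cfsg.Agent.H856.Sv

variable {F : Type*} [Field F] {V : Type*} [AddCommGroup V] [Module F V]

/-- the relations of `2^3:7` -/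
structure Wt (e0 e1 e2 c : V ≃ₗ[F] V) : Prop where
  s0 : ∀ v, e0 (e0 v) = v
  s1 : ∀ v, e1 (e1 v) = v
  s2 : ∀ v, e2 (e2 v) = v
  c01 : ∀ v, e0 (e1 v) = e1 (e0 v)
  c02 : ∀ v, e0 (e2 v) = e2 (e0 v)
  c12 : ∀ v, e1 (e2 v) = e2 (e1 v)
  k0 : ∀ v, c (e0 v) = e1 (c v)
  k1 : ∀ v, c (e1 v) = e2 (c v)
  k2 : ∀ v, c (e2 v) = e0 (e1 (c v))
  c7 : ∀ v, c (c (c (c (c (c (c v)))))) = v
  ne : e0 ≠ 1

/-- sign tables -/
def sg : Fin 3 → Fin 7 → ℤ := ![![-1, -1, -1, 1, -1, 1, 1], ![1, -1, -1, -1, 1, -1, 1], ![1, 1, -1, -1, -1, 1, -1]]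

/-- the characters -/
def ch : Fin 7 → Fin 3 → ZMod 2 :=
  ![![1, 0, 0], ![1, 1, 0], ![1, 1, 1], ![0, 1, 1], ![1, 0, 1], ![0, 1, 0], ![0, 0, 1]]

theorem ch_inj : Function.Injective ch := by decide

namespace Wt

variable {e0 e1 e2 c : V ≃ₗ[F] V} (hw : Wt e0 e1 e2 c)

include hw

/-- one step -/
theorem step {x : V} {a b d : F} (h0 : e0 x = a • x) (h1 : e1 x = b • x) (h2 : e2 x = d • x) (ha : a * a = 1) :
    e0 (c x) = (a * d) • c x ∧ e1 (c x) = a • c x ∧ e2 (c x) = b • c x := by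
  have a' : e1 (c x) = a • c x := by rw [← hw.k0, h0, map_smul]
  have b' : e2 (c x) = b • c x := by rw [← hw.k1, h1, map_smul]
  have d' : e0 (e1 (c x)) = d • c x := by rw [← hw.k2, h2, map_smul]
  refine ⟨?_, a', b'⟩
  rw [a', map_smul] at d'
  rw [mul_smul, ← d', smul_smul, ha, one_smul]

/-- a vector with signs `-, +, +` -/
theorem exists_first (h2 : (2 : F) ≠ 0) : ∃ x : V, x ≠ 0 ∧ e0 x = (-1 : F) • x ∧ e1 x = (1 : F) • x ∧ e2 x = (1 : F) • x := by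
  have half : ∀ y z : V, y + z = 0 → y - z = 0 → y = 0 := by
    intro y z h h'
    have h3 : (2 : F) • y = 0 := by
      rw [show (2 : F) • y = (y + z) + (y - z) by module, h, h', add_zero]
    exact (smul_eq_zero.1 h3).resolve_left h2
  -- an eigenvector with `e0 = -1`
  obtain ⟨y, hy, hy0⟩ : ∃ y : V, y ≠ 0 ∧ e0 y = -y := by
    by_contra hno
    push Not at hno
    apply hw.ne
    apply LinearEquiv.ext
    intro v
    by_contra hne
    refine hno (e0 v - v) ?_ (by rw [map_sub, hw.s0, neg_sub])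
    intro h
    exact hne (sub_eq_zero.1 h)
  obtain ⟨z, b, hz, hb, hz0, hz1⟩ : ∃ (z : V) (b : F), z ≠ 0 ∧ (b = 1 ∨ b = -1) ∧ e0 z = -z ∧ e1 z = b • z := by
    by_cases h : y + e1 y = 0
    · refine ⟨y, -1, hy, Or.inr rfl, hy0, ?_⟩
      rw [neg_smul, one_smul, eq_neg_iff_add_eq_zero, add_comm]
      exact h
    · refine ⟨y + e1 y, 1, h, Or.inl rfl, ?_, ?_⟩
      · rw [map_add, hw.c01, hy0, map_neg]; abel
      · rw [map_add, hw.s1, one_smul, add_comm]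
  obtain ⟨x, d, hx, hd, hx0, hx1, hx2⟩ : ∃ (x : V) (d : F), x ≠ 0 ∧ (d = 1 ∨ d = -1) ∧ e0 x = -x ∧ e1 x = b • x ∧
      e2 x = d • x := by
    by_cases h : z + e2 z = 0
    · refine ⟨z, -1, hz, Or.inr rfl, hz0, hz1, ?_⟩
      rw [neg_smul, one_smul, eq_neg_iff_add_eq_zero, add_comm]
      exact h
    · refine ⟨z + e2 z, 1, h, Or.inl rfl, ?_, ?_, ?_⟩
      · rw [map_add, hw.c02, hz0, map_neg]; abel
      · rw [map_add, hw.c12, hz1, map_smul, smul_add]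
      · rw [map_add, hw.s2, one_smul, add_comm]
  have n0 : e0 x = (-1 : F) • x := by rw [hx0, neg_smul, one_smul]
  have cne : ∀ y : V, y ≠ 0 → c y ≠ 0 := fun y hy h => hy (c.injective (by rw [h, map_zero]))
  have st : ∀ {x : V} {a b d : F}, e0 x = a • x → e1 x = b • x → e2 x = d • x → (a = 1 ∨ a = -1) →
    e0 (c x) = (a * d) • c x ∧ e1 (c x) = a • c x ∧ e2 (c x) = b • c x := fun h0 h1 h2 ha =>
      hw.step h0 h1 h2 (by rcases ha with rfl | rfl <;> norm_num)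
  -- one turn around the circle
  have f7 : ∀ y : V, y ≠ 0 → e0 y = (1 : F) • y → e1 y = (1 : F) • y → e2 y = (-1 : F) • y →
      ∃ x : V, x ≠ 0 ∧ e0 x = (-1 : F) • x ∧ e1 x = (1 : F) • x ∧ e2 x = (1 : F) • x := by
    intro y hy h0 h1 h2
    obtain ⟨g0, g1, g2⟩ := st h0 h1 h2 (Or.inl rfl)
    exact ⟨c y, cne y hy, by rw [g0, one_mul], g1, g2⟩
  have f6 : ∀ y : V, y ≠ 0 → e0 y = (1 : F) • y → e1 y = (-1 : F) • y → e2 y = (1 : F) • y →
      ∃ x : V, x ≠ 0 ∧ e0 x = (-1 : F) • x ∧ e1 x = (1 : F) • x ∧ e2 x = (1 : F) • x := by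
    intro y hy h0 h1 h2
    obtain ⟨g0, g1, g2⟩ := st h0 h1 h2 (Or.inl rfl)
    exact f7 (c y) (cne y hy) (by rw [g0, one_mul]) g1 g2
  have f5 : ∀ y : V, y ≠ 0 → e0 y = (-1 : F) • y → e1 y = (1 : F) • y → e2 y = (-1 : F) • y →
      ∃ x : V, x ≠ 0 ∧ e0 x = (-1 : F) • x ∧ e1 x = (1 : F) • x ∧ e2 x = (1 : F) • x := by
    intro y hy h0 h1 h2
    obtain ⟨g0, g1, g2⟩ := st h0 h1 h2 (Or.inr rfl)
    exact f6 (c y) (cne y hy) (by rw [g0]; norm_num) g1 g2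
  have f4 : ∀ y : V, y ≠ 0 → e0 y = (1 : F) • y → e1 y = (-1 : F) • y → e2 y = (-1 : F) • y →
      ∃ x : V, x ≠ 0 ∧ e0 x = (-1 : F) • x ∧ e1 x = (1 : F) • x ∧ e2 x = (1 : F) • x := by
    intro y hy h0 h1 h2
    obtain ⟨g0, g1, g2⟩ := st h0 h1 h2 (Or.inl rfl)
    exact f5 (c y) (cne y hy) (by rw [g0]; norm_num) g1 g2
  have f3 : ∀ y : V, y ≠ 0 → e0 y = (-1 : F) • y → e1 y = (-1 : F) • y → e2 y = (-1 : F) • y →
      ∃ x : V, x ≠ 0 ∧ e0 x = (-1 : F) • x ∧ e1 x = (1 : F) • x ∧ e2 x = (1 : F) • x := by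
    intro y hy h0 h1 h2
    obtain ⟨g0, g1, g2⟩ := st h0 h1 h2 (Or.inr rfl)
    exact f4 (c y) (cne y hy) (by rw [g0]; norm_num) g1 g2
  have f2 : ∀ y : V, y ≠ 0 → e0 y = (-1 : F) • y → e1 y = (-1 : F) • y → e2 y = (1 : F) • y →
      ∃ x : V, x ≠ 0 ∧ e0 x = (-1 : F) • x ∧ e1 x = (1 : F) • x ∧ e2 x = (1 : F) • x := by
    intro y hy h0 h1 h2
    obtain ⟨g0, g1, g2⟩ := st h0 h1 h2 (Or.inr rfl)
    exact f3 (c y) (cne y hy) (by rw [g0]; norm_num) g1 g2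
  rcases hb with rfl | rfl <;> rcases hd with rfl | rfl
  · exact ⟨x, hx, n0, hx1, hx2⟩
  · exact f5 x hx n0 hx1 hx2
  · exact f2 x hx n0 hx1 hx2
  · exact f3 x hx n0 hx1 hx2

/-- **the frame** -/
theorem exists_frame (h2 : (2 : F) ≠ 0) : ∃ v : Fin 7 → V, (∀ i, v i ≠ 0) ∧
    (∀ i, e0 (v i) = ((sg 0 i : ℤ) : F) • v i) ∧ (∀ i, e1 (v i) = ((sg 1 i : ℤ) : F) • v i) ∧
    (∀ i, e2 (v i) = ((sg 2 i : ℤ) : F) • v i) ∧ ∀ i, c (v i) = v (i + 1) := by
  obtain ⟨x, hx, h0, h1, h2'⟩ := hw.exists_first h2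
  have cne : ∀ y : V, y ≠ 0 → c y ≠ 0 := fun y hy h => hy (c.injective (by rw [h, map_zero]))
  have st : ∀ {x : V} {a b d : F}, e0 x = a • x → e1 x = b • x → e2 x = d • x → (a = 1 ∨ a = -1) →
    e0 (c x) = (a * d) • c x ∧ e1 (c x) = a • c x ∧ e2 (c x) = b • c x := fun h0 h1 h2 ha =>
      hw.step h0 h1 h2 (by rcases ha with rfl | rfl <;> norm_num)
  obtain ⟨a0, a1, a2⟩ := st h0 h1 h2' (Or.inr rfl)
  obtain ⟨b0, b1, b2⟩ := st a0 a1 a2 (by norm_num)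
  obtain ⟨d0, d1, d2⟩ := st b0 b1 b2 (by norm_num)
  obtain ⟨g0, g1, g2⟩ := st d0 d1 d2 (by norm_num)
  obtain ⟨k0, k1, k2⟩ := st g0 g1 g2 (by norm_num)
  obtain ⟨l0, l1, l2⟩ := st k0 k1 k2 (by norm_num)
  refine ⟨![x, c x, c (c x), c (c (c x)), c (c (c (c x))), c (c (c (c (c x)))), c (c (c (c (c (c x)))))], ?_, ?_, ?_,
    ?_, ?_⟩
  · intro i
    fin_cases i
    · exact hx
    · exact cne _ hx
    · exact cne _ (cne _ hx)
    · exact cne _ (cne _ (cne _ hx))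
    · exact cne _ (cne _ (cne _ (cne _ hx)))
    · exact cne _ (cne _ (cne _ (cne _ (cne _ hx))))
    · exact cne _ (cne _ (cne _ (cne _ (cne _ (cne _ hx)))))
  · intro i
    fin_cases i
    · refine h0.trans ?_; simp [sg]
    · refine a0.trans ?_; simp [sg]
    · refine b0.trans ?_; simp [sg]
    · refine d0.trans ?_; simp [sg]
    · refine g0.trans ?_; simp [sg]
    · refine k0.trans ?_; simp [sg]
    · refine l0.trans ?_; simp [sg]
  · intro i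
    fin_cases i
    · refine h1.trans ?_; simp [sg]
    · refine a1.trans ?_; simp [sg]
    · refine b1.trans ?_; simp [sg]
    · refine d1.trans ?_; simp [sg]
    · refine g1.trans ?_; simp [sg]
    · refine k1.trans ?_; simp [sg]
    · refine l1.trans ?_; simp [sg]
  · intro i
    fin_cases i
    · refine h2'.trans ?_; simp [sg]
    · refine a2.trans ?_; simp [sg]
    · refine b2.trans ?_; simp [sg]
    · refine d2.trans ?_; simp [sg]
    · refine g2.trans ?_; simp [sg]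
    · refine k2.trans ?_; simp [sg]
    · refine l2.trans ?_; simp [sg]
  · intro i
    fin_cases i
    · rfl
    · rfl
    · rfl
    · rfl
    · rfl
    · rfl
    · exact hw.c7 x

end Wt

end Cfsg.Agent.H856.Sw
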