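import Cfsg.Agent.H856.Sw2

/-!
# `SL₂(8)` in dimension 7: the coefficients of the Weyl element
-/

set_option autoImplicit false
set_option linter.unusedSectionVars false

open scoped Pointwise

namespace Cfsg.Agent.H856.Sw

open Cfsg.Agent.H637.JW Cfsg.Agent.H856.Sv

variable {F : Type*} [Field F] {V : Type*} [AddCommGroup V] [Module F V]

/-- a frame of weight vectors -/
structure Frame (e0 e1 e2 c : V ≃ₗ[F] V) (v : Fin 7 → V) : Prop where
  ne : ∀ i, v i ≠ 0
  h0 : ∀ i, e0 (v i) = ((sg 0 i : ℤ) : F) • v i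
  h1 : ∀ i, e1 (v i) = ((sg 1 i : ℤ) : F) • v i
  h2 : ∀ i, e2 (v i) = ((sg 2 i : ℤ) : F) • v i
  hc : ∀ i, c (v i) = v (i + 1)

theorem Wt.frame {e0 e1 e2 c : V ≃ₗ[F] V} (hw : Wt e0 e1 e2 c) (h2 : (2 : F) ≠ 0) : ∃ v, Frame e0 e1 e2 c v := by
  obtain ⟨v, a, b, d, e, f⟩ := hw.exists_frame h2
  exact ⟨v, a, b, d, e, f⟩

namespace Frame

variable {e0 e1 e2 c : V ≃ₗ[F] V} {v : Fin 7 → V} (hv : Frame e0 e1 e2 c v)

include hv

theorem li (hw : Wt e0 e1 e2 c) (h2 : (2 : F) ≠ 0) [FiniteDimensional F V] : LinearIndependent F v := by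
  let f : Fin 3 → Module.End F V := ![(e0 : V →ₗ[F] V), (e1 : V →ₗ[F] V), (e2 : V →ₗ[F] V)]
  have hfc : ∀ j k, f j * f k = f k * f j := by
    intro j k
    fin_cases j <;> fin_cases k
    · rfl
    · exact LinearMap.ext hw.c01
    · exact LinearMap.ext hw.c02
    · exact LinearMap.ext fun v => (hw.c01 v).symm
    · rfl
    · exact LinearMap.ext hw.c12
    · exact LinearMap.ext fun v => (hw.c02 v).symm
    · exact LinearMap.ext fun v => (hw.c12 v).symm
    · rfl
  have hf2 : ∀ k, f k ^ 2 = 1 := by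
    intro k
    rw [pow_two]
    fin_cases k
    · exact LinearMap.ext hw.s0
    · exact LinearMap.ext hw.s1
    · exact LinearMap.ext hw.s2
  have hind := indep_W (K := F) (by exact_mod_cast h2) (prim_neg_one h2) hfc hf2
  have hind' : iSupIndep (fun i => W 2 (-1 : F) f (ch i)) := hind.comp ch_inj
  refine hind'.linearIndependent _ (fun i => ?_) hv.ne
  rw [mem_W]
  have key : ∀ (k : Fin 3) (i : Fin 7), (-1 : ℤ) ^ (ch i k).val = sg k i := by decide
  have key' : ∀ (k : Fin 3) (i : Fin 7), (-1 : F) ^ (ch i k).val = ((sg k i : ℤ) : F) := by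
    intro k i
    rw [← key]
    push_cast
    rfl
  intro k
  fin_cases k
  · exact (hv.h0 i).trans (by rw [← key']; rfl)
  · exact (hv.h1 i).trans (by rw [← key']; rfl)
  · exact (hv.h2 i).trans (by rw [← key']; rfl)

/-- the basis -/
noncomputable def basis (hw : Wt e0 e1 e2 c) (h2 : (2 : F) ≠ 0) (h7 : Module.finrank F V = 7) : Module.Basis (Fin 7) F V :=
  haveI : FiniteDimensional F V := Module.finite_of_finrank_pos (by rw [h7]; norm_num)
  basisOfLinearIndependentOfCardEqFinrank (hv.li hw h2) (by rw [Fintype.card_fin, h7])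

theorem basis_apply (hw : Wt e0 e1 e2 c) (h2 : (2 : F) ≠ 0) (h7 : Module.finrank F V = 7) (j : Fin 7) :
    hv.basis hw h2 h7 j = v j := by
  simp [basis]

end Frame

/-- the relations of `SL₂(8)` with the Weyl element, and the traces -/
structure Oc (e0 e1 e2 c w : V ≃ₗ[F] V) : Prop extends Wt e0 e1 e2 c where
  ww : ∀ v, w (w v) = v
  wc : ∀ v, c (w (c v)) = w v
  br : ∀ v, w (e0 (w v)) = e0 (w (e0 v))
  t0 : LinearMap.trace F V (w : V →ₗ[F] V) = LinearMap.trace F V (e0 : V →ₗ[F] V)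
  t1 : LinearMap.trace F V ((w * (e0 * e1) : V ≃ₗ[F] V) : V →ₗ[F] V) = 0
  t2 : LinearMap.trace F V ((w * (e0 * e2) : V ≃ₗ[F] V) : V →ₗ[F] V) = 0
  t3 : LinearMap.trace F V ((w * (e0 * (e1 * e2)) : V ≃ₗ[F] V) : V →ₗ[F] V) = 0

namespace Oc

variable {e0 e1 e2 c w : V ≃ₗ[F] V} {v : Fin 7 → V} (ho : Oc e0 e1 e2 c w) (hv : Frame e0 e1 e2 c v)

include ho hv

theorem w_apply {a : Fin 7 → F} (ha : w (v 0) = ∑ j, a j • v j) (i : Fin 7) : w (v i) = ∑ k, a (k + i) • v k := by
  have key : ∀ i, w (v i) = ∑ k, a (k + i) • v k → w (v (i + 1)) = ∑ k, a (k + (i + 1)) • v k := by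
    intro i hi
    have h1 := ho.wc (v i)
    rw [hv.hc] at h1
    apply c.injective
    rw [h1, hi, map_sum]
    simp only [map_smul, hv.hc]
    rw [← Equiv.sum_comp (Equiv.addRight (1 : Fin 7)) (fun k => a (k + i) • v k)]
    refine Finset.sum_congr rfl fun k _ => ?_
    rw [Equiv.coe_addRight, add_right_comm, add_assoc]
  have z : w (v 0) = ∑ k, a (k + 0) • v k := by simpa using ha
  have z1 := key 0 z
  have z2 := key 1 z1
  have z3 := key 2 z2
  have z4 := key 3 z3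
  have z5 := key 4 z4
  have z6 := key 5 z5
  fin_cases i
  · exact z
  · exact z1
  · exact z2
  · exact z3
  · exact z4
  · exact z5
  · exact z6

/-- the braid relation on coefficients -/
theorem braid (h2 : (2 : F) ≠ 0) (h7 : Module.finrank F V = 7) {a : Fin 7 → F} (ha : w (v 0) = ∑ j, a j • v j)
    (i m : Fin 7) : ∑ k, ((sg 0 k : ℤ) : F) * a (k + i) * a (m + k) = ((sg 0 i : ℤ) : F) * ((sg 0 m : ℤ) : F) * a (m + i) := by
  have hw := ho.w_apply hv ha
  have h1 := ho.br (v i)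
  have hL : w (e0 (w (v i))) = ∑ m, (∑ k, ((sg 0 k : ℤ) : F) * a (k + i) * a (m + k)) • v m := by
    rw [hw, map_sum, map_sum]
    simp only [map_smul, hv.h0, hw, Finset.smul_sum, Finset.sum_smul, smul_smul]
    rw [Finset.sum_comm]
    refine Finset.sum_congr rfl fun m _ => Finset.sum_congr rfl fun k _ => ?_
    congr 1
    ring
  have hR : e0 (w (e0 (v i))) = ∑ m, (((sg 0 i : ℤ) : F) * ((sg 0 m : ℤ) : F) * a (m + i)) • v m := by
    rw [hv.h0, map_smul, hw, map_smul, map_sum, Finset.smul_sum]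
    refine Finset.sum_congr rfl fun m _ => ?_
    rw [map_smul, hv.h0, smul_smul, smul_smul]
    congr 1
    ring
  rw [hL, hR, ← sub_eq_zero, ← Finset.sum_sub_distrib] at h1
  simp only [← sub_smul] at h1
  have hfin : FiniteDimensional F V := Module.finite_of_finrank_pos (by rw [h7]; norm_num)
  have h3 := Fintype.linearIndependent_iff.1 (hv.li ho.toWt h2) _ h1 m
  exact sub_eq_zero.1 h3

/-- traces of products with diagonal elements -/
theorem trace_diag (h2 : (2 : F) ≠ 0) (h7 : Module.finrank F V = 7) {a : Fin 7 → F} (ha : w (v 0) = ∑ j, a j • v j)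
    {d : V ≃ₗ[F] V} {s : Fin 7 → F} (hd : ∀ i, d (v i) = s i • v i) :
    LinearMap.trace F V ((w * d : V ≃ₗ[F] V) : V →ₗ[F] V) = ∑ i, s i * a (i + i) := by
  have hw := ho.w_apply hv ha
  rw [LinearMap.trace_eq_matrix_trace F (hv.basis ho.toWt h2 h7), Matrix.trace]
  refine Finset.sum_congr rfl fun i _ => ?_
  rw [Matrix.diag_apply, LinearMap.toMatrix_apply, hv.basis_apply]
  have h1 : ((w * d : V ≃ₗ[F] V) : V →ₗ[F] V) (v i) = ∑ k, (s i * a (k + i)) • hv.basis ho.toWt h2 h7 k := by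
    show w (d (v i)) = _
    rw [hd, map_smul, hw, Finset.smul_sum]
    refine Finset.sum_congr rfl fun k _ => ?_
    rw [smul_smul, hv.basis_apply]
  rw [h1, map_sum]
  simp [Finsupp.single_apply]

omit ho in
theorem trace_e0 (hw : Wt e0 e1 e2 c) (h2 : (2 : F) ≠ 0) (h7 : Module.finrank F V = 7) :
    LinearMap.trace F V (e0 : V →ₗ[F] V) = -1 := by
  rw [LinearMap.trace_eq_matrix_trace F (hv.basis hw h2 h7), Matrix.trace]
  have key : ∀ i, (LinearMap.toMatrix (hv.basis hw h2 h7) (hv.basis hw h2 h7) (e0 : V →ₗ[F] V)).diag i =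
      ((sg 0 i : ℤ) : F) := by
    intro i
    rw [Matrix.diag_apply, LinearMap.toMatrix_apply, hv.basis_apply]
    have h1 : (e0 : V →ₗ[F] V) (v i) = ((sg 0 i : ℤ) : F) • hv.basis hw h2 h7 i := by
      rw [hv.basis_apply]
      exact hv.h0 i
    rw [h1, map_smul]
    simp
  rw [Finset.sum_congr rfl fun i _ => key i, Fin.sum_univ_seven]
  simp [sg]

/-- **the solution** -/
theorem solve (h2 : (2 : F) ≠ 0) (h7 : Module.finrank F V = 7) {a : Fin 7 → F} (ha : w (v 0) = ∑ j, a j • v j) :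
    LinearMap.trace F V ((w * e0 : V ≃ₗ[F] V) : V →ₗ[F] V) = 1 ∨
    (a 0 = (2 : F)⁻¹ ∧ a 1 = 0 ∧ a 2 = 0 ∧ a 3 = -(2 : F)⁻¹ ∧ a 4 = 0 ∧ a 5 = -(2 : F)⁻¹ ∧ a 6 = -(2 : F)⁻¹) := by
  have hi : (2 : F) * (2 : F)⁻¹ = 1 := mul_inv_cancel₀ h2
  set i : F := (2 : F)⁻¹ with hidef
  have hid : ∀ j, (1 : V ≃ₗ[F] V) (v j) = (1 : F) • v j := fun j => by rw [one_smul]; rfl
  have l0 := ho.trace_diag hv h2 h7 ha hid
  have hw1 : ((w * 1 : V ≃ₗ[F] V) : V →ₗ[F] V) = (w : V →ₗ[F] V) := by rw [mul_one]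
  rw [hw1, ho.t0, trace_e0 hv ho.toWt h2 h7] at l0
  have l1 := ho.trace_diag hv h2 h7 ha (d := e0 * e1) (s := fun j => ((sg 0 j * sg 1 j : ℤ) : F)) (fun j => by
    show e0 (e1 (v j)) = _
    rw [hv.h1, map_smul, hv.h0, smul_smul]
    push_cast
    rw [mul_comm])
  rw [ho.t1] at l1
  have l2 := ho.trace_diag hv h2 h7 ha (d := e0 * e2) (s := fun j => ((sg 0 j * sg 2 j : ℤ) : F)) (fun j => by
    show e0 (e2 (v j)) = _
    rw [hv.h2, map_smul, hv.h0, smul_smul]
    push_cast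
    rw [mul_comm])
  rw [ho.t2] at l2
  have l3 := ho.trace_diag hv h2 h7 ha (d := e0 * (e1 * e2)) (s := fun j => ((sg 0 j * (sg 1 j * sg 2 j) : ℤ) : F))
    (fun j => by
      show e0 (e1 (e2 (v j))) = _
      rw [hv.h2, map_smul, hv.h1, smul_smul, map_smul, hv.h0, smul_smul]
      push_cast
      congr 1
      ring)
  rw [ho.t3] at l3
  have ls := ho.trace_diag hv h2 h7 ha (d := e0) (s := fun j => ((sg 0 j : ℤ) : F)) (fun j => hv.h0 j)
  generalize LinearMap.trace F V ((w * e0 : V ≃ₗ[F] V) : V →ₗ[F] V) = tr at ls ⊢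
  have e11 := ho.braid hv h2 h7 ha 1 1
  have e12 := ho.braid hv h2 h7 ha 1 2
  have e14 := ho.braid hv h2 h7 ha 1 4
  simp [sg, Fin.sum_univ_seven] at l0 l1 l2 l3 ls e11 e12 e14
  have two : ∀ x y : F, 2 * x = 2 * y → x = y := fun x y h => mul_left_cancel₀ h2 h
  have a3 : a 3 = a 2 - a 0 := by
    apply two
    linear_combination l1 + l3
  have a5 : a 5 = a 1 - a 0 := by
    apply two
    linear_combination l2 + l3
  have a6' : a 4 = a 0 + a 6 := by
    apply two
    linear_combination -l1 - l2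
  have a4 : a 4 = a 0 - a 1 - a 2 - i := by
    apply two
    linear_combination -l0 - l1 + 2 * a5 * (-1) + hi
  have a6 : a 6 = -a 1 - a 2 - i := by linear_combination a4 - a6'
  rw [a3, a4, a5, a6] at e11 e12 e14 ls
  generalize a 0 = x at *
  generalize a 1 = y at *
  generalize a 2 = z at *
  have r12 : z * (4 * x + 1) = 0 := by linear_combination (-2 : F) * e12 + (-2 * x + z) * hi
  have r14 : y * (4 * x + 1) = 0 := by linear_combination (-2 : F) * e14 + (-2 * x + y) * hi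
  have r11 : 8 * y * z + 4 * y + 2 * z - 2 * x + 1 = 0 := by
    linear_combination (2 : F) * e11 + (2 * x - 4 * y - 4 * z - 2 * i - 1) * hi
  by_cases hs : 4 * x + 1 = 0
  · left
    rw [ls]
    linear_combination -hs
  · right
    have hz : z = 0 := (mul_eq_zero.1 r12).resolve_right hs
    have hy : y = 0 := (mul_eq_zero.1 r14).resolve_right hs
    rw [hz, hy] at r11
    have hx : x = i := by
      apply two
      linear_combination -r11 - hi
    refine ⟨hx, hy, hz, ?_, ?_, ?_, ?_⟩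
    · rw [a3, hz, hx]; ring
    · rw [a4, hz, hy, hx]; ring
    · rw [a5, hy, hx]; ring
    · rw [a6, hy, hz]; ring

end Oc

end Cfsg.Agent.H856.Sw
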