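import Cfsg.Agent.H856.Sw3

/-!
# `SL₂(8)` in dimension 7: the relations hold
-/

set_option autoImplicit false
set_option linter.unusedSectionVars false

open scoped Pointwise

namespace Cfsg.Agent.H856.Sw

open Matrix Cfsg.Agent.H464.Sl2 Cfsg.Agent.H856.Sv

variable {F : Type*} [Field F] {V : Type*} [AddCommGroup V] [Module F V]

/-- a shift of the frame has trace 0 -/
theorem Frame.trace_shift {e0 e1 e2 c : V ≃ₗ[F] V} {v : Fin 7 → V} (hv : Frame e0 e1 e2 c v) (hw : Wt e0 e1 e2 c)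
    (h2 : (2 : F) ≠ 0) (h7 : Module.finrank F V = 7) {d : V ≃ₗ[F] V} {k : Fin 7} (hk : k ≠ 0)
    (hd : ∀ i, d (v i) = v (i + k)) : LinearMap.trace F V (d : V →ₗ[F] V) = 0 := by
  rw [LinearMap.trace_eq_matrix_trace F (hv.basis hw h2 h7), Matrix.trace]
  refine Finset.sum_eq_zero fun i _ => ?_
  rw [Matrix.diag_apply, LinearMap.toMatrix_apply, hv.basis_apply]
  have h1 : (d : V →ₗ[F] V) (v i) = hv.basis hw h2 h7 (i + k) := by
    rw [hv.basis_apply]
    exact hd i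
  rw [h1, Module.Basis.repr_self, Finsupp.single_apply, if_neg]
  intro h
  apply hk
  have h3 : i + k = i + 0 := by rw [h, add_zero]
  exact add_left_cancel h3

/-- conjugate elements have the same trace -/
theorem trace_conj' {a b k : V ≃ₗ[F] V} (h : a * k = k * b) :
    LinearMap.trace F V (a : V →ₗ[F] V) = LinearMap.trace F V (b : V →ₗ[F] V) := by
  have h1 : a = k * b * k⁻¹ := by rw [← h, mul_inv_cancel_right]
  rw [h1]
  have h3 : ((k * b * k⁻¹ : V ≃ₗ[F] V) : V →ₗ[F] V) = k.toLinearMap * (b : V →ₗ[F] V) * (k⁻¹ : V ≃ₗ[F] V).toLinearMap := rfl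
  rw [h3, LinearMap.trace_mul_comm, ← mul_assoc]
  have h4 : (k⁻¹ : V ≃ₗ[F] V).toLinearMap * k.toLinearMap = 1 := by
    show ((k⁻¹ * k : V ≃ₗ[F] V) : V →ₗ[F] V) = 1
    rw [inv_mul_cancel]
    rfl
  rw [h4, one_mul]

section oct

variable {K : Type*} [Field K] [Fintype K] (hK : Fintype.card K = 8) {b : Kˣ} (hb : (b : K) ^ 3 = b + 1)

include hK hb

theorem b_inv : ((b⁻¹ : Kˣ) : K) = (b : K) ^ 2 + 1 := by
  have h2 := two_eq hK
  have h1 : (b : K) * ((b⁻¹ : Kˣ) : K) = 1 := by rw [← Units.val_mul, mul_inv_cancel, Units.val_one]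
  have h3 : (b : K) * ((b : K) ^ 2 + 1) = 1 := by linear_combination hb + (b : K) * h2
  exact mul_left_cancel₀ b.ne_zero (h1.trans h3.symm)

theorem b_four : ((b ^ 4 : Kˣ) : K) = (b : K) ^ 2 + b := by
  rw [Units.val_pow_eq_pow_val]
  linear_combination (b : K) * hb

theorem b_ne_one : b ^ 4 ≠ 1 := by
  intro h
  have h7 := pow_seven hK b
  have h1 : b = 1 := by
    have h3 : b ^ 8 = b := by rw [show 8 = 7 + 1 by norm_num, pow_add, h7, one_mul, pow_one]
    rw [← h3, show 8 = 4 * 2 by norm_num, pow_mul, h, one_pow]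
  rw [h1, Units.val_one] at hb
  have h4 : (1 : K) = 0 := by linear_combination -hb
  exact one_ne_zero h4

variable (ρ : SpecialLinearGroup (Fin 2) K →* (V ≃ₗ[F] V)) (hρ : Function.Injective ρ)

include hρ

theorem wt_of : Wt (ρ (u 1)) (ρ (u (b : K))) (ρ (u ((b : K) * b))) (ρ (t (b ^ 4))) := by
  have h2 := two_eq hK
  have ap : ∀ {g h : SpecialLinearGroup (Fin 2) K}, g = h → ∀ v, ρ g v = ρ h v := fun h v => by rw [h]
  have hsq : ((b ^ 4 : Kˣ) : K) ^ 2 = b := by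
    have := congrArg Units.val (sq_sqrt hK b)
    simpa using this
  have mm : ∀ (g h : SpecialLinearGroup (Fin 2) K) v, ρ g (ρ h v) = ρ (g * h) v := fun g h v => by
    rw [map_mul]; rfl
  refine ⟨fun v => ?_, fun v => ?_, fun v => ?_, fun v => ?_, fun v => ?_, fun v => ?_, fun v => ?_, fun v => ?_,
    fun v => ?_, fun v => ?_, ?_⟩
  · rw [mm, u_mul_self hK, map_one]; rfl
  · rw [mm, u_mul_self hK, map_one]; rfl
  · rw [mm, u_mul_self hK, map_one]; rfl
  · rw [mm, mm, ← u_add, ← u_add, add_comm]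
  · rw [mm, mm, ← u_add, ← u_add, add_comm]
  · rw [mm, mm, ← u_add, ← u_add, add_comm]
  · rw [mm, mm, t_mul_u, hsq, mul_one]
  · rw [mm, mm, t_mul_u, hsq]
  · rw [mm, mm, mm, t_mul_u, hsq, ← u_add]
    have h3 : (b : K) * (b * b) = 1 + b := by linear_combination hb
    rw [h3]
  · rw [mm, mm, mm, mm, mm, mm]
    have h3 : t (b ^ 4) * t (b ^ 4) * t (b ^ 4) * t (b ^ 4) * t (b ^ 4) * t (b ^ 4) * t (b ^ 4) = t ((b ^ 4) ^ 7) := by
      rw [← t_mul, ← t_mul, ← t_mul, ← t_mul, ← t_mul, ← t_mul]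
      congr 1
      generalize b ^ 4 = y
      simp only [pow_succ, pow_zero, one_mul]
    rw [h3, pow_seven hK, t_one, map_one]
    rfl
  · intro h
    have h3 : u (1 : K) = 1 := hρ (by rw [h, map_one])
    have h4 := congrArg (fun g : SpecialLinearGroup (Fin 2) K => g.1 0 1) h3
    simp [u] at h4

/-- the torus elements `t b`, `t b²`, `t b⁴` have trace 0 -/
theorem trace_t (h2 : (2 : F) ≠ 0) (h7 : Module.finrank F V = 7) :
    LinearMap.trace F V (ρ (t b) : V →ₗ[F] V) = 0 ∧ LinearMap.trace F V (ρ (t (b ^ 2)) : V →ₗ[F] V) = 0 ∧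
    LinearMap.trace F V (ρ (t (b ^ 4)) : V →ₗ[F] V) = 0 := by
  have hw := wt_of hK hb ρ hρ
  obtain ⟨v, hv⟩ := hw.frame h2
  have mm : ∀ (g h : SpecialLinearGroup (Fin 2) K) v, ρ (g * h) v = ρ g (ρ h v) := fun g h v => by
    rw [map_mul]; rfl
  have e1 : t b = t (b ^ 4) * t (b ^ 4) := by
    rw [← t_mul, ← pow_add, show 4 + 4 = 7 + 1 by norm_num, pow_add, pow_seven hK, one_mul, pow_one]
  have e2 : t (b ^ 2) = t b * t b := by rw [← t_mul, pow_two]
  have s4 : ∀ i, ρ (t (b ^ 4)) (v i) = v (i + 1) := hv.hc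
  have s1 : ∀ i, ρ (t b) (v i) = v (i + 2) := by
    intro i
    rw [e1, mm, s4, s4, add_assoc]
    rfl
  have s2 : ∀ i, ρ (t (b ^ 2)) (v i) = v (i + 4) := by
    intro i
    rw [e2, mm, s1, s1, add_assoc]
    rfl
  exact ⟨hv.trace_shift hw h2 h7 (by decide) s1, hv.trace_shift hw h2 h7 (by decide) s2,
    hv.trace_shift hw h2 h7 (by decide) s4⟩

theorem oc_of (h2 : (2 : F) ≠ 0) (h7 : Module.finrank F V = 7) :
    Oc (ρ (u 1)) (ρ (u (b : K))) (ρ (u ((b : K) * b))) (ρ (t (b ^ 4))) (ρ (w 1)) := by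
  have hK2 := two_eq hK
  obtain ⟨T1, T2, T4⟩ := trace_t hK hb ρ hρ h2 h7
  have mm : ∀ (g h : SpecialLinearGroup (Fin 2) K) v, ρ g (ρ h v) = ρ (g * h) v := fun g h v => by
    rw [map_mul]; rfl
  have hbi := b_inv hK hb
  have hneg : (-1 : Kˣ) = 1 := by
    apply Units.ext
    rw [Units.val_neg, Units.val_one]
    exact neg_eq' hK 1
  -- traces in the big cell
  have key : ∀ (l : Kˣ) (x : K), (l : K) + ((l⁻¹ : Kˣ) : K) = x → x ≠ 0 →
      LinearMap.trace F V (ρ (t l) : V →ₗ[F] V) = 0 →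
      LinearMap.trace F V ((ρ (w 1) * ρ (u x) : V ≃ₗ[F] V) : V →ₗ[F] V) = 0 := by
    intro l x hx hx0 hT
    obtain ⟨g, hg⟩ := wu_conj hK (l := l) (by rw [hx]; exact hx0)
    rw [hx] at hg
    rw [← hT]
    apply trace_conj' (k := ρ g)
    rw [← map_mul, ← map_mul, hg, map_mul]
  refine ⟨wt_of hK hb ρ hρ, fun v => ?_, fun v => ?_, fun v => ?_, ?_, ?_, ?_, ?_⟩
  · rw [mm, w_mul_w, div_one, hneg, t_one, map_one]; rfl
  · rw [mm, mm]
    congr 2
    apply Subtype.ext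
    ext i j
    fin_cases i <;> fin_cases j <;> simp
  · rw [mm, mm, mm, mm]
    congr 2
    have h3 := w_u_w (1 : Kˣ) 1 1
    rw [Units.val_one] at h3
    rw [h3]
    have h4 : (-((1 ^ 2 * 1)⁻¹ : Kˣ) : K) = 1 := by
      simp [neg_eq' hK]
    rw [h4]
    simp
  · obtain ⟨g, hg⟩ := w_conj hK
    apply trace_conj' (k := ρ g)
    rw [← map_mul, hg, map_mul]
  · have h3 : ρ (u (1 : K)) * ρ (u (b : K)) = ρ (u (1 + b)) := by rw [← map_mul, ← u_add]
    rw [h3]
    refine key (b ^ 2) _ ?_ ?_ T2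
    · rw [← inv_pow, Units.val_pow_eq_pow_val, Units.val_pow_eq_pow_val, hbi]
      linear_combination ((b : K)) * hb + (2 * (b : K) ^ 2) * hK2
    · intro h
      have : (b : K) ^ 3 = 0 := by rw [hb, ← h, add_comm]
      exact b.ne_zero (pow_eq_zero_iff (by norm_num) |>.1 this)
  · have h3 : ρ (u (1 : K)) * ρ (u ((b : K) * b)) = ρ (u (1 + b * b)) := by rw [← map_mul, ← u_add]
    rw [h3]
    refine key (b ^ 4) _ ?_ ?_ T4
    · rw [← inv_pow, Units.val_pow_eq_pow_val, Units.val_pow_eq_pow_val, hbi]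
      linear_combination ((b : K) ^ 5 + 5 * (b : K) ^ 3 + (b : K) ^ 2 + 12 * b + 6) * hb +
        (8 * (b : K) ^ 2 + 9 * b + 3) * hK2
    · intro h
      apply (b⁻¹).ne_zero
      rw [hbi, ← h]
      ring
  · have h3 : ρ (u (1 : K)) * (ρ (u (b : K)) * ρ (u ((b : K) * b))) = ρ (u (1 + (b + b * b))) := by
      rw [← map_mul, ← map_mul, ← u_add, ← u_add]
    rw [h3]
    refine key b _ ?_ ?_ T1
    · rw [hbi]
      ring
    · intro h
      have h5 : (b : K) ^ 5 = 0 := by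
        rw [← h]
        linear_combination ((b : K) ^ 2 + 1) * hb
      exact b.ne_zero (pow_eq_zero_iff (by norm_num) |>.1 h5)

end oct

end Cfsg.Agent.H856.Sw
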