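import Cfsg.Agent.H856.Sw2

/-!
# The root system of type `E₇` in an orthogonal frame: finite checks
-/

set_option autoImplicit false
set_option linter.unusedSectionVars false

namespace Cfsg.Agent.H856.Sw

/-- the coefficients of the Weyl element, times 2 -/
def AA : Fin 7 → ℤ := ![1, 0, 0, -1, 0, -1, -1]

/-- sign of a Boolean -/
def bs (s : Bool) : ℤ := if s then 1 else -1

/-- the long diagonal vectors -/
def xd (i : Fin 7) (s : Bool) : Fin 7 → ℤ := fun k => if k = i then 2 * bs s else 0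

/-- the vectors with four nonzero coordinates -/
def xq (b : Fin 7) (s0 s1 s2 s3 : Bool) : Fin 7 → ℤ := fun k =>
  if k + b = 0 then bs s0 else if k + b = 3 then bs s1 else if k + b = 5 then bs s2 else if k + b = 6 then bs s3 else 0

/-- two times the image under the Weyl element -/
def wy (x : Fin 7 → ℤ) : Fin 7 → ℤ := fun k =>
  AA k * x 0 + AA (k + 1) * x 1 + AA (k + 2) * x 2 + AA (k + 3) * x 3 + AA (k + 4) * x 4 + AA (k + 5) * x 5 + AA (k + 6) * x 6

theorem wy_d : ∀ i s, ∃ s0 s1 s2 s3, ∀ k, wy (xd i s) k = 2 * xq i s0 s1 s2 s3 k := by decide +kernel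

theorem wy_q : ∀ b s0 s1 s2 s3, (∃ i s, ∀ k, wy (xq b s0 s1 s2 s3) k = 2 * xd i s k) ∨
    ∃ b' t0 t1 t2 t3, ∀ k, wy (xq b s0 s1 s2 s3) k = 2 * xq b' t0 t1 t2 t3 k := by decide +kernel

theorem sign_d : ∀ (j : Fin 3) i s, ∃ t, ∀ k, sg j k * xd i s k = xd i t k := by decide +kernel

theorem sign_q : ∀ (j : Fin 3) b s0 s1 s2 s3, ∃ t0 t1 t2 t3, ∀ k,
    sg j k * xq b s0 s1 s2 s3 k = xq b t0 t1 t2 t3 k := by decide +kernel

/-- the sign change at one coordinate -/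
def sc (i k : Fin 7) : ℤ := if k = i then -1 else 1

theorem flip_d : ∀ (j : Fin 7) i s, ∃ t, ∀ k, sc j k * xd i s k = xd i t k := by decide +kernel

theorem flip_q : ∀ (j : Fin 7) b s0 s1 s2 s3, ∃ t0 t1 t2 t3, ∀ k,
    sc j k * xq b s0 s1 s2 s3 k = xq b t0 t1 t2 t3 k := by decide +kernel

theorem shift_d : ∀ i s k, xd i s k = xd (i + 1) s (k + 1) := by decide +kernel

theorem shift_q : ∀ b s0 s1 s2 s3 k, xq b s0 s1 s2 s3 k = xq (b - 1) s0 s1 s2 s3 (k + 1) := by decide +kernel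

/-- a power of a sign -/
def pw (m : Bool) (x : ℤ) : ℤ := if m then x else 1

theorem trans_q : ∀ b s0 s1 s2 s3, ∃ (m0 m1 m2 s : Bool), ∀ k, xq b s0 s1 s2 s3 k =
    bs s * (pw m0 (sg 0 k) * (pw m1 (sg 1 k) * (pw m2 (sg 2 k) * AA (k + b)))) := by decide +kernel

theorem sg_sq : ∀ (j : Fin 3) k, sg j k * sg j k = 1 := by decide

theorem sg_sep : ∀ i j : Fin 7, sg 0 i = sg 0 j → sg 1 i = sg 1 j → sg 2 i = sg 2 j → i = j := by decide

theorem sg_pm : ∀ (j : Fin 3) k, sg j k = 1 ∨ sg j k = -1 := by decide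

end Cfsg.Agent.H856.Sw
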