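import Cfsg.Agent.H856.Sw4
import Cfsg.Agent.H856.Sw5

/-!
# The root system in the seven-dimensional module of `SL₂(8)`
-/

set_option autoImplicit false
set_option linter.unusedSectionVars false

open scoped Pointwise

namespace Cfsg.Agent.H856.Sw

open Matrix QuadraticMap Cfsg.Agent.H464.Sl2 Cfsg.Agent.H856.Sv
open Cfsg.Agent.LieClassical.OrthCore Cfsg.Agent.LieClassical.OrthTrans

variable {F : Type*} [Field F] {V : Type*} [AddCommGroup V] [Module F V]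

/-- the vector with half-integral coordinates -/
def vec (v : Fin 7 → V) (x : Fin 7 → ℤ) : V := (2 : F)⁻¹ • ∑ k, ((x k : ℤ) : F) • v k

/-- the root system -/
def RX (F : Type*) [Field F] {V : Type*} [AddCommGroup V] [Module F V] (v : Fin 7 → V) : Set V :=
  {y | (∃ i s, y = vec (F := F) v (xd i s)) ∨ ∃ b s0 s1 s2 s3, y = vec (F := F) v (xq b s0 s1 s2 s3)}

theorem vec_congr {v : Fin 7 → V} {x y : Fin 7 → ℤ} (h : ∀ k, x k = y k) : vec (F := F) v x = vec (F := F) v y := by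
  rw [show x = y from funext h]

theorem RX_sub (v : Fin 7 → V) : RX F v ⊆
    (Set.range fun p : Fin 7 × Bool => vec (F := F) v (xd p.1 p.2)) ∪
    (Set.range fun p : Fin 7 × (Bool × Bool × Bool × Bool) =>
      vec (F := F) v (xq p.1 p.2.1 p.2.2.1 p.2.2.2.1 p.2.2.2.2)) := by
  rintro y (⟨i, s, rfl⟩ | ⟨b, s0, s1, s2, s3, rfl⟩)
  · exact Or.inl ⟨(i, s), rfl⟩
  · exact Or.inr ⟨(b, s0, s1, s2, s3), rfl⟩

theorem RX_finite (v : Fin 7 → V) : (RX F v).Finite :=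
  Set.Finite.subset ((Set.finite_range _).union (Set.finite_range _)) (RX_sub v)

theorem RX_ncard (v : Fin 7 → V) : (RX F v).ncard < 243 := by
  refine lt_of_le_of_lt (Set.ncard_le_ncard (RX_sub v) ((Set.finite_range _).union (Set.finite_range _))) ?_
  refine lt_of_le_of_lt (Set.ncard_union_le _ _) ?_
  have h1 : ∀ {α : Type} [Fintype α] (f : α → V), (Set.range f).ncard ≤ Fintype.card α := by
    intro α _ f
    rw [← Set.image_univ]
    refine (Set.ncard_image_le Set.finite_univ).trans ?_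
    rw [Set.ncard_univ, Nat.card_eq_fintype_card]
  have h2 := h1 (fun p : Fin 7 × Bool => vec (F := F) v (xd p.1 p.2))
  have h3 := h1 (fun p : Fin 7 × (Bool × Bool × Bool × Bool) =>
      vec (F := F) v (xq p.1 p.2.1 p.2.2.1 p.2.2.2.1 p.2.2.2.2))
  simp only [Fintype.card_prod, Fintype.card_fin, Fintype.card_bool] at h2 h3
  omega

theorem RX_diag {v : Fin 7 → V} {d : V ≃ₗ[F] V} {s : Fin 7 → ℤ} (hd : ∀ k, d (v k) = ((s k : ℤ) : F) • v k)
    (h1 : ∀ i t, ∃ t', ∀ k, s k * xd i t k = xd i t' k)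
    (h2 : ∀ b s0 s1 s2 s3, ∃ t0 t1 t2 t3, ∀ k, s k * xq b s0 s1 s2 s3 k = xq b t0 t1 t2 t3 k) :
    ∀ y ∈ RX F v, d y ∈ RX F v := by
  have key : ∀ x : Fin 7 → ℤ, d (vec (F := F) v x) = vec (F := F) v (fun k => s k * x k) := by
    intro x
    simp only [vec, map_smul, map_sum, hd, smul_smul]
    congr 1
    refine Finset.sum_congr rfl fun k _ => ?_
    push_cast
    rw [mul_comm]
  rintro y (⟨i, t, rfl⟩ | ⟨b, s0, s1, s2, s3, rfl⟩)
  · obtain ⟨t', ht⟩ := h1 i t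
    exact Or.inl ⟨i, t', by rw [key]; exact vec_congr ht⟩
  · obtain ⟨t0, t1, t2, t3, ht⟩ := h2 b s0 s1 s2 s3
    exact Or.inr ⟨b, t0, t1, t2, t3, by rw [key]; exact vec_congr ht⟩

theorem RX_shift {v : Fin 7 → V} {c : V ≃ₗ[F] V} (hc : ∀ k, c (v k) = v (k + 1)) :
    ∀ y ∈ RX F v, c y ∈ RX F v := by
  have key : ∀ x y : Fin 7 → ℤ, (∀ k, x k = y (k + 1)) → c (vec (F := F) v x) = vec (F := F) v y := by
    intro x y h
    simp only [vec, map_smul, map_sum, hc]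
    congr 1
    rw [← Equiv.sum_comp (Equiv.addRight (1 : Fin 7)) (fun k => ((y k : ℤ) : F) • v k)]
    refine Finset.sum_congr rfl fun k _ => ?_
    rw [Equiv.coe_addRight, h]
  rintro y (⟨i, t, rfl⟩ | ⟨b, s0, s1, s2, s3, rfl⟩)
  · exact Or.inl ⟨i + 1, t, key _ _ (shift_d i t)⟩
  · exact Or.inr ⟨b - 1, s0, s1, s2, s3, key _ _ (shift_q b s0 s1 s2 s3)⟩

theorem RX_neg {v : Fin 7 → V} : ∀ y ∈ RX F v, -y ∈ RX F v := by
  have key : ∀ x y : Fin 7 → ℤ, (∀ k, y k = - x k) → -(vec (F := F) v x) = vec (F := F) v y := by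
    intro x y h
    simp only [vec, h]
    rw [← smul_neg, ← Finset.sum_neg_distrib]
    congr 1
    refine Finset.sum_congr rfl fun k _ => ?_
    push_cast
    rw [neg_smul]
  rintro y (⟨i, t, rfl⟩ | ⟨b, s0, s1, s2, s3, rfl⟩)
  · refine Or.inl ⟨i, !t, key _ _ ?_⟩
    have : ∀ i t k, xd i (!t) k = - xd i t k := by decide +kernel
    exact this i t
  · refine Or.inr ⟨b, !s0, !s1, !s2, !s3, key _ _ ?_⟩
    have : ∀ b s0 s1 s2 s3 k, xq b (!s0) (!s1) (!s2) (!s3) k = - xq b s0 s1 s2 s3 k := by decide +kernel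
    exact this b s0 s1 s2 s3

theorem v_eq (h2 : (2 : F) ≠ 0) (v : Fin 7 → V) (i : Fin 7) : v i = vec (F := F) v (xd i true) := by
  simp only [vec, xd, bs]
  rw [Finset.sum_eq_single i]
  · simp [smul_smul, inv_mul_cancel₀ h2]
  · intro j _ hj
    simp [hj]
  · intro h
    exact absurd (Finset.mem_univ i) h

theorem v_mem (h2 : (2 : F) ≠ 0) (v : Fin 7 → V) (i : Fin 7) : v i ∈ RX F v := Or.inl ⟨i, true, v_eq h2 v i⟩

theorem RX_weyl (h2 : (2 : F) ≠ 0) {v : Fin 7 → V} {w : V ≃ₗ[F] V}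
    (hw : ∀ i, w (v i) = ∑ k, ((2 : F)⁻¹ * ((AA (k + i) : ℤ) : F)) • v k) :
    ∀ y ∈ RX F v, w y ∈ RX F v := by
  have key : ∀ x y : Fin 7 → ℤ, (∀ k, wy x k = 2 * y k) → w (vec (F := F) v x) = vec (F := F) v y := by
    intro x y h
    have h3 : w (∑ i, ((x i : ℤ) : F) • v i) = ∑ k, ((y k : ℤ) : F) • v k := by
      rw [map_sum]
      simp only [map_smul, hw, Finset.smul_sum, smul_smul]
      rw [Finset.sum_comm]
      refine Finset.sum_congr rfl fun k _ => ?_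
      rw [← Finset.sum_smul]
      congr 1
      have h4 : ((wy x k : ℤ) : F) = 2 * ((y k : ℤ) : F) := by rw [h k]; push_cast; rfl
      have h5 : ((y k : ℤ) : F) = (2 : F)⁻¹ * ((wy x k : ℤ) : F) := by
        rw [h4, ← mul_assoc, inv_mul_cancel₀ h2, one_mul]
      rw [h5, Fin.sum_univ_seven]
      simp only [wy, add_zero]
      push_cast
      ring
    simp only [vec, map_smul]
    rw [h3]
  rintro y (⟨i, t, rfl⟩ | ⟨b, s0, s1, s2, s3, rfl⟩)
  · obtain ⟨t0, t1, t2, t3, ht⟩ := wy_d i t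
    exact Or.inr ⟨i, t0, t1, t2, t3, key _ _ ht⟩
  · rcases wy_q b s0 s1 s2 s3 with ⟨i, t, ht⟩ | ⟨b', t0, t1, t2, t3, ht⟩
    · exact Or.inl ⟨i, t, key _ _ ht⟩
    · exact Or.inr ⟨b', t0, t1, t2, t3, key _ _ ht⟩

end Cfsg.Agent.H856.Sw
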