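import Cfsg.Agent.H856.Sw6

/-!
# `SL₂(8)` in Ω₇(q) : elements of order 3 have trace 1 when the normaliser is maximal
-/

set_option autoImplicit false
set_option linter.unusedSectionVars false

open scoped Pointwise

namespace Cfsg.Agent.H856.Sw

open Matrix QuadraticMap Cfsg.Agent.H464.Sl2 Cfsg.Agent.H856.Sv
open Cfsg.Agent.LieClassical.OrthCore Cfsg.Agent.LieClassical.OrthTrans

variable {F : Type*} [Field F] {V : Type*} [AddCommGroup V] [Module F V]

theorem preserve_inv {X : Set V} (hX : X.Finite) {k : V ≃ₗ[F] V} (hk : ∀ x ∈ X, k x ∈ X) : ∀ x ∈ X, k⁻¹ x ∈ X := by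
  intro x hx
  have h1 : Set.SurjOn k X X :=
    ((hX.injOn_iff_bijOn_of_mapsTo hk).1 k.injective.injOn).surjOn
  obtain ⟨y, hy, rfl⟩ := h1 hx
  rwa [show k⁻¹ (k y) = y from k.symm_apply_apply y]

/-- the centraliser of a unipotent element -/
theorem comm_u {K : Type*} [Field K] [Fintype K] (hK : Fintype.card K = 8) {g : SpecialLinearGroup (Fin 2) K}
    (hg : g * u 1 = u 1 * g) : ∃ x : K, g = u x := by
  have h2 := two_eq hK
  have hdet : g.1 0 0 * g.1 1 1 - g.1 0 1 * g.1 1 0 = 1 := by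
    have := g.2
    rwa [Matrix.det_fin_two] at this
  have hm : g.1 * !![1, 1; 0, 1] = !![1, 1; 0, 1] * g.1 := congrArg Subtype.val hg
  have h00 := congrFun (congrFun hm 0) 0
  have h01 := congrFun (congrFun hm 0) 1
  simp [Matrix.mul_apply, Fin.sum_univ_two] at h00 h01
  have had : g.1 0 0 = g.1 1 1 := by linear_combination h01
  have ha1 : g.1 0 0 = 1 := by
    rw [h00] at hdet
    have : (g.1 0 0 - 1) * (g.1 0 0 - 1) = 0 := by
      linear_combination hdet + g.1 0 0 * had + (1 - g.1 0 0) * h2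
    rcases mul_eq_zero.1 this with h | h <;> linear_combination h
  refine ⟨g.1 0 1, ?_⟩
  apply Subtype.ext
  change g.1 = _
  ext i j
  fin_cases i <;> fin_cases j <;> simp [h00, ha1, ← had]

namespace Frame

variable {e0 e1 e2 c : V ≃ₗ[F] V} {v : Fin 7 → V} (hv : Frame e0 e1 e2 c v) (hw : Wt e0 e1 e2 c)
  (h2 : (2 : F) ≠ 0) (h7 : Module.finrank F V = 7)

include hv hw h2 h7

theorem cast_inj {a b : ℤ} (ha : a = 1 ∨ a = -1) (hb : b = 1 ∨ b = -1) (h : (a : F) = (b : F)) : a = b := by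
  rcases ha with rfl | rfl <;> rcases hb with rfl | rfl
  · rfl
  · exfalso
    apply h2
    push_cast at h
    linear_combination h
  · exfalso
    apply h2
    push_cast at h
    linear_combination -h
  · rfl

/-- common eigenvectors are multiples of the weight vectors -/
theorem sep {y : V} {s0 s1 s2 : F} (h0 : e0 y = s0 • y) (h1 : e1 y = s1 • y) (h2' : e2 y = s2 • y) :
    ∃ i, ∃ d : F, y = d • v i ∧ (y ≠ 0 → s0 = ((sg 0 i : ℤ) : F) ∧ s1 = ((sg 1 i : ℤ) : F) ∧ s2 = ((sg 2 i : ℤ) : F)) := by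
  by_cases hy : y = 0
  · exact ⟨0, 0, by rw [hy, zero_smul], fun h => absurd hy h⟩
  let B := hv.basis hw h2 h7
  have hB : ∀ i, B i = v i := hv.basis_apply hw h2 h7
  have hrep : y = ∑ i, B.repr y i • v i := by
    conv_lhs => rw [← B.sum_repr y]
    simp only [hB]
  have hfin : FiniteDimensional F V := Module.finite_of_finrank_pos (by rw [h7]; norm_num)
  have coef : ∀ (e : V ≃ₗ[F] V) (s : F) (t : Fin 7 → F), (∀ i, e (v i) = t i • v i) → e y = s • y →
      ∀ i, B.repr y i ≠ 0 → s = t i := by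
    intro e s t he hes i hi
    rw [hrep, map_sum, Finset.smul_sum, ← sub_eq_zero, ← Finset.sum_sub_distrib] at hes
    simp only [map_smul, he, smul_smul, ← sub_smul] at hes
    have h3 := Fintype.linearIndependent_iff.1 (hv.li hw h2) _ hes i
    have h4 : B.repr y i * (t i - s) = 0 := by linear_combination h3
    rcases mul_eq_zero.1 h4 with h | h
    · exact absurd h hi
    · linear_combination -h
  obtain ⟨l, hl⟩ : ∃ l, B.repr y l ≠ 0 := by
    by_contra hno
    push Not at hno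
    apply hy
    rw [hrep]
    exact Finset.sum_eq_zero fun i _ => by rw [hno, zero_smul]
  refine ⟨l, B.repr y l, ?_, fun _ => ⟨coef e0 s0 _ hv.h0 h0 l hl, coef e1 s1 _ hv.h1 h1 l hl, coef e2 s2 _ hv.h2 h2' l hl⟩⟩
  conv_lhs => rw [hrep]
  rw [Finset.sum_eq_single l]
  · intro m _ hm
    by_contra hne
    apply hm
    have hm0 : B.repr y m ≠ 0 := fun h => hne (by rw [h, zero_smul])
    apply sg_sep
    · exact hv.cast_inj hw h2 h7 (sg_pm 0 m) (sg_pm 0 l) ((coef e0 s0 _ hv.h0 h0 m hm0).symm.trans (coef e0 s0 _ hv.h0 h0 l hl))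
    · exact hv.cast_inj hw h2 h7 (sg_pm 1 m) (sg_pm 1 l) ((coef e1 s1 _ hv.h1 h1 m hm0).symm.trans (coef e1 s1 _ hv.h1 h1 l hl))
    · exact hv.cast_inj hw h2 h7 (sg_pm 2 m) (sg_pm 2 l) ((coef e2 s2 _ hv.h2 h2' m hm0).symm.trans (coef e2 s2 _ hv.h2 h2' l hl))
  · intro h
    exact absurd (Finset.mem_univ l) h

/-- orthogonality -/
theorem polar_zero {Q : QuadraticForm F V} (h0 : e0 ∈ O Q) (h1 : e1 ∈ O Q) (h2' : e2 ∈ O Q) {i j : Fin 7} (hij : i ≠ j) :
    polar Q (v i) (v j) = 0 := by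
  have key : ∀ (e : V ≃ₗ[F] V) (k : Fin 3), e ∈ O Q → (∀ i, e (v i) = ((sg k i : ℤ) : F) • v i) → sg k i ≠ sg k j →
      polar Q (v i) (v j) = 0 := by
    intro e k he hek hne
    have h3 : polar Q (e (v i)) (e (v j)) = polar Q (v i) (v j) := by
      rw [mem_O] at he
      simp only [polar, ← map_add, he]
    rw [hek, hek, polar_smul_left, polar_smul_right, smul_eq_mul, smul_eq_mul, ← mul_assoc] at h3
    have h4 : sg k i * sg k j = -1 := by
      rcases sg_pm k i with h | h <;> rcases sg_pm k j with h' | h' <;> rw [h, h'] at hne ⊢ <;>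
        first | rfl | exact absurd rfl hne
    have h5 : ((sg k i : ℤ) : F) * ((sg k j : ℤ) : F) = -1 := by
      rw [← Int.cast_mul, h4]; norm_num
    rw [h5] at h3
    have h6 : 2 * polar Q (v i) (v j) = 0 := by linear_combination -h3
    exact (mul_eq_zero.1 h6).resolve_left h2
  by_cases a0 : sg 0 i = sg 0 j
  · by_cases a1 : sg 1 i = sg 1 j
    · refine key e2 2 h2' hv.h2 fun a2 => hij (sg_sep i j a0 a1 a2)
    · exact key e1 1 h1 hv.h1 a1
  · exact key e0 0 h0 hv.h0 a0

theorem Q_ne {Q : QuadraticForm F V} (hQ : Nondeg Q) (h0 : e0 ∈ O Q) (h1 : e1 ∈ O Q) (h2' : e2 ∈ O Q) (i : Fin 7) :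
    Q (v i) ≠ 0 := by
  intro h
  apply hv.ne i
  apply hQ
  have h3 : polarBilin Q (v i) = 0 := by
    apply (hv.basis hw h2 h7).ext
    intro j
    rw [hv.basis_apply]
    show polar Q (v i) (v j) = 0
    by_cases hij : i = j
    · rw [← hij, polar_self', h, mul_zero]
    · exact hv.polar_zero hw h2 h7 h0 h1 h2' hij
  intro y
  exact congrArg (fun f : V →ₗ[F] F => f y) h3

end Frame

end Cfsg.Agent.H856.Sw
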