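import Cfsg.Agent.H856.Sw7

/-!
# `SL₂(8)` in Ω₇(q) : elements of order 3 have trace 1 when the normaliser is maximal (conclusion)
-/

set_option autoImplicit false
set_option linter.unusedSectionVars false

open scoped Pointwise

namespace Cfsg.Agent.H856.Sw

open Matrix QuadraticMap Cfsg.Agent.H464.Sl2 Cfsg.Agent.H856.Sv
open Cfsg.Agent.LieClassical.OrthCore Cfsg.Agent.LieClassical.OrthTrans

variable {F : Type*} [Field F] {V : Type*} [AddCommGroup V] [Module F V]

/-- **`L₂(8)`** : trace 1 on elements of order 3 -/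
theorem _root_.Cfsg.Agent.H856.Sv.Max7.l28 [Finite F] {Q : QuadraticForm F V} {H P : Subgroup (V ≃ₗ[F] V)}
    (hM : Max7 Q H P) {K : Type*} [Field K] [Fintype K] (hK : Fintype.card K = 8)
    (ρ : SpecialLinearGroup (Fin 2) K →* (V ≃ₗ[F] V)) (hρ : Function.Injective ρ) (hr : ρ.range = P) :
    LinearMap.trace F V ((ρ (w 1) * ρ (u 1) : V ≃ₗ[F] V) : V →ₗ[F] V) = 1 := by
  have h2 := hM.two_ne
  have h7 := hM.finrank_eq
  have hfin := hM.finiteDim
  obtain ⟨b, hb⟩ := exists_beta hK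
  have ho := oc_of hK hb ρ hρ h2 h7
  have hw := ho.toWt
  obtain ⟨v, hv⟩ := hw.frame h2
  obtain ⟨a, ha⟩ : ∃ a : Fin 7 → F, ρ (w 1) (v 0) = ∑ j, a j • v j := by
    refine ⟨fun j => (hv.basis hw h2 h7).repr (ρ (w 1) (v 0)) j, ?_⟩
    conv_lhs => rw [← (hv.basis hw h2 h7).sum_repr (ρ (w 1) (v 0))]
    simp only [hv.basis_apply]
  rcases ho.solve hv h2 h7 ha with h | ⟨a0, a1, a2, a3, a4, a5, a6⟩
  · exact h
  exfalso
  have hA : ∀ j, a j = (2 : F)⁻¹ * ((AA j : ℤ) : F) := by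
    intro j
    fin_cases j
    · refine a0.trans ?_; simp [AA]
    · refine a1.trans ?_; simp [AA]
    · refine a2.trans ?_; simp [AA]
    · refine a3.trans ?_; simp [AA]
    · refine a4.trans ?_; simp [AA]
    · refine a5.trans ?_; simp [AA]
    · refine a6.trans ?_; simp [AA]
  have hwv : ∀ i, ρ (w 1) (v i) = ∑ k, ((2 : F)⁻¹ * ((AA (k + i) : ℤ) : F)) • v k := by
    intro i
    rw [ho.w_apply hv ha i]
    exact Finset.sum_congr rfl fun k _ => by rw [hA]
  -- the group `P` preserves the root system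
  have hX := RX_finite (F := F) v
  have he0X : ∀ y ∈ RX F v, ρ (u 1) y ∈ RX F v := RX_diag hv.h0 (sign_d 0) (sign_q 0)
  have he1X : ∀ y ∈ RX F v, ρ (u (b : K)) y ∈ RX F v := RX_diag hv.h1 (sign_d 1) (sign_q 1)
  have he2X : ∀ y ∈ RX F v, ρ (u ((b : K) * b)) y ∈ RX F v := RX_diag hv.h2 (sign_d 2) (sign_q 2)
  have hcX : ∀ y ∈ RX F v, ρ (t (b ^ 4)) y ∈ RX F v := RX_shift hv.hc
  have hwX : ∀ y ∈ RX F v, ρ (w 1) y ∈ RX F v := RX_weyl h2 hwv
  have hPX : ∀ g : SpecialLinearGroup (Fin 2) K, ∀ y ∈ RX F v, ρ g y ∈ RX F v := by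
    let S : Subgroup (SpecialLinearGroup (Fin 2) K) :=
      { carrier := {g | ∀ y ∈ RX F v, ρ g y ∈ RX F v}
        mul_mem' := fun {g h} hg hh y hy => by
          rw [map_mul]
          exact hg _ (hh y hy)
        one_mem' := fun y hy => by rw [map_one]; exact hy
        inv_mem' := fun {g} hg y hy => by
          rw [map_inv]
          exact preserve_inv hX hg y hy }
    have hS : S = ⊤ := gen_sl hK S (b_ne_one hK hb) he0X hcX hwX
    intro g
    have : g ∈ S := by rw [hS]; trivial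
    exact this
  have hPO : ∀ g : SpecialLinearGroup (Fin 2) K, ρ g ∈ O Q := fun g =>
    hM.H_le_O (hM.PH (by rw [← hr]; exact ⟨g, rfl⟩))
  have hQc : ∀ i, Q (v i) = Q (v 0) := by
    have key : ∀ i, Q (v (i + 1)) = Q (v i) := fun i => by
      rw [← hv.hc]
      exact hPO _ _
    have q1 := key 0
    have q2 := key 1
    have q3 := key 2
    have q4 := key 3
    have q5 := key 4
    have q6 := key 5
    intro i
    fin_cases i
    · rfl
    · exact q1
    · exact q2.trans q1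
    · exact q3.trans (q2.trans q1)
    · exact q4.trans (q3.trans (q2.trans q1))
    · exact q5.trans (q4.trans (q3.trans (q2.trans q1)))
    · exact q6.trans (q5.trans (q4.trans (q3.trans (q2.trans q1))))
  have hQ0 : Q (v 0) ≠ 0 := hv.Q_ne hw h2 h7 hM.nondeg (hPO _) (hPO _) (hPO _) 0
  -- the unipotent elements act by signs
  have usign : ∀ (x : K) (i : Fin 7), ∃ s : F, ρ (u x) (v i) = s • v i := by
    intro x i
    have comm : ∀ (y : K) (z : V), ρ (u y) (ρ (u x) z) = ρ (u x) (ρ (u y) z) := by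
      intro y z
      show (ρ (u y) * ρ (u x)) z = (ρ (u x) * ρ (u y)) z
      rw [← map_mul, ← map_mul, ← u_add, ← u_add, add_comm]
    obtain ⟨l, d, hd, hsg⟩ := hv.sep hw h2 h7 (y := ρ (u x) (v i)) (s0 := ((sg 0 i : ℤ) : F)) (s1 := ((sg 1 i : ℤ) : F))
      (s2 := ((sg 2 i : ℤ) : F)) (by rw [comm, hv.h0, map_smul]) (by rw [comm, hv.h1, map_smul])
      (by rw [comm, hv.h2, map_smul])
    have hne : ρ (u x) (v i) ≠ 0 := fun h => hv.ne i ((ρ (u x)).injective (by rw [h, map_zero]))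
    obtain ⟨g0, g1, g2⟩ := hsg hne
    have hil : i = l := sg_sep i l (hv.cast_inj hw h2 h7 (sg_pm 0 i) (sg_pm 0 l) g0)
      (hv.cast_inj hw h2 h7 (sg_pm 1 i) (sg_pm 1 l) g1) (hv.cast_inj hw h2 h7 (sg_pm 2 i) (sg_pm 2 l) g2)
    rw [← hil] at hd
    exact ⟨d, hd⟩
  -- elements of `H` map the frame into the root system
  have hHv : ∀ h ∈ H, ∀ i, h (v i) ∈ RX F v := by
    intro h hh i
    have hnP : h * ρ (u 1) * h⁻¹ ∈ ρ.range := by
      rw [hr]
      exact hM.normal h hh _ (by rw [← hr]; exact ⟨_, rfl⟩)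
    obtain ⟨g', hg'⟩ := hnP
    have hg1 : g' * g' = 1 := by
      apply hρ
      rw [map_mul, hg', map_one]
      have h3 : ρ (u (1 : K)) * ρ (u 1) = 1 := by rw [← map_mul, u_mul_self hK, map_one]
      have h4 : h * ρ (u 1) * h⁻¹ * (h * ρ (u 1) * h⁻¹) = h * (ρ (u 1) * ρ (u 1)) * h⁻¹ := by group
      rw [h4, h3]
      group
    have hg2 : g' ≠ 1 := by
      intro h3
      rw [h3, map_one] at hg'
      apply hw.ne
      have h4 : ρ (u (1 : K)) = h⁻¹ * (h * ρ (u 1) * h⁻¹) * h := by group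
      rw [h4, ← hg']
      group
    obtain ⟨k, hk⟩ := invol_conj hK hg1 hg2
    let h' : V ≃ₗ[F] V := (ρ k)⁻¹ * h
    have hh' : h' ∈ H := H.mul_mem (H.inv_mem (hM.PH (by rw [← hr]; exact ⟨k, rfl⟩))) hh
    have hcomm : h' * ρ (u 1) = ρ (u 1) * h' := by
      have h3 : ρ g' * h = h * ρ (u 1) := by rw [hg']; group
      have h4 : ρ g' * ρ k = ρ k * ρ (u 1) := by rw [← map_mul, hk, map_mul]
      show (ρ k)⁻¹ * h * ρ (u 1) = ρ (u 1) * ((ρ k)⁻¹ * h)
      rw [mul_assoc, ← h3, ← mul_assoc, ← mul_assoc]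
      congr 1
      rw [inv_mul_eq_iff_eq_mul, ← mul_assoc, eq_mul_inv_iff_mul_eq]
      exact h4
    -- eigenvectors
    have heig : ∀ x : K, ∃ s : F, ρ (u x) (h' (v i)) = s • h' (v i) := by
      intro x
      have h3 : h'⁻¹ * ρ (u x) * h'⁻¹⁻¹ ∈ ρ.range := by
        rw [hr]
        exact hM.normal _ (H.inv_mem hh') _ (by rw [← hr]; exact ⟨_, rfl⟩)
      obtain ⟨g3, hg3⟩ := h3
      rw [inv_inv] at hg3
      have hc3 : g3 * u 1 = u 1 * g3 := by
        apply hρ
        rw [map_mul, map_mul, hg3]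
        have h4 : ρ (u x) * ρ (u 1) = ρ (u 1) * ρ (u x) := by
          rw [← map_mul, ← map_mul, ← u_add, ← u_add, add_comm]
        calc h'⁻¹ * ρ (u x) * h' * ρ (u 1) = h'⁻¹ * ρ (u x) * (h' * ρ (u 1)) := by group
          _ = h'⁻¹ * (ρ (u x) * ρ (u 1)) * h' := by rw [hcomm]; group
          _ = h'⁻¹ * ρ (u 1) * ρ (u x) * h' := by rw [h4]; group
          _ = ρ (u 1) * (h'⁻¹ * ρ (u x) * h') := by
            have h5 : h'⁻¹ * ρ (u 1) = ρ (u 1) * h'⁻¹ := by
              rw [inv_mul_eq_iff_eq_mul, ← mul_assoc, hcomm, mul_inv_cancel_right]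
            rw [h5]; group
      obtain ⟨x', rfl⟩ := comm_u hK hc3
      obtain ⟨s, hs⟩ := usign x' i
      refine ⟨s, ?_⟩
      have h4 : ρ (u x) * h' = h' * ρ (u x') := by rw [hg3]; group
      have h5 : (ρ (u x) * h') (v i) = (h' * ρ (u x')) (v i) := by rw [h4]
      rw [show ρ (u x) (h' (v i)) = (ρ (u x) * h') (v i) from rfl, h5]
      show h' (ρ (u x') (v i)) = _
      rw [hs, map_smul]
    obtain ⟨s0, hs0⟩ := heig 1
    obtain ⟨s1, hs1⟩ := heig (b : K)
    obtain ⟨s2, hs2⟩ := heig ((b : K) * b)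
    obtain ⟨l, d, hd, -⟩ := hv.sep hw h2 h7 hs0 hs1 hs2
    have hdd : d * d = 1 := by
      have h3 : Q (h' (v i)) = Q (v i) := hM.H_le_O hh' _
      rw [hd, QuadraticMap.map_smul, smul_eq_mul, hQc l, hQc i] at h3
      apply mul_right_cancel₀ hQ0
      rw [one_mul]
      exact h3
    have hmem : h' (v i) ∈ RX F v := by
      rw [hd]
      rcases mul_self_eq_one_iff.1 hdd with rfl | rfl
      · rw [one_smul]
        exact v_mem h2 v l
      · rw [neg_smul, one_smul]
        exact RX_neg _ (v_mem h2 v l)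
    have h3 : h (v i) = ρ k (h' (v i)) := by
      show h (v i) = (ρ k * ((ρ k)⁻¹ * h)) (v i)
      rw [mul_inv_cancel_left]
    rw [h3]
    exact hPX k _ hmem
  -- elements of the root system are translates of the frame
  have htr : ∀ y ∈ RX F v, ∃ (g : SpecialLinearGroup (Fin 2) K) (i : Fin 7), y = ρ g (v i) ∨ y = -ρ g (v i) := by
    have hpw : ∀ (m : Bool) (x : K) (j : Fin 3), (∀ i, ρ (u x) (v i) = ((sg j i : ℤ) : F) • v i) →
        ∃ g : SpecialLinearGroup (Fin 2) K, ∀ i, ρ g (v i) = ((pw m (sg j i) : ℤ) : F) • v i := by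
      intro m x j hx
      cases m
      · exact ⟨1, fun i => by rw [map_one]; simp [pw]⟩
      · exact ⟨u x, fun i => by rw [hx]; simp [pw]⟩
    rintro y (⟨i, t, rfl⟩ | ⟨i, t0, t1, t2, t3, rfl⟩)
    · refine ⟨1, i, ?_⟩
      rw [map_one]
      cases t
      · right
        show _ = -(v i)
        rw [v_eq h2 v i]
        simp only [vec]
        rw [← smul_neg, ← Finset.sum_neg_distrib]
        congr 1
        refine Finset.sum_congr rfl fun k _ => ?_
        have h3 : xd i false k = -xd i true k := by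
          have : ∀ i k, xd i false k = -xd i true k := by decide
          exact this i k
        rw [h3, Int.cast_neg, neg_smul]
      · left
        exact (v_eq h2 v i).symm
    · obtain ⟨m0, m1, m2, s, hs⟩ := trans_q i t0 t1 t2 t3
      obtain ⟨g0, hg0⟩ := hpw m0 1 0 hv.h0
      obtain ⟨g1, hg1⟩ := hpw m1 (b : K) 1 hv.h1
      obtain ⟨g2, hg2⟩ := hpw m2 ((b : K) * b) 2 hv.h2
      have hval : ρ (g0 * (g1 * (g2 * w 1))) (v i) =
          ∑ k, ((2 : F)⁻¹ * ((pw m0 (sg 0 k) * (pw m1 (sg 1 k) * (pw m2 (sg 2 k) * AA (k + i))) : ℤ) : F)) • v k := by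
        rw [map_mul, map_mul, map_mul]
        show ρ g0 (ρ g1 (ρ g2 (ρ (w 1) (v i)))) = _
        rw [hwv]
        simp only [map_sum, map_smul, hg0, hg1, hg2, smul_smul]
        refine Finset.sum_congr rfl fun k _ => ?_
        congr 1
        push_cast
        ring
      have hvec : vec (F := F) v (xq i t0 t1 t2 t3) = ((bs s : ℤ) : F) • ρ (g0 * (g1 * (g2 * w 1))) (v i) := by
        rw [hval]
        simp only [vec, hs, Finset.smul_sum, smul_smul]
        refine Finset.sum_congr rfl fun k _ => ?_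
        congr 1
        push_cast
        ring
      refine ⟨g0 * (g1 * (g2 * w 1)), i, ?_⟩
      rw [hvec]
      cases s
      · right
        simp [bs]
      · left
        simp [bs]
  have hHX : ∀ h ∈ H, ∀ y ∈ RX F v, h y ∈ RX F v := by
    have key : ∀ h ∈ H, ∀ (g : SpecialLinearGroup (Fin 2) K) i, h (ρ g (v i)) ∈ RX F v := by
      intro h hh g i
      have h3 : h * ρ g * h⁻¹ ∈ ρ.range := by
        rw [hr]
        exact hM.normal h hh _ (by rw [← hr]; exact ⟨_, rfl⟩)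
      obtain ⟨g', hg'⟩ := h3
      have h4 : h * ρ g = ρ g' * h := by rw [hg']; group
      have h5 : h (ρ g (v i)) = ρ g' (h (v i)) := by
        show (h * ρ g) (v i) = _
        rw [h4]; rfl
      rw [h5]
      exact hPX g' _ (hHv h hh i)
    intro h hh y hy
    obtain ⟨g, i, rfl | rfl⟩ := htr y hy
    · exact key h hh g i
    · rw [map_neg]
      exact RX_neg _ (key h hh g i)
  -- the reflections
  let r : V ≃ₗ[F] V := LieClassical.OrthCore.refl Q (v 0) hQ0
  have hrO : r ∈ O Q := refl_mem_O hQ0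
  have hrr : r⁻¹ = r := refl_inv hQ0
  have hrv : ∀ k, r (v k) = ((sc 0 k : ℤ) : F) • v k := by
    intro k
    show LieClassical.OrthCore.refl Q (v 0) hQ0 (v k) = _
    rw [LieClassical.OrthCore.refl_apply]
    by_cases hk : k = 0
    · rw [hk, polar_self']
      have h3 : (Q (v 0))⁻¹ * (2 * Q (v 0)) = 2 := by field_simp
      rw [h3]
      simp only [sc, if_true]
      module
    · rw [hv.polar_zero hw h2 h7 (hPO _) (hPO _) (hPO _) (Ne.symm hk), mul_zero, zero_smul, sub_zero]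
      simp only [sc, if_neg hk]
      module
  have hrX : ∀ y ∈ RX F v, r y ∈ RX F v := RX_diag hrv (flip_d 0) (flip_q 0)
  let c : V ≃ₗ[F] V := ρ (t (b ^ 4))
  have hcinvX := preserve_inv hX hcX
  have hcv : ∀ k, c (v k) = v (k + 1) := hv.hc
  have hcv' : ∀ k, c⁻¹ (v (k + 1)) = v k := by
    intro k
    rw [← hcv]
    exact c.symm_apply_apply _
  let D : V ≃ₗ[F] V := r * c * r⁻¹ * c⁻¹
  have hDv : ∀ k, D (v (k + 1)) = ((sc 0 k * sc 0 (k + 1) : ℤ) : F) • v (k + 1) := by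
    intro k
    show r (c (r⁻¹ (c⁻¹ (v (k + 1))))) = _
    rw [hcv', hrr, hrv, map_smul, map_smul, hcv, hrv, smul_smul]
    push_cast
    rfl
  have hDE : D ∈ E Q := by
    rw [← hM.comm_eq]
    exact Subgroup.commutator_mem_commutator hrO (hPO _)
  have hDX : ∀ y ∈ RX F v, D y ∈ RX F v := by
    intro y hy
    show r (c (r⁻¹ (c⁻¹ y))) ∈ RX F v
    rw [hrr]
    exact hrX _ (hcX _ (hrX _ (hcinvX _ hy)))
  have hDH : D ∈ H := hM.mem_of_preserve hX (RX_ncard v) (v_mem h2 v 0) (hv.ne 0) hHX hDE hDX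
  have hD' : ∀ k, D (v k) = ((sc 0 (k - 1) * sc 0 k : ℤ) : F) • v k := by
    intro k
    have := hDv (k - 1)
    rwa [sub_add_cancel] at this
  have hDinv : ∀ k, D⁻¹ (v k) = ((sc 0 (k - 1) * sc 0 k : ℤ) : F) • v k := by
    intro k
    apply D.injective
    rw [show D (D⁻¹ (v k)) = v k from D.apply_symm_apply _, map_smul, hD', smul_smul, ← Int.cast_mul]
    have h3 : ∀ k : Fin 7, sc 0 (k - 1) * sc 0 k * (sc 0 (k - 1) * sc 0 k) = 1 := by decide
    rw [h3, Int.cast_one, one_smul]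
  -- the commutator lies in `P`
  let y : V ≃ₗ[F] V := D * c * D⁻¹ * c⁻¹
  have hyP : y ∈ ρ.range := by
    rw [hr]
    have hcP : c ∈ P := by rw [← hr]; exact ⟨_, rfl⟩
    exact P.mul_mem (hM.normal D hDH c hcP) (P.inv_mem hcP)
  have hyv : ∀ k, y (v k) = ((sc 0 (k - 1 - 1) * sc 0 (k - 1) * (sc 0 (k - 1) * sc 0 k) : ℤ) : F) • v k := by
    intro k
    have h3 : y (v (k - 1 + 1)) = ((sc 0 (k - 1 - 1) * sc 0 (k - 1) * (sc 0 (k - 1) * sc 0 k) : ℤ) : F) • v k := by
      show D (c (D⁻¹ (c⁻¹ (v (k - 1 + 1))))) = _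
      rw [hcv', hDinv, map_smul, map_smul, hcv, sub_add_cancel, hD', smul_smul]
      push_cast
      rfl
    rwa [sub_add_cancel] at h3
  obtain ⟨g, hg⟩ := hyP
  have hgg : g * g = 1 := by
    apply hρ
    rw [map_mul, hg, map_one]
    apply LinearEquiv.toLinearMap_injective
    apply (hv.basis hw h2 h7).ext
    intro k
    rw [hv.basis_apply]
    show y (y (v k)) = v k
    rw [hyv, map_smul, hyv, smul_smul, ← Int.cast_mul]
    have h3 : ∀ k : Fin 7, sc 0 (k - 1 - 1) * sc 0 (k - 1) * (sc 0 (k - 1) * sc 0 k) *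
      (sc 0 (k - 1 - 1) * sc 0 (k - 1) * (sc 0 (k - 1) * sc 0 k)) = 1 := by decide
    rw [h3, Int.cast_one, one_smul]
  have hg1 : g ≠ 1 := by
    intro h
    rw [h, map_one] at hg
    have h3 := hyv 0
    rw [← hg, show sc 0 ((0 : Fin 7) - 1 - 1) * sc 0 (0 - 1) * (sc 0 (0 - 1) * sc 0 0) = -1 by decide] at h3
    have h4 : v 0 = ((-1 : ℤ) : F) • v 0 := h3
    have h5 : (2 : F) • v 0 = 0 := by
      rw [two_smul]
      nth_rewrite 1 [h4]
      push_cast
      module
    exact hv.ne 0 ((smul_eq_zero.1 h5).resolve_left h2)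
  obtain ⟨k, hk⟩ := invol_conj hK hgg hg1
  have htr1 : LinearMap.trace F V (y : V →ₗ[F] V) = -1 := by
    rw [← Oc.trace_e0 hv hw h2 h7, ← hg]
    apply trace_conj' (k := ρ k)
    rw [← map_mul, hk, map_mul]
  have htr3 : LinearMap.trace F V (y : V →ₗ[F] V) = 3 := by
    rw [LinearMap.trace_eq_matrix_trace F (hv.basis hw h2 h7), Matrix.trace]
    have key : ∀ i, (LinearMap.toMatrix (hv.basis hw h2 h7) (hv.basis hw h2 h7) (y : V →ₗ[F] V)).diag i =
        ((sc 0 (i - 1 - 1) * sc 0 (i - 1) * (sc 0 (i - 1) * sc 0 i) : ℤ) : F) := by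
      intro i
      rw [Matrix.diag_apply, LinearMap.toMatrix_apply, hv.basis_apply]
      have h1 : (y : V →ₗ[F] V) (v i) = ((sc 0 (i - 1 - 1) * sc 0 (i - 1) * (sc 0 (i - 1) * sc 0 i) : ℤ) : F) •
          hv.basis hw h2 h7 i := by
        rw [hv.basis_apply]
        exact hyv i
      rw [h1, map_smul]
      simp
    rw [Finset.sum_congr rfl fun i _ => key i, ← Int.cast_sum]
    have h3 : ∑ i : Fin 7, sc 0 (i - 1 - 1) * sc 0 (i - 1) * (sc 0 (i - 1) * sc 0 i) = 3 := by decide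
    rw [h3]
    norm_num
  rw [htr1] at htr3
  have h4 : (2 : F) * 2 = 0 := by linear_combination -htr3
  rcases mul_eq_zero.1 h4 with h | h <;> exact h2 h

end Cfsg.Agent.H856.Sw
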