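import Cfsg.Agent.H856.Sw8
import Cfsg.Agent.H179.G2Std

/-!
# The invariant alternating 3-form of `SL₂(8)` in dimension 7 (helper856)
-/

set_option autoImplicit false
set_option linter.unusedSectionVars false

namespace Cfsg.Agent.H856.Sx

open Cfsg.Agent.H856.Sw Cfsg.Agent.H179.G2

/-- the ring `ℤ[Y, Z]`, `Y² = 3 - Z`, `Z² = 3 Z + Y`, `Y Z = -1` -/
abbrev R3 : Type := ℤ × ℤ × ℤ

/-- product -/
def rm (a b : R3) : R3 :=
  (a.1 * b.1 + 3 * (a.2.1 * b.2.1) - a.2.1 * b.2.2 - a.2.2 * b.2.1,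
    a.1 * b.2.1 + a.2.1 * b.1 + a.2.2 * b.2.2,
    a.1 * b.2.2 + a.2.2 * b.1 - a.2.1 * b.2.1 + 3 * (a.2.2 * b.2.2))

/-- the entries of `4 w` -/
def Aw : Fin 7 → R3 := ![(-1, 0, 0), (-1, 1, 0), (-2, 0, 1), (-1, 0, 1), (0, -1, -1), (0, 1, 0), (1, -1, -1)]

/-- minors -/
def d3R (i j k : Fin 7) (x y z : Fin 7 → R3) : R3 :=
  rm (x i) (rm (y j) (z k) - rm (y k) (z j)) - rm (x j) (rm (y i) (z k) - rm (y k) (z i)) +
    rm (x k) (rm (y i) (z j) - rm (y j) (z i))

/-- the sum of the seven minors -/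
def F1R (x y z : Fin 7 → R3) : R3 :=
  d3R 0 1 5 x y z + d3R 1 2 6 x y z + d3R 2 3 0 x y z + d3R 3 4 1 x y z + d3R 4 5 2 x y z +
    d3R 5 6 3 x y z + d3R 6 0 4 x y z

/-- unit vectors -/
def ei (i k : Fin 7) : ℤ := if k = i then 1 else 0

/-- minors over `ℤ` -/
def d3Z (i j k : Fin 7) (x y z : Fin 7 → ℤ) : ℤ :=
  x i * (y j * z k - y k * z j) - x j * (y i * z k - y k * z i) + x k * (y i * z j - y j * z i)

/-- the sum of the seven minors over `ℤ` -/
def F1Z (x y z : Fin 7 → ℤ) : ℤ :=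
  d3Z 0 1 5 x y z + d3Z 1 2 6 x y z + d3Z 2 3 0 x y z + d3Z 3 4 1 x y z + d3Z 4 5 2 x y z +
    d3Z 5 6 3 x y z + d3Z 6 0 4 x y z

theorem table : ∀ i j k : Fin 7, F1R (fun m => Aw (m + i)) (fun m => Aw (m + j)) (fun m => Aw (m + k)) =
    (64 * F1Z (ei i) (ei j) (ei k), 0, 0) := by decide +kernel

theorem table_shift : ∀ i j k : Fin 7, F1Z (ei (i + 1)) (ei (j + 1)) (ei (k + 1)) =
    F1Z (ei i) (ei j) (ei k) := by decide +kernel

theorem table_sign : ∀ i j k : Fin 7, sg 0 i * sg 0 j * sg 0 k * F1Z (ei i) (ei j) (ei k) =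
    F1Z (ei i) (ei j) (ei k) := by decide +kernel

variable {F : Type*} [Field F]

/-- the 3-form in coordinates -/
def F1 (x y z : Fin 7 → F) : F :=
  d3 0 1 5 x y z + d3 1 2 6 x y z + d3 2 3 0 x y z + d3 3 4 1 x y z + d3 4 5 2 x y z +
    d3 5 6 3 x y z + d3 6 0 4 x y z

/-- evaluation -/
def ev (Y Z : F) (a : R3) : F := a.1 + a.2.1 * Y + a.2.2 * Z

section ev

variable {Y Z : F} (h1 : Y * Z = -1) (h2 : Y ^ 2 = 3 - Z) (h3 : Z ^ 2 = 3 * Z + Y)

include h1 h2 h3

theorem ev_mul (a b : R3) : ev Y Z (rm a b) = ev Y Z a * ev Y Z b := by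
  simp only [ev, rm]
  push_cast
  linear_combination (-(a.2.1 : F) * b.2.2 - (a.2.2 : F) * b.2.1) * h1 - (a.2.1 : F) * b.2.1 * h2 -
    (a.2.2 : F) * b.2.2 * h3

omit h1 h2 h3 in
theorem ev_add (a b : R3) : ev Y Z (a + b) = ev Y Z a + ev Y Z b := by
  simp only [ev, Prod.fst_add, Prod.snd_add]
  push_cast
  ring

omit h1 h2 h3 in
theorem ev_sub (a b : R3) : ev Y Z (a - b) = ev Y Z a - ev Y Z b := by
  simp only [ev, Prod.fst_sub, Prod.snd_sub]
  push_cast
  ring

theorem ev_F1 (x y z : Fin 7 → R3) : ev Y Z (F1R x y z) =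
    F1 (fun m => ev Y Z (x m)) (fun m => ev Y Z (y m)) (fun m => ev Y Z (z m)) := by
  simp only [F1R, F1, d3R, d3, ev_add, ev_sub, ev_mul h1 h2 h3]

end ev

theorem F1_add1 (x x' y z : Fin 7 → F) : F1 (x + x') y z = F1 x y z + F1 x' y z := by
  simp only [F1, d3, Pi.add_apply]; ring
theorem F1_add2 (x y y' z : Fin 7 → F) : F1 x (y + y') z = F1 x y z + F1 x y' z := by
  simp only [F1, d3, Pi.add_apply]; ring
theorem F1_add3 (x y z z' : Fin 7 → F) : F1 x y (z + z') = F1 x y z + F1 x y z' := by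
  simp only [F1, d3, Pi.add_apply]; ring
theorem F1_smul1 (c : F) (x y z : Fin 7 → F) : F1 (c • x) y z = c * F1 x y z := by
  simp only [F1, d3, Pi.smul_apply, smul_eq_mul]; ring
theorem F1_smul2 (c : F) (x y z : Fin 7 → F) : F1 x (c • y) z = c * F1 x y z := by
  simp only [F1, d3, Pi.smul_apply, smul_eq_mul]; ring
theorem F1_smul3 (c : F) (x y z : Fin 7 → F) : F1 x y (c • z) = c * F1 x y z := by
  simp only [F1, d3, Pi.smul_apply, smul_eq_mul]; ring

variable {V : Type*} [AddCommGroup V] [Module F V]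

/-- the 3-form on `V` -/
noncomputable def f1 (b : Module.Basis (Fin 7) F V) : V →ₗ[F] V →ₗ[F] V →ₗ[F] F :=
  LinearMap.mk₂ F (fun x y => ({ toFun := fun z => F1 (b.equivFun x) (b.equivFun y) (b.equivFun z)
                                 map_add' := fun z z' => by rw [map_add, F1_add3]
                                 map_smul' := fun c z => by rw [map_smul, F1_smul3]; rfl } : V →ₗ[F] F))
    (fun x x' y => LinearMap.ext fun z => by
      show F1 (b.equivFun (x + x')) (b.equivFun y) (b.equivFun z) =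
        F1 (b.equivFun x) (b.equivFun y) (b.equivFun z) + F1 (b.equivFun x') (b.equivFun y) (b.equivFun z)
      rw [map_add, F1_add1])
    (fun c x y => LinearMap.ext fun z => by
      show F1 (b.equivFun (c • x)) (b.equivFun y) (b.equivFun z) =
        c * F1 (b.equivFun x) (b.equivFun y) (b.equivFun z)
      rw [map_smul, F1_smul1])
    (fun x y y' => LinearMap.ext fun z => by
      show F1 (b.equivFun x) (b.equivFun (y + y')) (b.equivFun z) =
        F1 (b.equivFun x) (b.equivFun y) (b.equivFun z) + F1 (b.equivFun x) (b.equivFun y') (b.equivFun z)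
      rw [map_add, F1_add2])
    (fun c x y => LinearMap.ext fun z => by
      show F1 (b.equivFun x) (b.equivFun (c • y)) (b.equivFun z) =
        c * F1 (b.equivFun x) (b.equivFun y) (b.equivFun z)
      rw [map_smul, F1_smul2])

theorem f1_apply (b : Module.Basis (Fin 7) F V) (x y z : V) :
    f1 b x y z = F1 (b.equivFun x) (b.equivFun y) (b.equivFun z) := rfl

theorem f1_isAlt (b : Module.Basis (Fin 7) F V) : IsAltForm (f1 b) where
  self x y := by rw [f1_apply]; simp only [F1, d3]; ring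
  z23 x y := by rw [f1_apply]; simp only [F1, d3]; ring

theorem F1_cast (x y z : Fin 7 → ℤ) : F1 (fun m => ((x m : ℤ) : F)) (fun m => ((y m : ℤ) : F))
    (fun m => ((z m : ℤ) : F)) = ((F1Z x y z : ℤ) : F) := by
  simp only [F1, F1Z, d3, d3Z]
  push_cast
  ring

theorem f1_basis (b : Module.Basis (Fin 7) F V) (i j k : Fin 7) :
    f1 b (b i) (b j) (b k) = ((F1Z (ei i) (ei j) (ei k) : ℤ) : F) := by
  have h : ∀ i, b.equivFun (b i) = fun m => ((ei i m : ℤ) : F) := by
    intro i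
    funext m
    rw [Module.Basis.equivFun_apply, Module.Basis.repr_self, Finsupp.single_apply]
    simp only [ei, eq_comm]
    split_ifs <;> simp
  rw [f1_apply, h, h, h, F1_cast]

theorem f1_ne (b : Module.Basis (Fin 7) F V) : f1 b ≠ 0 := by
  intro h
  have h1 := f1_basis b 0 1 5
  rw [h] at h1
  have h2 : F1Z (ei 0) (ei 1) (ei 5) = 1 := by decide +kernel
  rw [h2] at h1
  simp at h1

/-- invariance can be checked on a basis -/
theorem inv_of_basis (b : Module.Basis (Fin 7) F V) {f : V →ₗ[F] V →ₗ[F] V →ₗ[F] F} {g : V →ₗ[F] V}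
    (h : ∀ i j k, f (g (b i)) (g (b j)) (g (b k)) = f (b i) (b j) (b k)) (x y z : V) :
    f (g x) (g y) (g z) = f x y z := by
  rw [← b.sum_repr x, ← b.sum_repr y, ← b.sum_repr z]
  simp only [map_sum, map_smul, LinearMap.sum_apply, LinearMap.smul_apply, h]

end Cfsg.Agent.H856.Sx
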