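import Cfsg.Agent.H856.Sx1

/-!
# The invariant alternating 3-form of `SL₂(8)` in dimension 7 (helper856), conclusion
-/

set_option autoImplicit false
set_option linter.unusedSectionVars false

namespace Cfsg.Agent.H856.Sw

open Matrix QuadraticMap Cfsg.Agent.H464.Sl2 Cfsg.Agent.H856.Sv Cfsg.Agent.H179.G2
open Cfsg.Agent.LieClassical.OrthCore Cfsg.Agent.LieClassical.OrthTrans Cfsg.Agent.H856.Sx

variable {F : Type*} [Field F] {V : Type*} [AddCommGroup V] [Module F V]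

theorem Oc.solve1 {e0 e1 e2 c w : V ≃ₗ[F] V} {v : Fin 7 → V} (ho : Oc e0 e1 e2 c w)
    (hv : Frame e0 e1 e2 c v) (h2 : (2 : F) ≠ 0) (h7 : Module.finrank F V = 7) {a : Fin 7 → F}
    (ha : w (v 0) = ∑ j, a j • v j)
    (ht : LinearMap.trace F V ((w * e0 : V ≃ₗ[F] V) : V →ₗ[F] V) = 1) :
    ∃ Y Z : F, Y * Z = -1 ∧ Y ^ 2 = 3 - Z ∧ Z ^ 2 = 3 * Z + Y ∧ ∀ j, 4 * a j = ev Y Z (Aw j) := by
  have hi : (2 : F) * (2 : F)⁻¹ = 1 := mul_inv_cancel₀ h2
  set i : F := (2 : F)⁻¹ with hidef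
  have hid : ∀ j, (1 : V ≃ₗ[F] V) (v j) = (1 : F) • v j := fun j => by rw [one_smul]; rfl
  have l0 := ho.trace_diag hv h2 h7 ha hid
  have hw1 : ((w * 1 : V ≃ₗ[F] V) : V →ₗ[F] V) = (w : V →ₗ[F] V) := by rw [mul_one]
  rw [hw1, ho.t0, Oc.trace_e0 hv ho.toWt h2 h7] at l0
  have l1 := ho.trace_diag hv h2 h7 ha (d := e0 * e1) (s := fun j => ((sg 0 j * sg 1 j : ℤ) : F)) (fun j => by
    show e0 (e1 (v j)) = _
    rw [hv.h1, map_smul, hv.h0, smul_smul]
    push_cast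
    rw [mul_comm])
  rw [ho.t1] at l1
  have l2 := ho.trace_diag hv h2 h7 ha (d := e0 * e2) (s := fun j => ((sg 0 j * sg 2 j : ℤ) : F)) (fun j => by
    show e0 (e2 (v j)) = _
    rw [hv.h2, map_smul, hv.h0, smul_smul]
    push_cast
    rw [mul_comm])
  rw [ho.t2] at l2
  have l3 := ho.trace_diag hv h2 h7 ha (d := e0 * (e1 * e2)) (s := fun j => ((sg 0 j * (sg 1 j * sg 2 j) : ℤ) : F))
    (fun j => by
      show e0 (e1 (e2 (v j))) = _
      rw [hv.h2, map_smul, hv.h1, smul_smul, map_smul, hv.h0, smul_smul]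
      push_cast
      congr 1
      ring)
  rw [ho.t3] at l3
  have ls := ho.trace_diag hv h2 h7 ha (d := e0) (s := fun j => ((sg 0 j : ℤ) : F)) (fun j => hv.h0 j)
  rw [ht] at ls
  have e11 := ho.braid hv h2 h7 ha 1 1
  have e15 := ho.braid hv h2 h7 ha 1 5
  have e13 := ho.braid hv h2 h7 ha 1 3
  simp [sg, Fin.sum_univ_seven] at l0 l1 l2 l3 ls e11 e15 e13
  have two : ∀ x y : F, 2 * x = 2 * y → x = y := fun x y h => mul_left_cancel₀ h2 h
  have a3 : a 3 = a 2 - a 0 := by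
    apply two
    linear_combination l1 + l3
  have a5 : a 5 = a 1 - a 0 := by
    apply two
    linear_combination l2 + l3
  have a6' : a 4 = a 0 + a 6 := by
    apply two
    linear_combination -l1 - l2
  have a4 : a 4 = a 0 - a 1 - a 2 - i := by
    apply two
    linear_combination -l0 - l1 + 2 * a5 * (-1) + hi
  have a6 : a 6 = -a 1 - a 2 - i := by linear_combination a4 - a6'
  have b0 : 4 * a 0 = -1 := by
    rw [a3, a4, a5, a6] at ls
    linear_combination ls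
  have b4 : 4 * i = 2 := by linear_combination 2 * hi
  have B1 : 4 * a 1 = (4 * a 1 + 1) - 1 := by ring
  have B2 : 4 * a 2 = (4 * a 2 + 2) - 2 := by ring
  have B3 : 4 * a 3 = (4 * a 2 + 2) - 1 := by rw [a3]; linear_combination -b0
  have B4 : 4 * a 4 = -(4 * a 1 + 1) - (4 * a 2 + 2) := by rw [a4]; linear_combination b0 - b4
  have B5 : 4 * a 5 = (4 * a 1 + 1) := by rw [a5]; linear_combination -b0
  have B6 : 4 * a 6 = 1 - (4 * a 1 + 1) - (4 * a 2 + 2) := by rw [a6]; linear_combination - b4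
  obtain ⟨Y, hY⟩ : ∃ Y, Y = 4 * a 1 + 1 := ⟨_, rfl⟩
  obtain ⟨Z, hZ⟩ : ∃ Z, Z = 4 * a 2 + 2 := ⟨_, rfl⟩
  rw [← hY] at B1 B4 B5 B6
  rw [← hZ] at B2 B3 B4 B6
  have four : ∀ x y : F, 4 * x = 4 * y → x = y := fun x y h => two _ _ (two _ _ (by linear_combination h))
  have g11 : -((4 * a 1) * (4 * a 1)) - (4 * a 2) * (4 * a 2) - (4 * a 3) * (4 * a 3) +
      (4 * a 4) * (4 * a 4) - (4 * a 5) * (4 * a 5) + (4 * a 6) * (4 * a 6) + (4 * a 0) * (4 * a 0) -
      4 * (4 * a 2) = 0 := by linear_combination 16 * e11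
  have g15 : -((4 * a 1) * (4 * a 5)) - (4 * a 2) * (4 * a 6) - (4 * a 3) * (4 * a 0) +
      (4 * a 4) * (4 * a 1) - (4 * a 5) * (4 * a 2) + (4 * a 6) * (4 * a 3) + (4 * a 0) * (4 * a 4) +
      4 * (4 * a 6) = 0 := by linear_combination 16 * e15
  have g13 : -((4 * a 1) * (4 * a 3)) - (4 * a 2) * (4 * a 4) - (4 * a 3) * (4 * a 5) +
      (4 * a 4) * (4 * a 6) - (4 * a 5) * (4 * a 0) + (4 * a 6) * (4 * a 1) + (4 * a 0) * (4 * a 2) +
      4 * (4 * a 4) = 0 := by linear_combination 16 * e13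
  rw [b0, B1, B2, B3, B4, B5, B6] at g11 g15 g13
  have hYZ : Y * Z = -1 := by
    apply four
    linear_combination g11
  refine ⟨Y, Z, hYZ, ?_, ?_, ?_⟩
  · apply two
    linear_combination -g15 - 2 * hYZ
  · apply two
    linear_combination g13
  · intro j
    fin_cases j
    · refine b0.trans ?_
      simp [ev, Aw]
    · refine B1.trans ?_
      simp [ev, Aw]
      ring
    · refine B2.trans ?_
      simp [ev, Aw]
      ring
    · refine B3.trans ?_
      simp [ev, Aw]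
      ring
    · refine B4.trans ?_
      simp [ev, Aw]
      ring
    · refine B5.trans ?_
      simp [ev, Aw]
    · refine B6.trans ?_
      simp [ev, Aw]
      ring

/-- the 3-form in a frame is invariant -/
theorem Oc.form {e0 e1 e2 c w : V ≃ₗ[F] V} {v : Fin 7 → V} (ho : Oc e0 e1 e2 c w)
    (hv : Frame e0 e1 e2 c v) (h2 : (2 : F) ≠ 0) (h7 : Module.finrank F V = 7)
    (ht : LinearMap.trace F V ((w * e0 : V ≃ₗ[F] V) : V →ₗ[F] V) = 1) (x y z : V) :
    f1 (hv.basis ho.toWt h2 h7) (w x) (w y) (w z) = f1 (hv.basis ho.toWt h2 h7) x y z := by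
  obtain ⟨a, ha⟩ : ∃ a : Fin 7 → F, w (v 0) = ∑ j, a j • v j := by
    refine ⟨fun j => (hv.basis ho.toWt h2 h7).repr (w (v 0)) j, ?_⟩
    conv_lhs => rw [← (hv.basis ho.toWt h2 h7).sum_repr (w (v 0))]
    simp only [hv.basis_apply]
  obtain ⟨Y, Z, h1, h3, h4, h5⟩ := ho.solve1 hv h2 h7 ha ht
  have hw := ho.w_apply hv ha
  set b := hv.basis ho.toWt h2 h7 with hb
  refine inv_of_basis b (g := (w : V →ₗ[F] V)) (fun i j k => ?_) x y z
  have hr : ∀ i, b.equivFun (w (b i)) = fun m => a (m + i) := by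
    intro i
    funext m
    have : w (b i) = ∑ k, a (k + i) • b k := by
      simp only [hb, hv.basis_apply]
      exact hw i
    rw [this, Module.Basis.equivFun_apply, map_sum]
    simp [Finsupp.single_apply]
  have h4' : (4 : F) ≠ 0 := by
    have : (4 : F) = 2 * 2 := by norm_num
    rw [this]
    exact mul_ne_zero h2 h2
  have h64 : (64 : F) ≠ 0 := by
    have : (64 : F) = 4 * 4 * 4 := by norm_num
    rw [this]
    exact mul_ne_zero (mul_ne_zero h4' h4') h4'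
  apply mul_left_cancel₀ h64
  have e1 : f1 b ((w : V →ₗ[F] V) (b i)) ((w : V →ₗ[F] V) (b j)) ((w : V →ₗ[F] V) (b k)) =
      F1 (fun m => a (m + i)) (fun m => a (m + j)) (fun m => a (m + k)) := by
    rw [← hr, ← hr, ← hr]
    rfl
  have e2 : 64 * F1 (fun m => a (m + i)) (fun m => a (m + j)) (fun m => a (m + k)) =
      F1 (fun m => 4 * a (m + i)) (fun m => 4 * a (m + j)) (fun m => 4 * a (m + k)) := by
    simp only [F1, d3]
    ring
  rw [e1, e2]
  simp only [h5]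
  rw [← ev_F1 h1 h3 h4 (fun m => Aw (m + i)) (fun m => Aw (m + j)) (fun m => Aw (m + k)), table,
    f1_basis]
  simp [ev]

/-- **`L₂(8)` in Ω₇** : an invariant alternating 3-form -/
theorem _root_.Cfsg.Agent.H856.Sv.Max7.l28_form [Finite F] {Q : QuadraticForm F V}
    {H P : Subgroup (V ≃ₗ[F] V)}
    (hM : Max7 Q H P) {K : Type*} [Field K] [Fintype K] (hK : Fintype.card K = 8)
    (ρ : SpecialLinearGroup (Fin 2) K →* (V ≃ₗ[F] V)) (hρ : Function.Injective ρ) (hr : ρ.range = P) :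
    ∃ f : V →ₗ[F] V →ₗ[F] V →ₗ[F] F, IsAltForm f ∧ f ≠ 0 ∧
      ∀ g ∈ P, ∀ x y z, f (g x) (g y) (g z) = f x y z := by
  have ht := hM.l28 hK ρ hρ hr
  have h2 := hM.two_ne
  have h7 := hM.finrank_eq
  have hfin := hM.finiteDim
  obtain ⟨b, hb⟩ := exists_beta hK
  have ho := oc_of hK hb ρ hρ h2 h7
  obtain ⟨v, hv⟩ := ho.toWt.frame h2
  set bs := hv.basis ho.toWt h2 h7 with hbs
  have hba : ∀ i, bs i = v i := fun i => hv.basis_apply ho.toWt h2 h7 i
  refine ⟨f1 bs, f1_isAlt _, f1_ne _, ?_⟩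
  let S : Subgroup (SpecialLinearGroup (Fin 2) K) :=
    { carrier := {g | ∀ x y z, f1 bs (ρ g x) (ρ g y) (ρ g z) = f1 bs x y z}
      mul_mem' := fun {g h} hg hh x y z => by
        rw [map_mul]
        exact (hg _ _ _).trans (hh _ _ _)
      one_mem' := fun x y z => by rw [map_one]; rfl
      inv_mem' := fun {g} hg x y z => by
        have h1 := hg (ρ g⁻¹ x) (ρ g⁻¹ y) (ρ g⁻¹ z)
        have h3 : ∀ x, ρ g (ρ g⁻¹ x) = x := fun x => by
          show (ρ g * ρ g⁻¹) x = x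
          rw [← map_mul, mul_inv_cancel, map_one]; rfl
        rw [h3, h3, h3] at h1
        exact h1.symm }
  have hd : ∀ (g : SpecialLinearGroup (Fin 2) K) (s : Fin 7 → ℤ),
      (∀ i, ρ g (v i) = ((s i : ℤ) : F) • v i) →
      (∀ i j k : Fin 7, s i * s j * s k * F1Z (ei i) (ei j) (ei k) = F1Z (ei i) (ei j) (ei k)) →
      g ∈ S := by
    intro g s hg hs x y z
    refine inv_of_basis bs (g := (ρ g : V →ₗ[F] V)) (fun i j k => ?_) x y z
    show f1 bs (ρ g (bs i)) (ρ g (bs j)) (ρ g (bs k)) = f1 bs (bs i) (bs j) (bs k)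
    rw [hba i, hba j, hba k, hg, hg, hg, ← hba i, ← hba j, ← hba k]
    simp only [map_smul, LinearMap.smul_apply, smul_eq_mul]
    rw [f1_basis]
    have h3 := congrArg (Int.cast : ℤ → F) (hs i j k)
    push_cast at h3
    linear_combination h3
  have hS : S = ⊤ := by
    refine gen_sl hK S (b_ne_one hK hb) ?_ ?_ ?_
    · exact hd _ _ hv.h0 table_sign
    · show ∀ x y z, f1 bs (ρ (t (b ^ 4)) x) (ρ (t (b ^ 4)) y) (ρ (t (b ^ 4)) z) = f1 bs x y z
      intro x y z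
      refine inv_of_basis bs (g := (ρ (t (b ^ 4)) : V →ₗ[F] V)) (fun i j k => ?_) x y z
      show f1 bs (ρ (t (b ^ 4)) (bs i)) (ρ (t (b ^ 4)) (bs j)) (ρ (t (b ^ 4)) (bs k)) = f1 bs (bs i) (bs j) (bs k)
      rw [hba i, hba j, hba k, hv.hc, hv.hc, hv.hc, ← hba i, ← hba j, ← hba k, ← hba, ← hba, ← hba,
        f1_basis, f1_basis, table_shift]
    · exact ho.form hv h2 h7 ht
  intro g hg x y z
  rw [← hr] at hg
  obtain ⟨g, rfl⟩ := hg
  have : g ∈ S := by rw [hS]; trivial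
  exact this x y z

end Cfsg.Agent.H856.Sw
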