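import Mathlib
import Cfsg.Agent.SporadicA.MathieuRecog
import Cfsg.Agent.SporadicA.OctadFix
import Cfsg.Agent.SporadicA.GolayWeight
import Cfsg.Agent.S0363
import Cfsg.Agent.J4Type.POuter
import Cfsg.Agent.J4Type.NonAb
import Cfsg.Agent.J4Type.TauF

/-!
# Elements of order 3 of `M22` and `M24`

Adapted from `Cfsg.Agent.BpSpor.JFourThree` (small import closure):
* `fixed_le` : an element of order 3 of `M24` fixes at most six points;
* `exists_pow` : Sylow 3-subgroups of order 9;
* `exists_conj_s` : the elements of order 3 of `M22` are conjugate;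
* `w0`, `wi` (the scalars `ω`, `ω²`), `m1`, `m2`, `m3`, `k0`, `k1`, `k2`, `eq_w0`.
-/

set_option autoImplicit false

namespace Cfsg.Agent.H856.ThreeM24

open Cfsg Cfsg.Agent.SporadicA.GolayBase Cfsg.Agent.SporadicA.GolayPerm Cfsg.Agent.SporadicA.OctadFix
open Cfsg.Agent.J4Type Cfsg.Agent.J4Type.CocodeMask Cfsg.Agent.J4Type.POuter
open scoped Pointwise

section Fix

/-- the fixed points -/
def fx (g : Equiv.Perm GolayPt) : Finset GolayPt := Finset.univ.filter fun x => g x = x

theorem mem_fx {g : Equiv.Perm GolayPt} {x : GolayPt} : x ∈ fx g ↔ g x = x := by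
  simp [fx]

theorem card_modEq {g : Equiv.Perm GolayPt} (hg : g ^ 3 = 1) (S : Finset GolayPt) (hS : ∀ x ∈ S, g x ∈ S) :
    S.card ≡ (S ∩ fx g).card [MOD 3] := by
  classical
  have h3 : Fact (Nat.Prime 3) := ⟨Nat.prime_three⟩
  let f : Function.End S := fun x => ⟨g x, hS x x.2⟩
  have hf : f ^ 3 ^ 1 = 1 := by
    funext x
    apply Subtype.ext
    have h1 : (g ^ 3) (x : GolayPt) = x := by rw [hg]; rfl
    exact h1
  have h1 := Equiv.Perm.card_fixedPoints_modEq (p := 3) (n := 1) hf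
  have h2 : Fintype.card (Function.fixedPoints f) = (S ∩ fx g).card := by
    rw [← Fintype.card_coe]
    refine Fintype.card_congr ⟨fun x => ⟨x.1.1, Finset.mem_inter.2 ⟨x.1.2, mem_fx.2 (congrArg Subtype.val x.2)⟩⟩,
      fun x => ⟨⟨x.1, (Finset.mem_inter.1 x.2).1⟩, Subtype.ext (mem_fx.1 (Finset.mem_inter.1 x.2).2)⟩,
      fun x => rfl, fun x => rfl⟩
  rw [h2, Fintype.card_coe] at h1
  exact h1

/-- an octad containing five fixed points is invariant and has exactly these fixed points -/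
theorem octad_of_five {g : Equiv.Perm GolayPt} (hM : g ∈ M24) (hg : g ^ 3 = 1) (h1 : g ≠ 1) {A : Finset GolayPt}
    (hA : A.card = 5) (hF : A ⊆ fx g) : ∃ o ∈ octads, A ⊆ o ∧ (∀ x ∈ o, g x ∈ o) ∧ o ∩ fx g = A := by
  classical
  have hSt : IsSteinerSystem 5 8 octads := S0363.result
  obtain ⟨o, ⟨ho, hAo⟩, hu⟩ := hSt.2 A hA
  have hgA : ∀ x ∈ A, g x = x := fun x hx => mem_fx.1 (hF hx)
  have hgo : g • o = o := by
    apply hu
    refine ⟨(smul_mem_octads hM).2 ho, fun x hx => ?_⟩
    rw [← hgA x hx]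
    exact (mem_smul_iff g o x).2 (hAo hx)
  have hinv : ∀ x ∈ o, g x ∈ o := fun x hx => by
    have := (mem_smul_iff g o x).2 hx
    rwa [hgo] at this
  have hsub : A ⊆ o ∩ fx g := Finset.subset_inter hAo hF
  refine ⟨o, ho, hAo, hinv, ?_⟩
  have h8 : o.card = 8 := octad_card ho
  have hmod := card_modEq hg o hinv
  have hle : (o ∩ fx g).card ≤ 8 := h8 ▸ Finset.card_le_card Finset.inter_subset_left
  have hge : 5 ≤ (o ∩ fx g).card := hA ▸ Finset.card_le_card hsub
  have hcard : (o ∩ fx g).card = 5 ∨ (o ∩ fx g).card = 8 := by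
    rw [h8] at hmod
    unfold Nat.ModEq at hmod
    omega
  rcases hcard with h | h
  · exact (Finset.eq_of_subset_of_card_le hsub (by rw [h, hA])).symm
  · exfalso
    have ho' : o ∩ fx g = o := Finset.eq_of_subset_of_card_le Finset.inter_subset_left (by rw [h, h8])
    have hfo : g ∈ fixOct o := mem_fixOct.2 ⟨hM, fun x hx => by
      rw [← ho'] at hx
      exact mem_fx.1 (Finset.mem_inter.1 hx).2⟩
    have h2 := fixOct_sq ho hfo
    apply h1
    have h3 : g ^ 3 = g * g * g := by rw [pow_succ, pow_two]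
    rw [h3, h2, one_mul] at hg
    exact hg

/-- an element of order 3 fixes at most six points -/
theorem fixed_le {g : Equiv.Perm GolayPt} (hM : g ∈ M24) (hg : g ^ 3 = 1) (h1 : g ≠ 1) : (fx g).card ≤ 6 := by
  classical
  by_contra hcon
  have h7 : 7 ≤ (fx g).card := by omega
  -- a set `S` of 7 fixed points, `T ⊆ S` with 3 points, `A = T ∪ U`, `B = T ∪ V`
  obtain ⟨S, hSF, hS⟩ := Finset.exists_subset_card_eq h7
  obtain ⟨T, hTS, hT⟩ := Finset.exists_subset_card_eq (show 3 ≤ S.card by omega)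
  have hD : (S \ T).card = 4 := by rw [Finset.card_sdiff_of_subset hTS]; omega
  obtain ⟨U, hUS, hU⟩ := Finset.exists_subset_card_eq (show 2 ≤ (S \ T).card by omega)
  set V := (S \ T) \ U with hV
  have hVc : V.card = 2 := by rw [hV, Finset.card_sdiff_of_subset hUS]; omega
  have hVS : V ⊆ S \ T := Finset.sdiff_subset
  have hTU : Disjoint T U := Finset.disjoint_left.2 fun x hx hx' => (Finset.mem_sdiff.1 (hUS hx')).2 hx
  have hTV : Disjoint T V := Finset.disjoint_left.2 fun x hx hx' => (Finset.mem_sdiff.1 (hVS hx')).2 hx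
  have hUV : Disjoint U V := Finset.disjoint_left.2 fun x hx hx' => (Finset.mem_sdiff.1 (hV ▸ hx')).2 hx
  have hsub : ∀ W ⊆ S \ T, T ∪ W ⊆ fx g := fun W hW =>
    Finset.union_subset (hTS.trans hSF) ((hW.trans Finset.sdiff_subset).trans hSF)
  obtain ⟨o, ho, hAo, hoi, hof⟩ := octad_of_five hM hg h1 (A := T ∪ U)
    (by rw [Finset.card_union_of_disjoint hTU, hT, hU]) (hsub U hUS)
  obtain ⟨o', ho', hBo, hoi', hof'⟩ := octad_of_five hM hg h1 (A := T ∪ V)
    (by rw [Finset.card_union_of_disjoint hTV, hT, hVc]) (hsub V hVS)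
  have hI : (o ∩ o') ∩ fx g = T := by
    have h2 : (o ∩ o') ∩ fx g = (o ∩ fx g) ∩ (o' ∩ fx g) := by
      ext x
      simp only [Finset.mem_inter]
      tauto
    rw [h2, hof, hof', ← Finset.union_inter_distrib_left, Finset.disjoint_iff_inter_eq_empty.1 hUV,
      Finset.union_empty]
  have hmod := card_modEq hg (o ∩ o') (fun x hx => Finset.mem_inter.2
    ⟨hoi x (Finset.mem_inter.1 hx).1, hoi' x (Finset.mem_inter.1 hx).2⟩)
  rw [hI, hT] at hmod
  have hne : o ≠ o' := by
    rintro rfl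
    have h2 : T ∪ U = T ∪ V := hof.symm.trans hof'
    have h3 : U ⊆ V := by
      intro x hx
      have h4 : x ∈ T ∪ V := h2 ▸ Finset.mem_union_right _ hx
      rcases Finset.mem_union.1 h4 with h5 | h5
      · exact absurd hx (Finset.disjoint_left.1 hTU h5)
      · exact h5
    obtain ⟨x, hx⟩ : U.Nonempty := Finset.card_pos.1 (by omega)
    exact Finset.disjoint_left.1 hUV hx (h3 hx)
  have hle : (o ∩ o').card < 5 := by
    by_contra h5
    exact hne (octad_unique ho ho' (by omega))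
  have heven : Even (o ∩ o').card := by
    obtain ⟨v, hv, rfl⟩ := ho.1
    obtain ⟨w, hw, rfl⟩ := ho'.1
    exact SporadicA.GolayWeight.even_card_inter hv hw
  have hge : 3 ≤ (o ∩ o').card := by
    rw [← hT]
    exact Finset.card_le_card (hI ▸ Finset.inter_subset_left)
  obtain ⟨m, hm⟩ := heven
  unfold Nat.ModEq at hmod
  omega

end Fix

/-! ### groups of order not divisible by 27 -/

theorem pow_red {G : Type*} [Group G] {a : G} (ha : a ^ 3 = 1) (n : ℕ) : a ^ n = a ^ (n % 3) := by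
  conv_lhs => rw [← Nat.div_add_mod n 3, pow_add, pow_mul, ha, one_pow, one_mul]

theorem exists_pow {G : Type*} [Group G] [Finite G] {a b x : G} (ha : a ^ 3 = 1) (hb : b ^ 3 = 1)
    (hab : a * b = b * a) (ha1 : a ≠ 1) (hb1 : b ≠ 1) (hne : b ≠ a) (hne2 : b ≠ a ^ 2) (h27 : ¬ 27 ∣ Nat.card G)
    (hx : x ^ 3 = 1) : ∃ g : G, ∃ i < 3, ∃ j < 3, g * x * g⁻¹ = a ^ i * b ^ j := by
  have hp : Fact (Nat.Prime 3) := ⟨Nat.prime_three⟩
  have hc : Commute a b := hab
  let E : Subgroup G :=
    { carrier := {g | ∃ i j : ℕ, g = a ^ i * b ^ j}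
      one_mem' := ⟨0, 0, by rw [pow_zero, pow_zero, one_mul]⟩
      mul_mem' := by
        rintro _ _ ⟨i, j, rfl⟩ ⟨k, l, rfl⟩
        refine ⟨i + k, j + l, ?_⟩
        have h2 := (hc.pow_pow k j).eq
        calc a ^ i * b ^ j * (a ^ k * b ^ l) = a ^ i * (b ^ j * a ^ k) * b ^ l := by group
          _ = a ^ i * (a ^ k * b ^ j) * b ^ l := by rw [h2]
          _ = _ := by rw [pow_add, pow_add]; simp only [mul_assoc]
      inv_mem' := by
        rintro _ ⟨i, j, rfl⟩
        refine ⟨2 * i, 2 * j, ?_⟩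
        rw [inv_eq_iff_mul_eq_one]
        have h1 : a ^ i * b ^ j * (a ^ (2 * i) * b ^ (2 * j)) = (a ^ i * a ^ (2 * i)) * (b ^ j * b ^ (2 * j)) := by
          have h2 := (hc.pow_pow (2 * i) j).eq
          calc a ^ i * b ^ j * (a ^ (2 * i) * b ^ (2 * j)) = a ^ i * (b ^ j * a ^ (2 * i)) * b ^ (2 * j) := by group
            _ = a ^ i * (a ^ (2 * i) * b ^ j) * b ^ (2 * j) := by rw [h2]
            _ = _ := by group
        rw [h1, ← pow_add, ← pow_add, show i + 2 * i = 3 * i by ring, show j + 2 * j = 3 * j by ring, pow_mul, pow_mul,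
          ha, hb, one_pow, one_pow, one_mul] }
  have haE : a ∈ E := ⟨1, 0, by rw [pow_one, pow_zero, mul_one]⟩
  have hbE : b ∈ E := ⟨0, 1, by rw [pow_one, pow_zero, one_mul]⟩
  have hE3 : IsPGroup 3 E := by
    rintro ⟨_, i, j, rfl⟩
    refine ⟨1, Subtype.ext ?_⟩
    change (a ^ i * b ^ j) ^ 3 ^ 1 = 1
    rw [pow_one, (hc.pow_pow i j).mul_pow, ← pow_mul, ← pow_mul, mul_comm i, mul_comm j, pow_mul, pow_mul, ha, hb,
      one_pow, one_pow, one_mul]
  have h9 : 9 ∣ Nat.card E := by
    have h1 := NonAb.nine_dvd ha hb hab ha1 hb1 hne hne2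
    refine h1.trans (Subgroup.card_dvd_of_le ?_)
    rw [Subgroup.closure_le]
    rintro y (rfl | rfl) <;> assumption
  obtain ⟨P0, hP0⟩ := hE3.exists_le_sylow
  have hP0E : (P0 : Subgroup G) = E := by
    symm
    apply Subgroup.eq_of_le_of_card_ge hP0
    obtain ⟨k, hk⟩ := IsPGroup.iff_card.1 P0.isPGroup'
    have hk2 : k ≤ 2 := by
      by_contra hcon
      apply h27
      have h1 : 3 ^ 3 ∣ Nat.card (P0 : Subgroup G) := by rw [hk]; exact pow_dvd_pow 3 (by omega)
      exact h1.trans (Subgroup.card_subgroup_dvd_card _)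
    have h2 : Nat.card (P0 : Subgroup G) ≤ 9 := by
      rw [hk]
      exact Nat.pow_le_pow_right (by norm_num) hk2
    exact h2.trans (Nat.le_of_dvd Nat.card_pos h9)
  have hX : IsPGroup 3 (Subgroup.zpowers x) := by
    by_cases h1 : x = 1
    · rw [h1, Subgroup.zpowers_one_eq_bot]
      exact IsPGroup.of_bot
    · exact IsPGroup.of_card (n := 1) (by rw [Nat.card_zpowers, orderOf_eq_prime hx h1, pow_one])
  obtain ⟨P1, hP1⟩ := hX.exists_le_sylow
  obtain ⟨g, hg⟩ := MulAction.exists_smul_eq G P1 P0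
  have h1 : g * x * g⁻¹ ∈ (g • P1 : Sylow 3 G) := by
    rw [Sylow.smul_def]
    exact ⟨x, hP1 (Subgroup.mem_zpowers x), rfl⟩
  rw [hg] at h1
  have h2 : g * x * g⁻¹ ∈ E := by rw [← hP0E]; exact h1
  obtain ⟨i, j, h3⟩ := h2
  exact ⟨g, i % 3, Nat.mod_lt _ (by norm_num), j % 3, Nat.mod_lt _ (by norm_num), by
    rw [h3, pow_red ha, pow_red hb]⟩

/-! ### `M22` -/

/-- conjugators: `W i j` conjugates `s` to `s ^ i * s' ^ j` -/
noncomputable def W01 : M24 := mk 961084845295059645748310013364352480 (by decide +kernel)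
noncomputable def W02 : M24 := mk 974056445370116930039155354356558432 (by decide +kernel)
noncomputable def W10 : M24 := mk 964047153136528238632070594795538560 (by decide +kernel)
noncomputable def W11 : M24 := mk 976276881719958416183961576046907712 (by decide +kernel)
noncomputable def W12 : M24 := mk 973619688912755810814686491894255680 (by decide +kernel)
noncomputable def W20 : M24 := mk 974419822437953083829865303938516096 (by decide +kernel)
noncomputable def W21 : M24 := mk 976607456807732067548877666573914656 (by decide +kernel)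
noncomputable def W22 : M24 := mk 966541175943265153031039510299464000 (by decide +kernel)

theorem conj01 : W01 * s = s' * W01 := eq_of_tab ((isTab_mk _ _).mul tab_s) (tab_s'.mul (isTab_mk _ _)) (by decide +kernel)
theorem conj02 : W02 * s = s' * s' * W02 :=
  eq_of_tab ((isTab_mk _ _).mul tab_s) ((tab_s'.mul tab_s').mul (isTab_mk _ _)) (by decide +kernel)
theorem conj10 : W10 * s = s * W10 := eq_of_tab ((isTab_mk _ _).mul tab_s) (tab_s.mul (isTab_mk _ _)) (by decide +kernel)
theorem conj11 : W11 * s = s * s' * W11 :=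
  eq_of_tab ((isTab_mk _ _).mul tab_s) ((tab_s.mul tab_s').mul (isTab_mk _ _)) (by decide +kernel)
theorem conj12 : W12 * s = s * (s' * s') * W12 :=
  eq_of_tab ((isTab_mk _ _).mul tab_s) ((tab_s.mul (tab_s'.mul tab_s')).mul (isTab_mk _ _)) (by decide +kernel)
theorem conj20 : W20 * s = s * s * W20 :=
  eq_of_tab ((isTab_mk _ _).mul tab_s) ((tab_s.mul tab_s).mul (isTab_mk _ _)) (by decide +kernel)
theorem conj21 : W21 * s = s * s * s' * W21 :=
  eq_of_tab ((isTab_mk _ _).mul tab_s) (((tab_s.mul tab_s).mul tab_s').mul (isTab_mk _ _)) (by decide +kernel)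
theorem conj22 : W22 * s = s * s * (s' * s') * W22 :=
  eq_of_tab ((isTab_mk _ _).mul tab_s) (((tab_s.mul tab_s).mul (tab_s'.mul tab_s')).mul (isTab_mk _ _))
    (by decide +kernel)

theorem mem22 {g : M24} {P : ℕ} (hg : IsTab g P) (h1 : papp P 23 = 23) (h2 : papp P 0 = 0) :
    (g : Equiv.Perm GolayPt) ∈ Spor.M22 := by
  rw [Cfsg.Agent.SporadicA.MathieuRecog.mem_M22_iff]
  exact ⟨g.2, apply_eq hg h1, apply_eq hg h2⟩

/-- **the elements of order 3 of `M22` are conjugate** -/
theorem exists_conj_s {x : Equiv.Perm GolayPt} (hx : x ∈ Spor.M22) (h3 : x ^ 3 = 1) (h1 : x ≠ 1) :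
    ∃ w ∈ Spor.M22, w * x * w⁻¹ = (s : Equiv.Perm GolayPt) := by
  have hcard : Nat.card Spor.M22 = 443520 := Cfsg.Agent.SporadicA.MathieuRecog.card_M22
  have hfin : Finite Spor.M22 := Nat.finite_of_card_ne_zero (by rw [hcard]; norm_num)
  let S : Spor.M22 := ⟨(s : Equiv.Perm GolayPt), s_mem⟩
  let S' : Spor.M22 := ⟨(s' : Equiv.Perm GolayPt), s'_mem⟩
  have hv : ∀ {g h : M24}, g = h → (g : Equiv.Perm GolayPt) = h := fun e => congrArg Subtype.val e
  have hn : ∀ {g h : M24}, g ≠ h → (g : Equiv.Perm GolayPt) ≠ h := fun e e' => e (Subtype.ext e')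
  obtain ⟨g, i, hi, j, hj, hg⟩ := exists_pow (G := Spor.M22) (a := S) (b := S') (x := ⟨x, hx⟩)
    (Subtype.ext (hv s_cube)) (Subtype.ext (hv s'_cube)) (Subtype.ext (hv s_comm))
    (fun h => hn s_ne (congrArg (fun y : Spor.M22 => (y : Equiv.Perm GolayPt)) h))
    (fun h => hn s'_ne (congrArg (fun y : Spor.M22 => (y : Equiv.Perm GolayPt)) h))
    (fun h => hn s'_ne_s (congrArg (fun y : Spor.M22 => (y : Equiv.Perm GolayPt)) h))
    (fun h => hn s'_ne_s2 (congrArg (fun y : Spor.M22 => (y : Equiv.Perm GolayPt)) h))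
    (by rw [hcard]; norm_num) (Subtype.ext h3)
  have hg' : (g : Equiv.Perm GolayPt) * x * (g : Equiv.Perm GolayPt)⁻¹ =
      (s : Equiv.Perm GolayPt) ^ i * (s' : Equiv.Perm GolayPt) ^ j := congrArg Subtype.val hg
  have key : ∀ (w : M24), (w : Equiv.Perm GolayPt) ∈ Spor.M22 →
      (w : Equiv.Perm GolayPt) * s = (s : Equiv.Perm GolayPt) ^ i * (s' : Equiv.Perm GolayPt) ^ j * w →
      ∃ w ∈ Spor.M22, w * x * w⁻¹ = (s : Equiv.Perm GolayPt) := by
    intro w hw h
    refine ⟨(w : Equiv.Perm GolayPt)⁻¹ * g, Spor.M22.mul_mem (Spor.M22.inv_mem hw) g.2, ?_⟩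
    calc (w : Equiv.Perm GolayPt)⁻¹ * g * x * ((w : Equiv.Perm GolayPt)⁻¹ * g)⁻¹
        = (w : Equiv.Perm GolayPt)⁻¹ * ((g : Equiv.Perm GolayPt) * x * (g : Equiv.Perm GolayPt)⁻¹) * w := by group
      _ = (w : Equiv.Perm GolayPt)⁻¹ * ((w : Equiv.Perm GolayPt) * s) := by rw [hg', h, mul_assoc]
      _ = s := by group
  interval_cases i <;> interval_cases j
  · exfalso
    apply h1
    rw [pow_zero, pow_zero, one_mul] at hg'
    calc x = (g : Equiv.Perm GolayPt)⁻¹ * ((g : Equiv.Perm GolayPt) * x * (g : Equiv.Perm GolayPt)⁻¹) * g := by group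
      _ = 1 := by rw [hg']; group
  · exact key W01 (mem22 (isTab_mk _ _) (by decide +kernel) (by decide +kernel)) (by
      rw [pow_zero, one_mul, pow_one]; exact hv conj01)
  · exact key W02 (mem22 (isTab_mk _ _) (by decide +kernel) (by decide +kernel)) (by
      rw [pow_zero, one_mul, pow_two]; exact hv conj02)
  · exact key W10 (mem22 (isTab_mk _ _) (by decide +kernel) (by decide +kernel)) (by
      rw [pow_zero, mul_one, pow_one]; exact hv conj10)
  · exact key W11 (mem22 (isTab_mk _ _) (by decide +kernel) (by decide +kernel)) (by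
      rw [pow_one, pow_one]; exact hv conj11)
  · exact key W12 (mem22 (isTab_mk _ _) (by decide +kernel) (by decide +kernel)) (by
      rw [pow_one, pow_two]; exact hv conj12)
  · exact key W20 (mem22 (isTab_mk _ _) (by decide +kernel) (by decide +kernel)) (by
      rw [pow_two, pow_zero, mul_one]; exact hv conj20)
  · exact key W21 (mem22 (isTab_mk _ _) (by decide +kernel) (by decide +kernel)) (by
      rw [pow_two, pow_one]; exact hv conj21)
  · exact key W22 (mem22 (isTab_mk _ _) (by decide +kernel) (by decide +kernel)) (by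
      rw [pow_two, pow_two]; exact hv conj22)

/-! ### the centralizer of `w0` -/

/-- the scalar `ω` -/
noncomputable def w0 : M24 := mk 973047580892981701841065988820402241 (by decide +kernel)
/-- the scalar `ω²` -/
noncomputable def wi : M24 := mk 976407453246317410417703175176946690 (by decide +kernel)
noncomputable def m1 : M24 := mk 127474531739629244221854885702944197 (by decide +kernel)
noncomputable def m2 : M24 := mk 976531636853126291160407323722221600 (by decide +kernel)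
noncomputable def m3 : M24 := mk 979416905286026856737440949975746592 (by decide +kernel)
noncomputable def k0 : M24 := mk 357201665476826090278746034572345793 (by decide +kernel)
noncomputable def k1 : M24 := mk 528846132829466376341609422722907444 (by decide +kernel)
noncomputable def k2 : M24 := mk 513458722804467891213433928739509459 (by decide +kernel)

theorem w0_mul_wi : w0 * wi = 1 := eq_of_tab ((isTab_mk _ _).mul (isTab_mk _ _)) isTab_one (by decide +kernel)
theorem w0_cube : w0 * w0 * w0 = 1 :=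
  eq_of_tab (((isTab_mk _ _).mul (isTab_mk _ _)).mul (isTab_mk _ _)) isTab_one (by decide +kernel)
theorem m1_cube : m1 * m1 * m1 = 1 :=
  eq_of_tab (((isTab_mk _ _).mul (isTab_mk _ _)).mul (isTab_mk _ _)) isTab_one (by decide +kernel)
theorem comm1 : w0 * m1 = m1 * w0 :=
  eq_of_tab ((isTab_mk _ _).mul (isTab_mk _ _)) ((isTab_mk _ _).mul (isTab_mk _ _)) (by decide +kernel)
theorem comm2 : w0 * m2 = m2 * w0 :=
  eq_of_tab ((isTab_mk _ _).mul (isTab_mk _ _)) ((isTab_mk _ _).mul (isTab_mk _ _)) (by decide +kernel)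
theorem comm3 : w0 * m3 = m3 * w0 :=
  eq_of_tab ((isTab_mk _ _).mul (isTab_mk _ _)) ((isTab_mk _ _).mul (isTab_mk _ _)) (by decide +kernel)
theorem k0_conj : k0 * w0 = m1 * k0 :=
  eq_of_tab ((isTab_mk _ _).mul (isTab_mk _ _)) ((isTab_mk _ _).mul (isTab_mk _ _)) (by decide +kernel)
theorem k1_conj : k1 * w0 = w0 * m1 * k1 :=
  eq_of_tab ((isTab_mk _ _).mul (isTab_mk _ _)) (((isTab_mk _ _).mul (isTab_mk _ _)).mul (isTab_mk _ _))
    (by decide +kernel)
theorem k2_conj : k2 * w0 = w0 * w0 * m1 * k2 :=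
  eq_of_tab ((isTab_mk _ _).mul (isTab_mk _ _))
    ((((isTab_mk _ _).mul (isTab_mk _ _)).mul (isTab_mk _ _)).mul (isTab_mk _ _)) (by decide +kernel)

/-- multiplication by the powers of `ω` -/
def rot (e : Fin 3) (c : Fin 4) : Fin 4 := (![![0, 1, 2, 3], ![0, 2, 3, 1], ![0, 3, 1, 2]] : Fin 3 → Fin 4 → Fin 4) e c

theorem rot_rot : ∀ e f c, rot e (rot f c) = rot (e + f) c := by decide

theorem rot_zero : ∀ c, rot 0 c = c := by decide

theorem exists_rot : ∀ τ : Fin 4 → Fin 4, τ 0 = 0 → (∀ c, τ (τ (τ c)) = c) → ∃ e, ∀ c, τ c = rot e c := by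
  decide +kernel

theorem mog_inj : ∀ i c c', mog i c = mog i c' → c = c' := by decide +kernel

theorem exists_mog : ∀ p : GolayPt, ∃ i c, p = mog i c := by decide +kernel

theorem mem_tet {i : Fin 6} {p : GolayPt} : p ∈ tet i ↔ ∃ c, mog i c = p := by
  unfold tet
  rw [Finset.mem_image]
  simp

theorem card_tet : ∀ i, (tet i).card = 4 := by decide +kernel

theorem smul_tet {g : Equiv.Perm GolayPt} {i j : Fin 6} (h : ∀ c, ∃ c', g (mog i c) = mog j c') :
    g • tet i = tet j := by
  apply Finset.eq_of_subset_of_card_le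
  · intro p hp
    obtain ⟨q, hq, rfl⟩ := Finset.mem_smul_finset.1 hp
    obtain ⟨c, rfl⟩ := mem_tet.1 hq
    obtain ⟨c', hc⟩ := h c
    exact mem_tet.2 ⟨c', hc.symm⟩
  · rw [Finset.card_smul_finset, card_tet, card_tet]

theorem w0_mog (i : Fin 6) (c : Fin 4) : (w0 : Equiv.Perm GolayPt) (mog i c) = mog i (rot 1 c) :=
  apply_eq (isTab_mk _ _) (by revert i c; decide +kernel)

theorem wi_mog (i : Fin 6) (c : Fin 4) : (wi : Equiv.Perm GolayPt) (mog i c) = mog i (rot 2 c) :=
  apply_eq (isTab_mk _ _) (by revert i c; decide +kernel)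

/-- the permutations of the tetrads -/
def s1 : Fin 6 → Fin 6 := ![1, 2, 0, 3, 4, 5]
def s2 : Fin 6 → Fin 6 := ![0, 1, 2, 4, 5, 3]
def s3 : Fin 6 → Fin 6 := ![0, 1, 3, 4, 2, 5]

theorem m1_mog (i : Fin 6) (c : Fin 4) :
    (m1 : Equiv.Perm GolayPt) (mog i c) = mog (s1 i) (rot ((![0, 0, 0, 0, 2, 1] : Fin 6 → Fin 3) i) c) :=
  apply_eq (isTab_mk _ _) (by revert i c; decide +kernel)

theorem m2_mog (i : Fin 6) (c : Fin 4) :
    (m2 : Equiv.Perm GolayPt) (mog i c) = mog (s2 i) (rot ((![0, 1, 2, 0, 0, 0] : Fin 6 → Fin 3) i) c) :=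
  apply_eq (isTab_mk _ _) (by revert i c; decide +kernel)

theorem m3_mog (i : Fin 6) (c : Fin 4) :
    (m3 : Equiv.Perm GolayPt) (mog i c) = mog (s3 i) (rot ((![0, 2, 1, 2, 0, 1] : Fin 6 → Fin 3) i) c) :=
  apply_eq (isTab_mk _ _) (by revert i c; decide +kernel)

/-- nine points -/
def nine (i : Fin 6) : Finset GolayPt := tet i ∪ Finset.univ.image (fun j : Fin 6 => mog j 0)

theorem card_nine : ∀ i, (nine i).card = 9 := by decide +kernel

theorem eq_one_of_nine {h : M24} (h3 : h ^ 3 = 1) {i : Fin 6}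
    (hf : ∀ c, (h : Equiv.Perm GolayPt) (mog i c) = mog i c)
    (hp : ∀ j, (h : Equiv.Perm GolayPt) (mog j 0) = mog j 0) : h = 1 := by
  by_contra h1
  have h2 := fixed_le h.2 (congrArg (fun y : M24 => (y : Equiv.Perm GolayPt)) h3)
    (fun e => h1 (Subtype.ext e))
  have h4 : nine i ⊆ fx (h : Equiv.Perm GolayPt) := by
    intro p hp'
    rw [mem_fx]
    rcases Finset.mem_union.1 hp' with h5 | h5
    · obtain ⟨c, rfl⟩ := mem_tet.1 h5
      exact hf c
    · obtain ⟨j, -, rfl⟩ := Finset.mem_image.1 h5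
      exact hp j
  have h5 := Finset.card_le_card h4
  rw [card_nine] at h5
  omega

/-- the elements of order 3 of `M24` fixing the tetrads and the points `mog i 0` -/
theorem eq_w0 {g : M24} (h3 : g ^ 3 = 1) (h1 : g ≠ 1) (hp : ∀ i, (g : Equiv.Perm GolayPt) (mog i 0) = mog i 0)
    (ht : ∀ i, (g : Equiv.Perm GolayPt) • tet i = tet i) : g = w0 ∨ g = wi := by
  have hg3 : ∀ p, (g : Equiv.Perm GolayPt) ((g : Equiv.Perm GolayPt) ((g : Equiv.Perm GolayPt) p)) = p := by
    intro p
    have h2 := congrArg (fun y : M24 => (y : Equiv.Perm GolayPt) p) h3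
    exact h2
  have hrot : ∀ i, ∃ e, ∀ c, (g : Equiv.Perm GolayPt) (mog i c) = mog i (rot e c) := by
    intro i
    have h2 : ∀ c, ∃ c', (g : Equiv.Perm GolayPt) (mog i c) = mog i c' := by
      intro c
      have h4 : (g : Equiv.Perm GolayPt) (mog i c) ∈ (g : Equiv.Perm GolayPt) • tet i :=
        Finset.smul_mem_smul_finset (mem_tet.2 ⟨c, rfl⟩)
      rw [ht] at h4
      obtain ⟨c', hc⟩ := mem_tet.1 h4
      exact ⟨c', hc.symm⟩
    choose τ hτ using h2
    obtain ⟨e, he⟩ := exists_rot τ (mog_inj i _ _ (by rw [← hτ, hp])) fun c => mog_inj i _ _ (by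
      rw [← hτ, ← hτ, ← hτ, hg3])
    exact ⟨e, fun c => by rw [hτ, he]⟩
  choose e he using hrot
  by_cases h0 : ∃ i, e i = 0
  · obtain ⟨i, hi⟩ := h0
    exact absurd (eq_one_of_nine h3 (i := i) (fun c => by rw [he, hi, rot_zero]) hp) h1
  by_cases h2 : ∃ i, e i = 1
  · left
    obtain ⟨i, hi⟩ := h2
    have hh : ∀ j c, ((g * wi : M24) : Equiv.Perm GolayPt) (mog j c) = mog j (rot (e j + 2) c) := by
      intro j c
      change (g : Equiv.Perm GolayPt) ((wi : Equiv.Perm GolayPt) (mog j c)) = _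
      rw [wi_mog, he, rot_rot]
    have hh3 : (g * wi) ^ 3 = 1 := by
      apply Subtype.ext
      apply Equiv.ext
      intro p
      obtain ⟨j, c, rfl⟩ := exists_mog p
      change ((g * wi : M24) : Equiv.Perm GolayPt) (((g * wi : M24) : Equiv.Perm GolayPt)
        (((g * wi : M24) : Equiv.Perm GolayPt) (mog j c))) = mog j c
      rw [hh, hh, hh, rot_rot, rot_rot]
      have h4 : ∀ a : Fin 3, a + a + a = 0 := by decide
      rw [h4, rot_zero]
    have h4 := eq_one_of_nine hh3 (i := i) (fun c => by rw [hh, hi]; exact congrArg _ (rot_zero c)) (fun j => by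
      rw [hh]
      have h5 : ∀ a : Fin 3, rot a 0 = 0 := by decide
      rw [h5])
    calc g = (g * wi) * wi⁻¹ := by group
      _ = w0 := by rw [h4, one_mul]; exact inv_eq_of_mul_eq_one_left w0_mul_wi
  · right
    apply Subtype.ext
    apply Equiv.ext
    intro p
    obtain ⟨j, c, rfl⟩ := exists_mog p
    rw [he, wi_mog]
    have h4 : e j = 2 := by
      have h5 : e j ≠ 0 := fun h => h0 ⟨j, h⟩
      have h6 : e j ≠ 1 := fun h => h2 ⟨j, h⟩
      revert h5 h6
      generalize e j = a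
      revert a
      decide
    rw [h4]

end Cfsg.Agent.H856.ThreeM24
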