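import Cfsg.Agent.H856.ThreeM24
import Cfsg.Agent.J4Type.FusionCent
import Cfsg.Agent.J4Type.FinalGen
import Cfsg.Agent.J4Type.NormRho
import Cfsg.Agent.J4Type.Aut22

/-!
# Elements of order 3 in a group with the structure `J4Type.Compl`

Adapted from `Cfsg.Agent.BpSpor.JFourThree` (small import closure):
* `conj_rho` : if 3 does not divide the index of `C(z)`, all elements of order 3 are conjugate to `ρ` or `ρ⁻¹`;
* `fM`, `fM_surj`, `fM_ker`, `z_mem_commutator` : `C(z) ∩ C(ρ)` maps onto `M22` with kernel `⟨z, ρ⟩`.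
-/

set_option autoImplicit false

namespace Cfsg.Agent.H856.ThreeRho

open Subgroup Cfsg Cfsg.Agent.J4Type Cfsg.Agent.J4Type.FusionCent Cfsg.Agent.J4Type.TauF
open Cfsg.Agent.H856.ThreeM24
open scoped Pointwise commutatorElement

variable {K : Type*} [Group K]

section Pre

variable (C : Cent K)

theorem P_cases (c : Subgroup.centralizer ({C.z} : Set K)) :
    (C.P c none = none ∧ C.P c (some 0) = some 0) ∨ (C.P c none = some 0 ∧ C.P c (some 0) = none) := by
  have h1 : C.P c ∈ M22d := by rw [← C.P_range]; exact ⟨c, rfl⟩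
  exact ((Cfsg.Agent.J4Type.Aut22.mem_D22_iff _).1 h1).2

theorem Q2 : IsPGroup 2 C.Q := IsPGroup.of_card C.Q_card

end Pre

section Frame

variable (F : J4Type.Compl K)

/-- the involutions `ε {mog i 0, mog j 0}` -/
theorem conj_ff {m : M24} {i j i' j' : Fin 6} (hi : (m : Equiv.Perm GolayPt) (mog i 0) = mog i' 0)
    (hj : (m : Equiv.Perm GolayPt) (mog j 0) = mog j' 0) (hij : i ≠ j) :
    F.φ m * ff F.toFrame i j * (F.φ m)⁻¹ = ff F.toFrame i' j' := by
  have h0 : m0 i ≠ m0 j := fun h => hij (m0_inj h)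
  have h1 := FinalGen.Compl.conj_ε F m (S := {m0 i, m0 j}) (by rw [Finset.card_pair h0]; decide)
  unfold ff
  rw [h1, Finset.smul_finset_insert, Finset.smul_finset_singleton]
  have h2 : (m : Equiv.Perm GolayPt) • m0 i = m0 i' := hi
  have h3 : (m : Equiv.Perm GolayPt) • m0 j = m0 j' := hj
  rw [h2, h3]

theorem phi_z {m : M24} {i : Fin 6} (h : (m : Equiv.Perm GolayPt) • tet 0 = tet i) : F.φ m * F.z = F.z * F.φ m := by
  have h1 := FinalGen.Compl.conj_ε F m (S := tet 0) (by rw [card_tet]; decide)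
  rw [h, F.ε_tet, F.ε_tet] at h1
  calc F.φ m * F.z = F.φ m * F.z * (F.φ m)⁻¹ * F.φ m := by group
    _ = F.z * F.φ m := by rw [h1]

theorem phi_inj : Function.Injective F.φ := by
  intro g h hgh
  have h1 : (⟨F.φ g, F.φ_mem g⟩ : normalizer (F.E hex0 : Set K)) = ⟨F.φ h, F.φ_mem h⟩ := Subtype.ext hgh
  rw [← F.π_φ g, ← F.π_φ h, h1]

theorem rho3 : F.ρ ^ 3 = 1 := by rw [← F.ρ_order]; exact pow_orderOf_eq_one _

/-- `ρ = φ(w₀)` or `φ(w₀⁻¹)` -/
theorem exists_g : ∃ g : M24, F.φ g = F.ρ ∧ (g = w0 ∨ g = wi) := by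
  obtain ⟨g, hg⟩ := F.φ_ρ
  refine ⟨g, hg, ?_⟩
  have h1 := F.ρ_tet ⟨F.φ g, F.φ_mem g⟩ hg
  rw [F.π_φ] at h1
  have h3 : g ^ 3 = 1 := by
    apply phi_inj F
    rw [map_pow, hg, rho3, map_one]
  have hne : g ≠ 1 := by
    rintro rfl
    rw [map_one] at hg
    have := F.ρ_order
    rw [← hg, orderOf_one] at this
    norm_num at this
  exact eq_w0 h3 hne (fun i => (h1 i).1) fun i => (h1 i).2

theorem wi_eq : wi = w0⁻¹ := (inv_eq_of_mul_eq_one_right w0_mul_wi).symm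

theorem comm_g {g m : M24} (hg : g = w0 ∨ g = wi) (h : w0 * m = m * w0) : g * m = m * g := by
  rcases hg with rfl | rfl
  · exact h
  · rw [wi_eq]
    exact (show Commute w0 m from h).inv_left

theorem phi_rho {m : M24} (h : w0 * m = m * w0) : F.φ m * F.ρ = F.ρ * F.φ m := by
  obtain ⟨g, hg, hg'⟩ := exists_g F
  rw [← hg, ← map_mul, ← map_mul, comm_g hg' h]

theorem rho_ff (i j : Fin 6) (hij : i ≠ j) : F.ρ * ff F.toFrame i j = ff F.toFrame i j * F.ρ := by
  obtain ⟨g, hg, -⟩ := exists_g F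
  have h1 := F.ρ_tet ⟨F.φ g, F.φ_mem g⟩ hg
  rw [F.π_φ] at h1
  have h2 := conj_ff F (h1 i).1 (h1 j).1 hij
  rw [hg] at h2
  calc F.ρ * ff F.toFrame i j = F.ρ * ff F.toFrame i j * F.ρ⁻¹ * F.ρ := by group
    _ = _ := by rw [h2]

theorem z_ff (i j : Fin 6) (hij : i ≠ j) : ff F.toFrame i j * F.z = F.z * ff F.toFrame i j :=
  (F.E_elem _ HexMax.hex0_isHex).2 _ (ff_mem F.toFrame i j hij) _ (F.z_mem_E _ HexMax.hex0_isHex)

theorem m1_tet : (m1 : Equiv.Perm GolayPt) • tet 0 = tet 1 := smul_tet fun c => ⟨_, m1_mog 0 c⟩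
theorem m2_tet : (m2 : Equiv.Perm GolayPt) • tet 0 = tet 0 := smul_tet fun c => ⟨_, m2_mog 0 c⟩
theorem m3_tet : (m3 : Equiv.Perm GolayPt) • tet 0 = tet 0 := smul_tet fun c => ⟨_, m3_mog 0 c⟩

/-- the element `φ(m₁)` of `C(z)` -/
noncomputable def y1 : centralizer ({F.z} : Set K) := ⟨F.φ m1, mem_centralizer_singleton_iff.2 (phi_z F m1_tet)⟩

theorem hp_inj : Function.Injective hp := by
  intro i j h
  revert i j
  decide +kernel

/-- `P(φ(m₁)) ≠ 1` -/
theorem P_y1 : F.P (y1 F) ≠ 1 := by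
  intro h
  let d : (i j : Fin 6) → i ≠ j → centralizer ({F.z} : Set K) := fun i j hij =>
    ⟨ff F.toFrame i j, mem_centralizer_singleton_iff.2 (z_ff F i j hij)⟩
  have h03 : (0 : Fin 6) ≠ 3 := by decide
  have h13 : (1 : Fin 6) ≠ 3 := by decide
  have h1 : y1 F * d 0 3 h03 * (y1 F)⁻¹ = d 1 3 h13 := Subtype.ext
    (conj_ff F (m := m1) (i := 0) (j := 3) (i' := 1) (j' := 3) (m1_mog 0 0) (m1_mog 3 0) h03)
  have h2 := congrArg F.P h1
  rw [map_mul, map_mul, map_inv, h, one_mul, inv_one, mul_one] at h2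
  have hm : ∀ i, mog i 0 ∈ tet i := fun i => mem_tet.2 ⟨0, rfl⟩
  have h3 := F.P_ε (d 0 3 h03) 0 3 h03 _ (hm 0) _ (hm 3) rfl
  have h4 := F.P_ε (d 1 3 h13) 1 3 h13 _ (hm 1) _ (hm 3) rfl
  rw [← h2] at h4
  exact absurd (hp_inj ((F.P (d 0 3 h03)).injective (h3.trans h4.symm))) (by decide)

theorem y1_cube : (y1 F) ^ 3 = 1 := by
  apply Subtype.ext
  change (F.φ m1) ^ 3 = 1
  rw [← map_pow, pow_succ, pow_two, m1_cube, map_one]

end Frame

/-! ### the centralizer of `z` -/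

section Cent

variable (C : Cent K)

/-- elements of odd order of `C(z)` have image in `M22` -/
theorem mem22_of_cube {c : centralizer ({C.z} : Set K)} (h : (C.P c) ^ 3 = 1) : C.P c ∈ Spor.M22 := by
  rw [Cfsg.Agent.SporadicA.MathieuRecog.mem_M22_iff]
  rcases P_cases C c with h1 | ⟨h1, h2⟩
  · exact ⟨(P_mem C c).1, h1.1, h1.2⟩
  · exfalso
    have h3 := congrArg (fun g : Equiv.Perm GolayPt => g none) h
    change C.P c (C.P c (C.P c none)) = none at h3
    rw [h1, h2, h1] at h3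
    exact absurd h3 (by decide)

/-- the kernel of `P` -/
theorem card_ker [Finite K] : ¬ 9 ∣ Nat.card C.P.ker := by
  intro h9
  let QC : Subgroup (centralizer ({C.z} : Set K)) := C.Q.subgroupOf _
  have hQle : QC ≤ C.P.ker := fun c hc => P_of_mem_Q C c hc
  have hQc : Nat.card QC = 2 ^ 13 := by
    rw [← C.Q_card]
    exact Nat.card_congr (subgroupOfEquivOfLe C.Q_le).toEquiv
  have h1 : 2 ^ 13 ∣ Nat.card C.P.ker := hQc ▸ card_dvd_of_le hQle
  have h2 : 2 ^ 13 * 9 ∣ Nat.card C.P.ker := Nat.Coprime.mul_dvd_of_dvd_of_dvd (by norm_num) h1 h9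
  have h3 : Nat.card C.P.ker ≤ Nat.card (C.Q × Fin 3) := by
    have hρ3 : C.ρ ^ 3 = 1 := by rw [← C.ρ_order]; exact pow_orderOf_eq_one _
    have hex : ∀ c : C.P.ker, ∃ q : C.Q, ∃ i : Fin 3, ((c : centralizer ({C.z} : Set K)) : K) = q * C.ρ ^ (i : ℕ) := by
      intro c
      obtain ⟨q, hq, i, h⟩ := (C.P_ker c).1 c.2
      exact ⟨⟨q, hq⟩, ⟨i % 3, Nat.mod_lt _ (by norm_num)⟩, by rw [h, pow_red hρ3]⟩
    choose q i hqi using hex
    apply Nat.card_le_card_of_injective (fun c => (q c, i c))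
    intro a b hab
    have h4 : q a = q b := congrArg Prod.fst hab
    have h5 : i a = i b := congrArg Prod.snd hab
    exact Subtype.ext (Subtype.ext (by rw [hqi, hqi, h4, h5]))
  rw [Nat.card_prod, C.Q_card, Nat.card_fin] at h3
  have h4 := Nat.le_of_dvd Nat.card_pos h2
  omega

/-- an element of order 3 with image 1 is conjugate to `ρ` or `ρ⁻¹` -/
theorem conj_of_P_one {c : centralizer ({C.z} : Set K)} (h3 : c ^ 3 = 1) (h1 : c ≠ 1) (hP : C.P c = 1) :
    ∃ g : K, g * c * g⁻¹ = C.ρ ∨ g * c * g⁻¹ = C.ρ⁻¹ := by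
  have hρ3 : C.ρ ^ 3 = 1 := by rw [← C.ρ_order]; exact pow_orderOf_eq_one _
  have hc3 : (c : K) ^ 3 = 1 := congrArg Subtype.val h3
  obtain ⟨q, hq, i, h⟩ := (C.P_ker c).1 hP
  rw [pow_red hρ3] at h
  have hi : i % 3 < 3 := Nat.mod_lt _ (by norm_num)
  interval_cases i % 3
  · exfalso
    rw [pow_zero, mul_one] at h
    apply h1
    apply Subtype.ext
    change (c : K) = 1
    rw [h] at hc3 ⊢
    obtain ⟨n, hn⟩ := Q2 C ⟨q, hq⟩
    have hn' : q ^ 2 ^ n = 1 := congrArg Subtype.val hn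
    have h4 : orderOf q ∣ Nat.gcd (2 ^ n) 3 :=
      Nat.dvd_gcd (orderOf_dvd_of_pow_eq_one hn') (orderOf_dvd_of_pow_eq_one hc3)
    rw [Nat.Coprime.pow_left n (by norm_num)] at h4
    exact orderOf_eq_one_iff.1 (Nat.dvd_one.1 h4)
  · rw [pow_one] at h
    obtain ⟨x, -, hx⟩ := NormRho.exists_conj_rho C hq (by rw [← h]; exact hc3)
    exact ⟨x, Or.inl (by rw [h, hx])⟩
  · have h5 : (c : K)⁻¹ = (C.ρ * q⁻¹ * C.ρ⁻¹) * C.ρ := by
      rw [h, mul_inv_rev]
      have : (C.ρ ^ 2)⁻¹ = C.ρ := by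
        rw [inv_eq_iff_mul_eq_one, ← pow_succ]
        exact hρ3
      rw [this]
      group
    obtain ⟨x, -, hx⟩ := NormRho.exists_conj_rho C (NormRho.rho_mem C (C.Q.inv_mem hq))
      (by rw [← h5, inv_pow, hc3, inv_one])
    refine ⟨x, Or.inr ?_⟩
    rw [← h5] at hx
    rw [← hx]
    group

end Cent

section Conj

variable (F : J4Type.Compl K)

/-- `ρ ^ i y₁` is conjugate to `ρ` or `ρ⁻¹` -/
theorem conj_rho_y (i : ℕ) (hi : i < 3) : ∃ g : K, g * (F.ρ ^ i * y1 F) * g⁻¹ = F.ρ ∨ g * (F.ρ ^ i * y1 F) * g⁻¹ = F.ρ⁻¹ := by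
  obtain ⟨g0, hg0, hg⟩ := exists_g F
  have hww : w0 * w0 = wi := by
    rw [wi_eq]
    exact eq_inv_of_mul_eq_one_left w0_cube
  have hwi : wi * wi = w0 := by
    rw [wi_eq, ← mul_inv_rev, hww, wi_eq, inv_inv]
  have h1 : ∃ g : M24, g * (g0 ^ i * m1) * g⁻¹ = w0 := by
    have key : ∀ k x : M24, k * w0 = x * k → ∃ g : M24, g * x * g⁻¹ = w0 := fun k x h => ⟨k⁻¹, by
      calc k⁻¹ * x * k⁻¹⁻¹ = k⁻¹ * (x * k) := by group
        _ = w0 := by rw [← h]; group⟩
    rcases hg with rfl | rfl <;> interval_cases i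
    · rw [pow_zero, one_mul]; exact key k0 _ k0_conj
    · rw [pow_one]; exact key k1 _ k1_conj
    · rw [pow_two]; exact key k2 _ k2_conj
    · rw [pow_zero, one_mul]; exact key k0 _ k0_conj
    · rw [pow_one, ← hww]; exact key k2 _ k2_conj
    · rw [pow_two, hwi]; exact key k1 _ k1_conj
  obtain ⟨g, h2⟩ := h1
  refine ⟨F.φ g, ?_⟩
  have h3 : F.φ g * (F.ρ ^ i * y1 F) * (F.φ g)⁻¹ = F.φ w0 := by
    rw [← h2, map_mul, map_mul, map_mul, map_inv, map_pow, hg0]
    rfl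
  rw [h3]
  rcases hg with rfl | rfl
  · exact Or.inl hg0
  · right
    rw [← hg0, wi_eq, map_inv, inv_inv]

/-- the elements of order 3 of `C(z)` -/
theorem conj_cent [Finite K] {c : centralizer ({F.z} : Set K)} (h3 : c ^ 3 = 1) (h1 : c ≠ 1) :
    ∃ g : K, g * c * g⁻¹ = F.ρ ∨ g * c * g⁻¹ = F.ρ⁻¹ := by
  by_cases hP : F.P c = 1
  · exact conj_of_P_one F.toCent h3 h1 hP
  have hc3 : (F.P c) ^ 3 = 1 := by rw [← map_pow, h3, map_one]
  have hy3 : (F.P (y1 F)) ^ 3 = 1 := by rw [← map_pow, y1_cube, map_one]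
  obtain ⟨v, hv, hv'⟩ := exists_conj_s (mem22_of_cube F.toCent hc3) hc3 hP
  obtain ⟨w, hw, hw'⟩ := exists_conj_s (mem22_of_cube F.toCent hy3) hy3 (P_y1 F)
  have hwv : w⁻¹ * v ∈ F.P.range := by
    rw [F.P_range]
    have h4 := (Cfsg.Agent.SporadicA.MathieuRecog.mem_M22_iff _).1 (Spor.M22.mul_mem (Spor.M22.inv_mem hw) hv)
    refine ⟨h4.1, ?_⟩
    change (w⁻¹ * v) • base = base
    rw [base, Finset.smul_finset_insert, Finset.smul_finset_singleton]
    change ({(w⁻¹ * v) none, (w⁻¹ * v) (some 0)} : Finset GolayPt) = _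
    rw [h4.2.1, h4.2.2]
  obtain ⟨d, hd⟩ := hwv
  let c' := d * c * d⁻¹
  have hPc' : F.P c' = F.P (y1 F) := by
    change F.P (d * c * d⁻¹) = _
    rw [map_mul, map_mul, map_inv, hd]
    calc w⁻¹ * v * F.P c * (w⁻¹ * v)⁻¹ = w⁻¹ * (v * F.P c * v⁻¹) * w := by group
      _ = w⁻¹ * (w * F.P (y1 F) * w⁻¹) * w := by rw [hv', hw']
      _ = F.P (y1 F) := by group
  have hc'3 : c' ^ 3 = 1 := by
    change (d * c * d⁻¹) ^ 3 = 1
    rw [conj_pow, h3, mul_one, mul_inv_cancel]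
  -- the group `B`
  let B : Subgroup (centralizer ({F.z} : Set K)) := (zpowers (F.P (y1 F))).comap F.P
  have hB27 : ¬ 27 ∣ Nat.card B := by
    intro h27
    let f : B →* Equiv.Perm GolayPt := F.P.comp B.subtype
    have h4 : Nat.card B = Nat.card f.ker * Nat.card f.range := by
      rw [← card_mul_index f.ker, index_ker]
    have h5 : Nat.card f.range ∣ 3 := by
      have h6 : f.range ≤ zpowers (F.P (y1 F)) := by
        rintro _ ⟨b, rfl⟩
        exact b.2
      have h7 := card_dvd_of_le h6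
      rw [Nat.card_zpowers] at h7
      exact h7.trans (orderOf_dvd_of_pow_eq_one hy3)
    have h6 : Nat.card f.ker ∣ Nat.card F.P.ker := by
      have h7 : f.ker.map B.subtype ≤ F.P.ker := by
        rintro _ ⟨b, hb, rfl⟩
        exact hb
      have h8 := card_dvd_of_le h7
      rwa [card_map_of_injective (subtype_injective B)] at h8
    have h7 : 9 * 3 ∣ Nat.card F.P.ker * 3 := by
      have h8 : Nat.card B ∣ Nat.card F.P.ker * 3 := h4 ▸ Nat.mul_dvd_mul h6 h5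
      exact h27.trans h8
    exact card_ker F.toCent (Nat.dvd_of_mul_dvd_mul_right (by norm_num) h7)
  have hρC : F.ρ ∈ centralizer ({F.z} : Set K) := mem_centralizer_singleton_iff.2 F.ρ_comm
  have hPρ : F.P ⟨F.ρ, hρC⟩ = 1 := (F.P_ker _).2 ⟨1, F.Q.one_mem, 1, by rw [one_mul, pow_one]⟩
  have hρB : (⟨F.ρ, hρC⟩ : centralizer ({F.z} : Set K)) ∈ B := by
    change F.P _ ∈ zpowers _
    rw [hPρ]; exact one_mem _
  have hyB : y1 F ∈ B := mem_zpowers _
  have hcB : c' ∈ B := by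
    change F.P _ ∈ zpowers _
    rw [hPc']; exact mem_zpowers _
  have hρ1 : F.ρ ≠ 1 := by
    intro h
    have h4 := F.ρ_order
    rw [h, orderOf_one] at h4
    norm_num at h4
  obtain ⟨g, i, hi, j, hj, hg⟩ := exists_pow (G := B) (a := ⟨⟨F.ρ, hρC⟩, hρB⟩) (b := ⟨y1 F, hyB⟩) (x := ⟨c', hcB⟩)
    (Subtype.ext (Subtype.ext (rho3 F))) (Subtype.ext (y1_cube F))
    (Subtype.ext (Subtype.ext (phi_rho F comm1).symm))
    (fun h => hρ1 (congrArg (fun b : B => ((b : centralizer ({F.z} : Set K)) : K)) h))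
    (fun h => P_y1 F (by
      have h4 : y1 F = 1 := congrArg Subtype.val h
      rw [h4, map_one]))
    (fun h => P_y1 F (by
      have h4 : y1 F = ⟨F.ρ, hρC⟩ := congrArg Subtype.val h
      rw [h4, hPρ]))
    (fun h => P_y1 F (by
      have h4 : y1 F = ⟨F.ρ, hρC⟩ ^ 2 := congrArg Subtype.val h
      rw [h4, map_pow, hPρ, one_pow]))
    hB27 (Subtype.ext hc'3)
  have hg' : (g : centralizer ({F.z} : Set K)) * c' * (g : centralizer ({F.z} : Set K))⁻¹ = ⟨F.ρ, hρC⟩ ^ i * y1 F ^ j :=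
    congrArg Subtype.val hg
  have hj1 : j = 1 := by
    have h4 : F.P g * F.P c' * (F.P g)⁻¹ = (F.P ⟨F.ρ, hρC⟩) ^ i * (F.P (y1 F)) ^ j := by
      rw [← map_inv, ← map_mul, ← map_mul, ← map_pow, ← map_pow, ← map_mul, hg']
    rw [hPρ, one_pow, one_mul, hPc'] at h4
    obtain ⟨n, hn⟩ := mem_zpowers_iff.1 g.2
    have h5 : F.P g * F.P (y1 F) * (F.P g)⁻¹ = F.P (y1 F) := by
      have h6 : Commute (F.P g) (F.P (y1 F)) := by
        rw [← hn]
        exact (Commute.refl _).zpow_left n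
      rw [h6.eq, mul_inv_cancel_right]
    rw [h5] at h4
    interval_cases j
    · rw [pow_zero] at h4
      exact absurd h4 (P_y1 F)
    · rfl
    · exfalso
      apply P_y1 F
      rw [pow_two] at h4
      exact (mul_eq_left.1 h4.symm)
  subst hj1
  rw [pow_one] at hg'
  obtain ⟨k, hk⟩ := conj_rho_y F i hi
  have h4 : ((g : centralizer ({F.z} : Set K)) : K) * (d * c * (d : K)⁻¹) * ((g : centralizer ({F.z} : Set K)) : K)⁻¹ =
    F.ρ ^ i * y1 F := congrArg Subtype.val hg'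
  have h5 : k * ((g : centralizer ({F.z} : Set K)) : K) * d * c * (k * ((g : centralizer ({F.z} : Set K)) : K) * d)⁻¹ =
      k * (F.ρ ^ i * y1 F) * k⁻¹ := by
    rw [← h4]
    group
  exact ⟨k * ((g : centralizer ({F.z} : Set K)) : K) * d, by rw [h5]; exact hk⟩

/-- **one class of subgroups of order 3** -/
theorem conj_rho [Finite K] (hi : ¬ 3 ∣ (centralizer ({F.z} : Set K)).index) {x : K} (hx : orderOf x = 3) :
    ∃ g : K, g * x * g⁻¹ = F.ρ ∨ g * x * g⁻¹ = F.ρ⁻¹ := by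
  have : Fact (Nat.Prime 3) := ⟨Nat.prime_three⟩
  have hX : IsPGroup 3 (zpowers x) := IsPGroup.of_card (n := 1) (by rw [Nat.card_zpowers, hx, pow_one])
  obtain ⟨q, hq⟩ := hX.nonempty_fixed_point_of_prime_not_dvd_card (K ⧸ centralizer ({F.z} : Set K)) hi
  obtain ⟨g, rfl⟩ := QuotientGroup.mk_surjective q
  have h1 : (⟨x, mem_zpowers x⟩ : zpowers x) • (QuotientGroup.mk g : K ⧸ centralizer ({F.z} : Set K)) =
    QuotientGroup.mk g := hq ⟨x, mem_zpowers x⟩
  have h2 : (QuotientGroup.mk (x * g) : K ⧸ centralizer ({F.z} : Set K)) = QuotientGroup.mk g := h1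
  rw [QuotientGroup.eq] at h2
  have h3 : g⁻¹ * x * g ∈ centralizer ({F.z} : Set K) := by
    have h4 := inv_mem h2
    have h5 : ((x * g)⁻¹ * g)⁻¹ = g⁻¹ * x * g := by group
    rwa [h5] at h4
  have hx3 : x ^ 3 = 1 := by rw [← hx]; exact pow_orderOf_eq_one x
  obtain ⟨k, hk⟩ := conj_cent F (c := ⟨g⁻¹ * x * g, h3⟩) (Subtype.ext (by
      change (g⁻¹ * x * g) ^ 3 = 1
      have h4 : g⁻¹ * x * g = g⁻¹ * x * g⁻¹⁻¹ := by group
      rw [h4, conj_pow, hx3]; group))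
    (fun h => by
      have h4 : g⁻¹ * x * g = 1 := congrArg Subtype.val h
      have h5 : x = 1 := by
        calc x = g * (g⁻¹ * x * g) * g⁻¹ := by group
          _ = 1 := by rw [h4]; group
      rw [h5, orderOf_one] at hx
      norm_num at hx)
  refine ⟨k * g⁻¹, ?_⟩
  have h4 : k * g⁻¹ * x * (k * g⁻¹)⁻¹ = k * (g⁻¹ * x * g) * k⁻¹ := by group
  rw [h4]
  exact hk

end Conj

/-! ### the centralizer of `ρ` -/

section Rho

variable (F : J4Type.Compl K)

/-- the elements of `C(z) ∩ C(ρ)` have image in `M22` -/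
theorem mem22_of_comm {c : centralizer ({F.z} : Set K)} (h : (c : K) * F.ρ = F.ρ * c) : F.P c ∈ Spor.M22 := by
  rw [Cfsg.Agent.SporadicA.MathieuRecog.mem_M22_iff]
  by_cases hc : F.P c none = none
  · rcases P_cases F.toCent c with h1 | ⟨h1, h2⟩
    · exact ⟨(P_mem F.toCent c).1, h1.1, h1.2⟩
    · rw [h1] at hc
      exact absurd hc (by decide)
  · exfalso
    obtain ⟨q, hq, h1⟩ := F.P_outer c hc
    have h2 : F.ρ ^ 2 = q := by
      have h3 : (c : K) * F.ρ * (c : K)⁻¹ = F.ρ := by rw [h, mul_inv_cancel_right]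
      rw [h3] at h1
      calc F.ρ ^ 2 = F.ρ * F.ρ := pow_two _
        _ = q * F.ρ⁻¹ * F.ρ := by rw [← h1]
        _ = q := by group
    obtain ⟨n, hn⟩ := Q2 F.toCent ⟨q, hq⟩
    have hn' : q ^ 2 ^ n = 1 := congrArg Subtype.val hn
    rw [← h2, ← pow_mul] at hn'
    have h4 : 3 ∣ 2 * 2 ^ n := by
      rw [← F.ρ_order]
      exact orderOf_dvd_of_pow_eq_one hn'
    have h5 : 3 ∣ 2 ^ (n + 1) := by rwa [pow_succ, mul_comm]
    have h6 := Nat.Prime.dvd_of_dvd_pow Nat.prime_three h5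
    norm_num at h6

/-- the centralizer of `ρ` -/
abbrev HH : Subgroup K := centralizer ({F.ρ} : Set K)

theorem z_mem_HH : F.z ∈ HH F := mem_centralizer_singleton_iff.2 F.ρ_comm.symm

/-- `z` in `C(ρ)` -/
def zH : HH F := ⟨F.z, z_mem_HH F⟩

/-- `ρ` in `C(ρ)` -/
def rH : HH F := ⟨F.ρ, mem_centralizer_singleton_iff.2 rfl⟩

theorem mem_DD {c : HH F} : c ∈ centralizer ({zH F} : Set (HH F)) ↔ (c : K) * F.z = F.z * c := by
  rw [mem_centralizer_singleton_iff]
  exact ⟨fun h => congrArg Subtype.val h, fun h => Subtype.ext h⟩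

/-- an element of `C(ρ) ∩ C(z)` -/
def mkD {c : K} (h1 : c * F.ρ = F.ρ * c) (h2 : c * F.z = F.z * c) : centralizer ({zH F} : Set (HH F)) :=
  ⟨⟨c, mem_centralizer_singleton_iff.2 h1⟩, (mem_DD F).2 h2⟩

/-- the element of `C(z)` -/
def toC (c : centralizer ({zH F} : Set (HH F))) : centralizer ({F.z} : Set K) :=
  ⟨((c : HH F) : K), mem_centralizer_singleton_iff.2 ((mem_DD F).1 c.2)⟩

theorem toC_comm (c : centralizer ({zH F} : Set (HH F))) : ((toC F c : centralizer ({F.z} : Set K)) : K) * F.ρ = F.ρ * toC F c :=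
  mem_centralizer_singleton_iff.1 (c : HH F).2

/-- the homomorphism onto `M22` -/
def fM : centralizer ({zH F} : Set (HH F)) →* Spor.M22 where
  toFun c := ⟨F.P (toC F c), mem22_of_comm F (toC_comm F c)⟩
  map_one' := Subtype.ext (map_one F.P)
  map_mul' a b := Subtype.ext (map_mul F.P (toC F a) (toC F b))

theorem fM_surj : Function.Surjective (fM F) := by
  rintro ⟨w, hw⟩
  have h4 := (Cfsg.Agent.SporadicA.MathieuRecog.mem_M22_iff _).1 hw
  have hwr : w ∈ F.P.range := by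
    rw [F.P_range]
    refine ⟨h4.1, ?_⟩
    change w • base = base
    rw [base, Finset.smul_finset_insert, Finset.smul_finset_singleton]
    change ({w none, w (some 0)} : Finset GolayPt) = _
    rw [h4.2.1, h4.2.2]
  obtain ⟨c, rfl⟩ := hwr
  obtain ⟨x, hx, h⟩ := NormRho.exists_comm F.toCent c h4.2.1
  have hxC : x ∈ centralizer ({F.z} : Set K) := F.Q_le hx
  have h1 : (x * c) * F.z = F.z * (x * c) :=
    mem_centralizer_singleton_iff.1 (mul_mem hxC c.2)
  refine ⟨mkD F h h1, Subtype.ext ?_⟩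
  change F.P (⟨x, hxC⟩ * c) = F.P c
  rw [map_mul, P_of_mem_Q F.toCent ⟨x, hxC⟩ hx, one_mul]

theorem fM_ker (c : centralizer ({zH F} : Set (HH F))) (h : fM F c = 1) :
    ∃ i j : ℕ, (c : HH F) = zH F ^ i * rH F ^ j := by
  have h1 : F.P (toC F c) = 1 := congrArg Subtype.val h
  obtain ⟨q, hq, j, h2⟩ := (F.P_ker _).1 h1
  change ((c : HH F) : K) = q * F.ρ ^ j at h2
  have hcρ : ((c : HH F) : K) * F.ρ = F.ρ * ((c : HH F) : K) := toC_comm F c
  have hqc : F.ρ * q = q * F.ρ := by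
    have h3 : q = ((c : HH F) : K) * (F.ρ ^ j)⁻¹ := by rw [h2]; group
    have h4 : Commute F.ρ ((c : HH F) : K) := hcρ.symm
    have h5 : Commute F.ρ (F.ρ ^ j)⁻¹ := ((Commute.refl F.ρ).pow_right j).inv_right
    rw [h3]
    exact (h4.mul_right h5).eq
  rcases F.ρ_fix q hq hqc with h3 | h3
  · exact ⟨0, j, Subtype.ext (by
      change ((c : HH F) : K) = F.z ^ 0 * F.ρ ^ j
      rw [h2, h3, pow_zero])⟩
  · exact ⟨1, j, Subtype.ext (by
      change ((c : HH F) : K) = F.z ^ 1 * F.ρ ^ j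
      rw [h2, h3, pow_one])⟩

/-- `ff i j` in `C(ρ) ∩ C(z)` -/
noncomputable def ffD (i j : Fin 6) (h : i ≠ j) : centralizer ({zH F} : Set (HH F)) :=
  mkD F (rho_ff F i j h).symm (z_ff F i j h)

/-- `φ m` in `C(ρ) ∩ C(z)` -/
noncomputable def phiD (m : M24) (i : Fin 6) (h : (m : Equiv.Perm GolayPt) • tet 0 = tet i) (h' : w0 * m = m * w0) :
    centralizer ({zH F} : Set (HH F)) :=
  mkD F (phi_rho F h') (phi_z F h)

theorem z_mem_commutator : (⟨zH F, mem_centralizer_singleton_iff.2 rfl⟩ : centralizer ({zH F} : Set (HH F))) ∈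
    commutator (centralizer ({zH F} : Set (HH F))) := by
  have key : ∀ (m : M24) (t : Fin 6) (h : (m : Equiv.Perm GolayPt) • tet 0 = tet t) (h' : w0 * m = m * w0)
      (i j k : Fin 6) (hik : i ≠ k) (hjk : j ≠ k) (hij : i ≠ j),
      (m : Equiv.Perm GolayPt) (mog i 0) = mog j 0 → (m : Equiv.Perm GolayPt) (mog k 0) = mog k 0 →
      ffD F j i hij.symm ∈ commutator (centralizer ({zH F} : Set (HH F))) := by
    intro m t h h' i j k hik hjk hij hi hk
    have h1 : ⁅phiD F m t h h', ffD F i k hik⁆ = ffD F j i hij.symm := by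
      apply Subtype.ext
      apply Subtype.ext
      change F.φ m * ff F.toFrame i k * (F.φ m)⁻¹ * (ff F.toFrame i k)⁻¹ = ff F.toFrame j i
      rw [conj_ff F hi hk hik, inv_eq_of_mul_eq_one_left (ff_sq F.toFrame i k hik), ff_symm F.toFrame i k,
        ff_mul F.toFrame hjk hik.symm hij.symm]
    rw [← h1, _root_.commutator_def]
    exact commutator_mem_commutator (mem_top _) (mem_top _)
  have h10 := key m1 1 m1_tet comm1 0 1 3 (by decide) (by decide) (by decide) (m1_mog 0 0) (m1_mog 3 0)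
  have h32 := key m3 0 m3_tet comm3 2 3 0 (by decide) (by decide) (by decide) (m3_mog 2 0) (m3_mog 0 0)
  have h54 := key m2 0 m2_tet comm2 4 5 0 (by decide) (by decide) (by decide) (m2_mog 4 0) (m2_mog 0 0)
  have h1 : (⟨zH F, mem_centralizer_singleton_iff.2 rfl⟩ : centralizer ({zH F} : Set (HH F))) =
      ffD F 1 0 (by decide) * ffD F 3 2 (by decide) * ffD F 5 4 (by decide) := by
    apply Subtype.ext
    apply Subtype.ext
    change F.z = ff F.toFrame 1 0 * ff F.toFrame 3 2 * ff F.toFrame 5 4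
    rw [ff_match F.toFrame (by decide)]
  rw [h1]
  exact mul_mem (mul_mem h10 h32) h54

end Rho

end Cfsg.Agent.H856.ThreeRho
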