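import Cfsg.Agent.J4Type.TauM24
import Cfsg.Agent.J4Type.TauP

/-!
# The stabiliser in `M24` of the seven masks `Wm` is the trio group `KT`
-/

set_option autoImplicit false

open scoped Pointwise

namespace Cfsg.Agent.H856.TrioM

open Cfsg Cfsg.Agent.SporadicA.GolayPerm Cfsg.Agent.SporadicA.GolayBase
open Cfsg.Agent.J4Type Cfsg.Agent.J4Type.CocodeMask Cfsg.Agent.J4Type.TauM24
open Cfsg.Agent.J4Type.TauP Cfsg.Agent.J4Type.CocodeExt

/-- the two points lie together in a tetrad of one of the seven sextets -/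
def R (p q : GolayPt) : Prop :=
  ∃ r s : GolayPt, st (idx p) ^^^ st (idx q) ^^^ (st (idx r) ^^^ st (idx s)) ∈ Wm ∧
    st (idx p) ^^^ st (idx q) ^^^ (st (idx r) ^^^ st (idx s)) ≠ 0

theorem R_smul {g : M24} (hg : ∀ w ∈ Wm, act g w ∈ Wm) {p q : GolayPt} (h : R p q) :
    R ((g : Equiv.Perm GolayPt) p) ((g : Equiv.Perm GolayPt) q) := by
  obtain ⟨r, s, h1, h2⟩ := h
  refine ⟨(g : Equiv.Perm GolayPt) r, (g : Equiv.Perm GolayPt) s, ?_, ?_⟩
  · have := hg _ h1
    rwa [act_xor, act_xor, act_xor, act_st, act_st, act_st, act_st] at this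
  · intro h3
    apply h2
    have h4 : ∀ x : GolayPt, st (idx x) < 4096 := fun x => st_lt _
    apply act_inj g
      (Nat.xor_lt_two_pow (n := 12) (Nat.xor_lt_two_pow (n := 12) (h4 _) (h4 _))
        (Nat.xor_lt_two_pow (n := 12) (h4 _) (h4 _))) (by norm_num)
    rw [act_xor, act_xor, act_xor, act_st, act_st, act_st, act_st, h3]
    exact (lin_zero _).symm

/-- number of the octad of `TM` containing a point -/
def blk (i : ℕ) : ℕ :=
  if Nat.testBit 8536111 i then 0 else if Nat.testBit 4536592 i then 1 else 2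

def inW (x : ℕ) : Bool := Nat.beq x 904 || (Nat.beq x 1105 || (Nat.beq x 2009 || (Nat.beq x 2544 ||
  (Nat.beq x 2680 || (Nat.beq x 3489 || Nat.beq x 3625)))))

theorem inW_of {x : ℕ} (h : x ∈ Wm) (h0 : x ≠ 0) : inW x = true := by
  have key : ∀ x ∈ Wm, x ≠ 0 → inW x = true := by decide +kernel
  exact key x h h0

theorem of_inW {x : ℕ} (h : inW x = true) : x ∈ Wm ∧ x ≠ 0 := by
  unfold inW at h
  simp only [Bool.or_eq_true, Nat.beq_eq] at h
  rcases h with rfl | rfl | rfl | rfl | rfl | rfl | rfl <;> exact ⟨by decide, by decide⟩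

def rchk (i j : ℕ) : Bool :=
  (List.range 24).any fun k => (List.range 24).any fun l => inW (st i ^^^ st j ^^^ (st k ^^^ st l))

theorem rchk_iff (i j : ℕ) (hi : i < 24) (hj : j < 24) (hij : i ≠ j) :
    rchk i j = (blk i == blk j) := by
  have key : ∀ i < 24, ∀ j < 24, i ≠ j → rchk i j = (blk i == blk j) := by
    decide +kernel
  exact key i hi j hj hij

theorem R_of_blk {p q : GolayPt} (hpq : p ≠ q) (h : blk (idx p) = blk (idx q)) : R p q := by
  have h1 := rchk_iff _ _ (idx_lt p) (idx_lt q) (fun h => hpq (idx_injective h))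
  rw [h, beq_self_eq_true] at h1
  unfold rchk at h1
  rw [List.any_eq_true] at h1
  obtain ⟨k, hk, h2⟩ := h1
  rw [List.any_eq_true] at h2
  obtain ⟨l, hl, h3⟩ := h2
  rw [List.mem_range] at hk hl
  refine ⟨pt k, pt l, ?_⟩
  rw [idx_pt hk, idx_pt hl]
  exact of_inW h3

theorem blk_of_R {p q : GolayPt} (hpq : p ≠ q) (h : R p q) : blk (idx p) = blk (idx q) := by
  obtain ⟨r, s, h1, h2⟩ := h
  have h3 := rchk_iff _ _ (idx_lt p) (idx_lt q) (fun h => hpq (idx_injective h))
  have h4 : rchk (idx p) (idx q) = true := by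
    unfold rchk
    rw [List.any_eq_true]
    refine ⟨idx r, List.mem_range.2 (idx_lt r), ?_⟩
    rw [List.any_eq_true]
    exact ⟨idx s, List.mem_range.2 (idx_lt s), inW_of h1 h2⟩
  rw [h4] at h3
  exact eq_of_beq h3.symm

/-- the octads of `TM` -/
def tmO (b : ℕ) : ℕ := if b = 0 then 8536111 else if b = 1 then 4536592 else 3704512

theorem mem_tmO (p : GolayPt) : p ∈ fin (tmO (blk (idx p))) := by
  rw [mem_fin]
  have key : ∀ i < 24, (tmO (blk i)).testBit i = true := by decide +kernel
  exact key _ (idx_lt p)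

theorem tmO_mem (i : ℕ) : fin (tmO (blk i)) ∈ TM := by
  rw [mem_TM]
  unfold tmO blk
  split_ifs <;> simp_all

theorem blk_of_mem {O : Finset GolayPt} (hO : O ∈ TM) {p : GolayPt} (hp : p ∈ O) :
    O = fin (tmO (blk (idx p))) := by
  have k1 : ∀ i < 24, (8536111 : ℕ).testBit i = true → tmO (blk i) = 8536111 := by decide +kernel
  have k2 : ∀ i < 24, (4536592 : ℕ).testBit i = true → tmO (blk i) = 4536592 := by decide +kernel
  have k3 : ∀ i < 24, (3704512 : ℕ).testBit i = true → tmO (blk i) = 3704512 := by decide +kernel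
  rcases mem_TM.1 hO with rfl | rfl | rfl <;> rw [mem_fin] at hp
  · rw [k1 _ (idx_lt p) hp]
  · rw [k2 _ (idx_lt p) hp]
  · rw [k3 _ (idx_lt p) hp]

theorem card_tmO (i : ℕ) : (fin (tmO (blk i))).card = 8 := by
  rw [card_fin]
  have k1 : popcount 8536111 = 8 := by decide +kernel
  have k2 : popcount 4536592 = 8 := by decide +kernel
  have k3 : popcount 3704512 = 8 := by decide +kernel
  unfold tmO blk
  split_ifs <;> simp_all

/-- **an element of `M24` preserving the seven masks preserves the trio** -/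
theorem mem_KT_of_Wm {g : M24} (hg : ∀ w ∈ Wm, act g w ∈ Wm) : g ∈ KT := by
  classical
  have hsub : (g : Equiv.Perm GolayPt) • TM ⊆ TM := by
    intro X hX
    obtain ⟨O, hO, rfl⟩ := Finset.mem_smul_finset.1 hX
    have hne : O.Nonempty := by
      rw [← Finset.card_pos]
      have : O.card = 8 := by
        rcases mem_TM.1 hO with rfl | rfl | rfl <;> rw [card_fin] <;> decide +kernel
      omega
    obtain ⟨p, hp⟩ := hne
    have hOp := blk_of_mem hO hp
    have h1 : (g : Equiv.Perm GolayPt) • O =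
        fin (tmO (blk (idx ((g : Equiv.Perm GolayPt) p)))) := by
      apply Finset.eq_of_subset_of_card_le
      · intro x hx
        obtain ⟨q, hq, rfl⟩ := Finset.mem_smul_finset.1 hx
        by_cases hpq : p = q
        · rw [hpq]; exact mem_tmO _
        · have h2 : blk (idx p) = blk (idx q) := by
            have e1 := blk_of_mem hO hq
            have e2 := hOp.symm.trans e1
            have k : ∀ i < 24, ∀ j < 24, tmO (blk i) = tmO (blk j) → blk i = blk j := by
              decide +kernel
            apply k _ (idx_lt p) _ (idx_lt q)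
            have k5 : ∀ i, tmO (blk i) < 2 ^ 24 := by
              intro i
              unfold tmO blk
              split_ifs <;> norm_num
            exact fin_injective (k5 _) (k5 _) e2
          have h3 := blk_of_R (fun h => hpq ((g : Equiv.Perm GolayPt).injective h))
            (R_smul hg (R_of_blk hpq h2))
          rw [h3]
          exact mem_tmO _
      · rw [card_tmO, Finset.card_smul_finset, hOp, card_tmO]
    rw [h1]
    exact tmO_mem _
  rw [mem_KT]
  apply Finset.eq_of_subset_of_card_le hsub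
  rw [Finset.card_smul_finset]

theorem mem_KT_iff {g : M24} : g ∈ KT ↔ ∀ w ∈ Wm, act g w ∈ Wm :=
  ⟨fun h w hw => act_mem_Wm g h w hw, mem_KT_of_Wm⟩

end Cfsg.Agent.H856.TrioM
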