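import Cfsg.Agent.H856.TrioM
import Cfsg.Agent.J4Type.TauMain

/-!
# Groups of type J4: the normaliser of the trio group `D = E(hex0) ∩ E(hex2)` of order 8
-/

set_option autoImplicit false

open scoped Pointwise

namespace Cfsg.Agent.H856.TrioZ

open Cfsg Cfsg.Agent.SporadicA.GolayPerm Cfsg.Agent.SporadicA.GolayBase
open Cfsg.Agent.SporadicA.OctadFix
open Cfsg.Agent.J4Type Cfsg.Agent.J4Type.CocodeMask Cfsg.Agent.J4Type.TauM24
open Cfsg.Agent.J4Type.TauP Cfsg.Agent.J4Type.TauF Cfsg.Agent.J4Type.TauCol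
open Cfsg.Agent.J4Type.TauMask Cfsg.Agent.J4Type.TauCent Cfsg.Agent.J4Type.FrameDefs
open Cfsg.Agent.J4Type.SplitData
open Cfsg.Agent.J4Type.HexPerms (hex0_isHex)

/-! ### the five hexads -/

def hxN : Fin 5 → ℕ := ![8391797, 12656663, 9830549, 10486557, 8966165]

/-- the five hexads through the points `23, 0, 4, 2` -/
def hx (i : Fin 5) : Finset GolayPt := fin (hxN i)

theorem isHex_hx (i : Fin 5) : IsHex (hx i) := isHex_of_mask' (by revert i; decide +kernel)

theorem hx_zero : hx 0 = hex0 := hex0_eq'.symm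
theorem hx_one : hx 1 = hex2 := rfl

theorem hxN_lt (i : Fin 5) : hxN i < 2 ^ 24 := by revert i; decide +kernel

theorem hx_inj : Function.Injective hx := by
  intro i j h
  have h1 := fin_injective (hxN_lt i) (hxN_lt j) h
  revert i j
  decide +kernel

theorem hx_inter {i j : Fin 5} (h : i ≠ j) : hx i ∩ hx j = fin 8388629 := by
  have key : ∀ i j : Fin 5, i ≠ j → hxN i &&& hxN j = 8388629 := by decide +kernel
  rw [hx, hx, ← fin_and, key i j h]

theorem card_t4 : (fin 8388629).card = 4 := by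
  rw [card_fin]
  decide +kernel

theorem hx_inter_card {i j : Fin 5} (h : i ≠ j) : (hx i ∩ hx j).card = 4 := by
  rw [hx_inter h, card_t4]

theorem five_check : ∀ i, i < 2 ^ 12 → (!isHexMask (enc i) ||
    (!(enc i).testBit 2 || (!(enc i).testBit 4 || (Nat.beq (enc i) 8391797 ||
      (Nat.beq (enc i) 12656663 || (Nat.beq (enc i) 9830549 || (Nat.beq (enc i) 10486557 ||
        Nat.beq (enc i) 8966165))))))) = true := by
  apply allR_zero_spec
  decide +kernel

theorem hx_of_sub {O : Finset GolayPt} (hO : IsHex O) (h : fin 8388629 ⊆ O) : ∃ i, O = hx i := by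
  obtain ⟨i, hi, rfl, hm⟩ := exists_enc hO
  have h5 := five_check i (by omega)
  have h2 : (enc i).testBit 2 = true := by
    have : pt 2 ∈ fin (enc i) := h (by rw [mem_fin]; decide +kernel)
    rwa [mem_fin, idx_pt (by norm_num)] at this
  have h4 : (enc i).testBit 4 = true := by
    have : pt 4 ∈ fin (enc i) := h (by rw [mem_fin]; decide +kernel)
    rwa [mem_fin, idx_pt (by norm_num)] at this
  rw [hm, h2, h4] at h5
  simp only [Bool.not_true, Bool.false_or, Bool.or_eq_true, Nat.beq_eq] at h5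
  rcases h5 with h5 | h5 | h5 | h5 | h5
  · exact ⟨0, by rw [h5]; rfl⟩
  · exact ⟨1, by rw [h5]; rfl⟩
  · exact ⟨2, by rw [h5]; rfl⟩
  · exact ⟨3, by rw [h5]; rfl⟩
  · exact ⟨4, by rw [h5]; rfl⟩

theorem t4_eq : fin 8388629 = base ∪ {hq 0, hq 1} := by decide +kernel

/-- an element of `M24` fixing `hex0` pointwise and mapping `O` to `O'` -/
theorem exists_g_smul {O O' : Finset GolayPt} (hO : IsHex O) (hO' : IsHex O')
    (h : hex0 ∩ O = hex0 ∩ O') (h4 : (hex0 ∩ O).card = 4) :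
    ∃ g : Equiv.Perm GolayPt, g ∈ M24 ∧ (∀ p ∈ hex0, g p = p) ∧ g • O = O' := by
  have hc : ∀ {O : Finset GolayPt}, IsHex O → (hex0 ∩ O).card = 4 → ∃ x ∈ O, x ∉ hex0 := by
    intro O hO h
    by_contra hcon
    push Not at hcon
    have h1 : hex0 ∩ O = O := Finset.inter_eq_right.2 hcon
    have h8 : O.card = 8 := hO.1.2
    rw [h1] at h
    omega
  obtain ⟨x, hx, hx0⟩ := hc hO h4
  obtain ⟨x', hx', hx0'⟩ := hc hO' (h ▸ h4)
  obtain ⟨g, ⟨hg, hgx⟩, -⟩ := existsUnique_fixOct hex0_isHex.1 hx0 hx0'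
  rw [mem_fixOct] at hg
  refine ⟨g, hg.1, hg.2, ?_⟩
  by_contra hne
  have hgM : g ∈ M22d := ⟨hg.1, HexStab.smul_base (hg.2 _ (hex0_isHex.2 HexStab.none_mem_base))
    (hg.2 _ (hex0_isHex.2 HexStab.zero_mem_base))⟩
  have h1 : IsHex (g • O) := HexMax.smul_isHex hgM hO
  have h5 : (insert x' (hex0 ∩ O')).card ≤ (g • O ∩ O').card := by
    apply Finset.card_le_card
    intro y hy
    rw [Finset.mem_insert] at hy
    rcases hy with rfl | hy
    · refine Finset.mem_inter.2 ⟨?_, hx'⟩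
      rw [← hgx]
      exact (mem_smul_iff g O x).2 hx
    · rw [Finset.mem_inter] at hy
      refine Finset.mem_inter.2 ⟨?_, hy.2⟩
      rw [← hg.2 y hy.1]
      refine (mem_smul_iff g O y).2 ?_
      have : y ∈ hex0 ∩ O' := Finset.mem_inter.2 hy
      rw [← h] at this
      exact (Finset.mem_inter.1 this).2
  rw [Finset.card_insert_of_notMem (fun h6 => hx0' (Finset.mem_inter.1 h6).1), ← h, h4] at h5
  rcases HexMax.card_inter h1 hO' hne with h6 | h6 <;> omega

variable {G : Type*} [Group G] (C : J4Type.Compl G)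

theorem exists_E_smul {O O' : Finset GolayPt} (hO : IsHex O) (hO' : IsHex O')
    (h : hex0 ∩ O = hex0 ∩ O') (h4 : (hex0 ∩ O).card = 4) :
    ∃ a : Subgroup.centralizer ({C.z} : Set G), (a : G) ∈ C.E hex0 ∧ C.P a • O = O' := by
  obtain ⟨g, hg, hgf, hgO⟩ := exists_g_smul hO hO' h h4
  obtain ⟨a, ha, hPa⟩ := (C.E_map hex0 hex0_isHex g).2 ⟨hg, hgf⟩
  exact ⟨a, ha, by rw [hPa, hgO]⟩

/-- hexads with the same intersection with `hex0` give the same intersection with `E hex0` -/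
theorem mem_E_of {O O' : Finset GolayPt} (hO : IsHex O) (hO' : IsHex O')
    (h : hex0 ∩ O = hex0 ∩ O') (h4 : (hex0 ∩ O).card = 4) {d : G} (hd : d ∈ C.E hex0)
    (hdO : d ∈ C.E O) : d ∈ C.E O' := by
  obtain ⟨a, ha, h1⟩ := exists_E_smul C hO hO' h h4
  have h2 := (C.E_conj O hO a d).1 hdO
  rwa [h1, (C.E_elem hex0 hex0_isHex).2 _ ha _ hd, mul_inv_cancel_right] at h2

theorem D_le (i : Fin 5) : D C ≤ C.E (hx i) := by
  intro d hd
  by_cases hi : i = 0
  · rw [hi, hx_zero]; exact hd.1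
  · by_cases hi1 : i = 1
    · rw [hi1]; exact hd.2
    · apply mem_E_of C isHex_hex2 (isHex_hx i) _ hex2_inter hd.1 hd.2
      rw [← hx_zero, ← hx_one, hx_inter (by decide), hx_inter (Ne.symm hi)]

theorem D_eq {O O' : Finset GolayPt} (hO : IsHex O) (hO' : IsHex O') (h4 : (O ∩ O').card = 4)
    (h : D C ≤ C.E O) (h' : D C ≤ C.E O') : C.E O ⊓ C.E O' = D C := by
  have hc := C.E_inf_eight O O' hO hO' h4
  have : Finite (C.E O ⊓ C.E O' : Subgroup G) := Nat.finite_of_card_ne_zero (by rw [hc]; norm_num)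
  exact (Subgroup.eq_of_le_of_card_ge (le_inf h h') (by rw [hc, card_D])).symm

theorem D_eq_hx {i j : Fin 5} (h : i ≠ j) : C.E (hx i) ⊓ C.E (hx j) = D C :=
  D_eq C (isHex_hx i) (isHex_hx j) (hx_inter_card h) (D_le C i) (D_le C j)

theorem mem_Wm_of {a : ℕ} (ha : ev a = true) (h : (c C.toFrame a : G) ∈ D C) : a ∈ Wm :=
  (mem_Dm_iff C a).1 ⟨ha, h⟩

/-- the elements of `D` -/
theorem exists_c_of_D {d : G} (hd : d ∈ D C) : ∃ a ∈ Wm, (c C.toFrame a : G) = d := by
  obtain ⟨s, hs, h⟩ := exists_c C.toFrame hd.1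
  exact ⟨s, mem_Wm_of C hs (by rw [h]; exact hd), h⟩

/-- an element of `N(E)` preserving `D` acts as an element of the trio group -/
theorem π_mem_KT (n : NE C.toFrame) (h : ∀ d ∈ D C, (n : G) * d * (n : G)⁻¹ ∈ D C) :
    C.π n ∈ KT := by
  apply TrioM.mem_KT_of_Wm
  intro w hw
  have h1 := h _ (c_mem_D C hw)
  rw [conj_c C.toFrame n (ev_Wm hw)] at h1
  exact mem_Wm_of C (ev_act _ (ev_Wm hw)) h1

/-- **Claim B** -/
theorem claimB {O : Finset GolayPt} (hO : IsHex O) (h : D C ≤ C.E O) : ∃ i, O = hx i := by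
  by_cases h0 : O = hex0
  · exact ⟨0, by rw [h0, hx_zero]⟩
  have h4 : (hex0 ∩ O).card = 4 := by
    rcases HexMax.card_inter hex0_isHex hO (Ne.symm h0) with h2 | h4
    · exact absurd h2 (TauHH.card_inter_ne_two C hex0_isHex hO (fun a ha => (c_mem_D C ha).1)
        (fun a ha => h (c_mem_D C ha)))
    · exact h4
  have hDle : D C ≤ C.E hex0 := inf_le_left
  have hD : C.E hex0 ⊓ C.E O = D C := D_eq C hex0_isHex hO h4 hDle h
  obtain ⟨a, b, hab, hI⟩ : ∃ a b : Fin 6, a ≠ b ∧ hex0 ∩ O = base ∪ {hq a, hq b} := by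
    have hb : base ⊆ hex0 ∩ O := Finset.subset_inter hex0_isHex.2 hO.2
    have hbc : base.card = 2 := HexMax.base_card
    have h2 : ((hex0 ∩ O) \ base).card = 2 := by
      rw [Finset.card_sdiff_of_subset hb, h4, hbc]
    obtain ⟨x, y, hxy, hxy'⟩ := Finset.card_eq_two.1 h2
    have hmem : ∀ x ∈ (hex0 ∩ O) \ base, ∃ i : Fin 6, x = hq i := by
      intro x hx
      rw [Finset.mem_sdiff, Finset.mem_inter] at hx
      rcases mem_hex0_cases x hx.1.1 with h | h
      · exact absurd h hx.2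
      · exact h
    obtain ⟨a, rfl⟩ := hmem x (by rw [hxy']; simp)
    obtain ⟨b, rfl⟩ := hmem y (by rw [hxy']; simp)
    refine ⟨a, b, fun h => hxy (by rw [h]), ?_⟩
    rw [← hxy', Finset.union_sdiff_of_subset hb]
  obtain ⟨σ, hσ⟩ := exists_cp hab
  obtain ⟨n, hn, hc⟩ := col_surj σ
  have hhp := P_φ C hn (c := σ) hc
  set q := C.P (φc C hn) with hqdef
  have hqM : q ∈ M22d := NormE.P_mem C.toCent (φc C hn)
  have hq0 : q • hex0 = hex0 := φc_hex0 C hn
  have hpair : ({q (hq 0), q (hq 1)} : Finset GolayPt) = {hq a, hq b} := by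
    rcases key_pairs hqM hq0 hhp (a := 0) (b := 1) (a' := a) (b' := b) (by decide) hab hσ with
      ⟨h1, h2⟩ | ⟨h1, h2⟩
    · rw [h1, h2]
    · rw [h1, h2, Finset.pair_comm]
  have hqt : q • fin 8388629 = hex0 ∩ O := by
    rw [t4_eq, Finset.smul_finset_union, Finset.smul_finset_insert, Finset.smul_finset_singleton,
      Equiv.Perm.smul_def, Equiv.Perm.smul_def, hpair, hqM.2, hI]
  have hq2 : hex0 ∩ q • hex2 = hex0 ∩ O := by
    have h1 : q • (hex0 ∩ hex2) = hex0 ∩ q • hex2 := by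
      rw [Finset.smul_finset_inter, hq0]
    rw [← h1, ← hqt, ← hx_zero, ← hx_one, hx_inter (by decide)]
  have hH : IsHex (q • hex2) := HexMax.smul_isHex hqM isHex_hex2
  have hstab : ∀ d ∈ D C, C.φ n * d * (C.φ n)⁻¹ ∈ D C := by
    intro d hd
    have h1 : C.φ n * d * (C.φ n)⁻¹ ∈ C.E hex0 := by
      have := (C.E_conj hex0 hex0_isHex (φc C hn) d).1 hd.1
      rwa [φc_hex0] at this
    have h2 : C.φ n * d * (C.φ n)⁻¹ ∈ C.E (q • hex2) :=
      (C.E_conj hex2 isHex_hex2 (φc C hn) d).1 hd.2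
    rw [← hD]
    exact ⟨h1, mem_E_of C hH hO hq2 (by rw [hq2]; exact h4) h1 h2⟩
  have hKT : n ∈ KT := by
    have := π_mem_KT C ⟨C.φ n, C.φ_mem n⟩ hstab
    rwa [C.π_φ] at this
  have hcomm : φc C hn * f0 C = f0 C * φc C hn := by
    apply Subtype.ext
    have := TauMain.t0_KT C hKT
    rw [mul_inv_eq_iff_eq_mul] at this
    exact this
  have hfix : q • hex2 = hex2 := by
    rw [← P_f0_hex0 C, ← mul_smul, hqdef, ← map_mul, hcomm, map_mul, mul_smul, φc_hex0]
  apply hx_of_sub hO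
  rw [hfix, ← hx_zero, ← hx_one, hx_inter (by decide)] at hq2
  rw [hq2]
  exact Finset.inter_subset_right

end Cfsg.Agent.H856.TrioZ
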