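import Cfsg.Agent.H856.Sv3
import Cfsg.Agent.H925.OrthBasic
import Cfsg.Agent.H922.OddBase
import Cfsg.Agent.H915.LD

/-!
# From the residual class of `Ω₇(q)` to the setting `Max7` (helper856)
-/

set_option autoImplicit false
set_option linter.unusedSectionVars false

namespace Cfsg.Agent.H856.Tz

open QuadraticMap Matrix Cfsg.Geo Cfsg.Agent.H925 Cfsg.Agent.H856.Sv Cfsg.Agent.H915.LD
open Cfsg.Agent.LieClassical.OrthCore Cfsg.Agent.LieClassical.OrthTrans Cfsg.Agent.LieClassical.OrthFinite

universe u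

variable {ι : Type} [Fintype ι] [DecidableEq ι] {F : Type u} [Field F]

theorem glEquiv_apply' (g : GL ι F) (v : ι → F) : glEquiv ι F g v = (g : Matrix ι ι F) *ᵥ v := rfl

variable [Finite F] {Q : (ι → F) → F} (hQ : IsNondegenerateQuadraticForm Q) (h2 : (2 : F) ≠ 0)
  (hn : Fintype.card ι = 7) {H P : Subgroup (GL ι F)} (hH : IsMaximalIn (omegaGL Q) H) (hc : IsResidualCore H P)

include hQ hn hH hc in
theorem scalars_bot : (scalars ι F).subgroupOf P = ⊥ := by
  rw [Subgroup.eq_bot_iff_forall]
  rintro ⟨g, hg⟩ hs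
  apply Subtype.ext
  exact H922.scalars_inf_omegaGL Q hQ (by rw [hn]; decide) (hH.1.le (hc.le hg)) hs

/-- the group is its own socle -/
noncomputable def socEquiv (hb : (scalars ι F).subgroupOf P = ⊥) : P ≃* Soc P :=
  MulEquiv.ofBijective (toSoc P) ⟨by
    rw [← MonoidHom.ker_eq_bot_iff, ker_toSoc, hb], toSoc_surjective P⟩

/-- the group as a group of linear automorphisms -/
noncomputable def mapEquiv (P : Subgroup (GL ι F)) : P ≃* P.map (glEquiv ι F).toMonoidHom :=
  P.equivMapOfInjective _ (glEquiv ι F).injective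

include h2 hn hH hc in
theorem max7 : Max7 (qf hQ) (H.map (glEquiv ι F).toMonoidHom) (P.map (glEquiv ι F).toMonoidHom) := by
  have h5 : 5 ≤ Fintype.card ι := by omega
  have hE := map_omegaGL_eq hQ h5
  have hinj : Function.Injective (Subgroup.map (glEquiv ι F).toMonoidHom) :=
    Subgroup.map_injective (glEquiv ι F).injective
  refine
    { finrank_eq := by rw [Module.finrank_fintype_fun_eq_card, hn]
      two_ne := h2
      nondeg := nondeg_qf hQ
      le := by rw [← hE]; exact Subgroup.map_mono hH.1.le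
      ne := ?_
      max := ?_
      PH := Subgroup.map_mono hc.le
      normal := ?_
      simple := ?_
      perfect := ?_
      irr := ?_
      schur := ?_
      cent := ?_ }
  · intro h
    rw [← hE] at h
    exact hH.1.ne (hinj h)
  · intro M h1 h3
    have h4 : (M.comap (glEquiv ι F).toMonoidHom).map (glEquiv ι F).toMonoidHom = M :=
      Subgroup.map_comap_eq_self_of_surjective (glEquiv ι F).surjective M
    rcases hH.2 (M.comap (glEquiv ι F).toMonoidHom) (Subgroup.map_le_iff_le_comap.1 h1) (by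
      intro g hg
      have h5 : glEquiv ι F g ∈ E (qf hQ) := h3 hg
      exact (mem_omegaGL_iff hQ (by omega)).2 h5) with h5 | h5
    · left
      rw [← h4, h5]
    · right
      rw [← h4, h5, hE]
  · rintro _ ⟨h, hh, rfl⟩ _ ⟨x, hx, rfl⟩
    exact ⟨h * x * h⁻¹, hc.normal h hh x hx, by rw [map_mul, map_mul, map_inv]⟩
  · have h3 : IsSimpleGroup (Soc P) := hc.simple
    have e : P.map (glEquiv ι F).toMonoidHom ≃* Soc P :=
      (mapEquiv P).symm.trans (socEquiv (scalars_bot hQ hn hH hc))
    exact (MulEquiv.isSimpleGroup_congr e).2 h3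
  · rw [← Subgroup.map_commutator, hc.perfect]
  · intro W hW
    apply hc.absIrred.1 W
    rintro _ ⟨g, hg, rfl⟩ _ ⟨w, hw, rfl⟩
    exact hW (glEquiv ι F g) ⟨g, hg, rfl⟩ w hw
  · intro L hL
    obtain ⟨c, hc'⟩ := hc.absIrred.2 (LinearMap.toMatrix' L) (by
      rintro _ ⟨g, hg, rfl⟩
      apply Matrix.toLin'.injective
      rw [Matrix.toLin'_mul, Matrix.toLin'_mul, Matrix.toLin'_toMatrix']
      exact LinearMap.ext fun v => hL (glEquiv ι F g) ⟨g, hg, rfl⟩ v)
    refine ⟨c, fun v => ?_⟩
    have h3 : L = Matrix.toLin' (c • (1 : Matrix ι ι F)) := by rw [← hc', Matrix.toLin'_toMatrix']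
    rw [h3]
    simp
  · rintro _ ⟨h, hh, rfl⟩ hx
    have h3 : h ∈ scalars ι F := by
      apply hc.centralizer_scalar h hh
      intro x hxP
      have h4 := hx (glEquiv ι F x) ⟨x, hxP, rfl⟩
      have h5 : h * x = x * h := (glEquiv ι F).injective (by
        rw [map_mul, map_mul]
        exact h4)
      rw [h5, mul_inv_cancel_right, mul_inv_cancel]
      exact Subgroup.one_mem _
    have h4 := H922.scalars_inf_omegaGL Q hQ (by rw [hn]; decide) (hH.1.le hh) h3
    rw [h4, map_one]

end Cfsg.Agent.H856.Tz
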