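import Cfsg.Agent.H856.U33e
import Cfsg.Agent.H856.L13c
import Cfsg.Agent.H464.L2Cover
import Cfsg.Agent.H915.LD
import Cfsg.Agent.H95.StemCover
import Cfsg.Agent.S2089
import Cfsg.Agent.LieClassical.FieldTransfer

/-!
# `U₃(3)` : an invariant alternating 3-form in dimension 7, for a core (helper856)
-/

set_option autoImplicit false
set_option linter.unusedSectionVars false

namespace Cfsg.Agent.H856.U33

open Matrix Module Cfsg Cfsg.Geo Cfsg.Agent.H179.G2 Cfsg.Agent.H856.Tri Cfsg.Agent.H915.LD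
open Cfsg.Agent.UThreeGen.MatGroup Cfsg.Agent.H906 Cfsg.Agent.H659.SevenU33

universe u'

variable {ι : Type} [Fintype ι] [DecidableEq ι] {F : Type u'} [Field F] [Finite F] {P : Subgroup (GL ι F)}

theorem k9_card : Fintype.card K9 = 9 := card9

/-- **`U₃(3)`** : an invariant alternating 3-form -/
theorem u33_form (hC : Core P) (hsd : SD P) (p : ℕ) [hp : Fact p.Prime] [CharP F p] (hp2 : p ≠ 2) (hp3 : p ≠ 3)
    (hn : Fintype.card ι = 7) {k : Type*} [Field k] [Fintype k] (hk : Fintype.card k = 9) (e : Soc P ≃* PSU 3 k 3) :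
    ∃ f : (ι → F) →ₗ[F] (ι → F) →ₗ[F] (ι → F) →ₗ[F] F, IsAltForm f ∧ f ≠ 0 ∧
      ∀ g ∈ P, ∀ x y z, f ((g : Matrix ι ι F) *ᵥ x) ((g : Matrix ι ι F) *ᵥ y) ((g : Matrix ι ι F) *ᵥ z) = f x y z := by
  classical
  let e0 : k ≃+* K9 := FiniteField.ringEquivOfCardEq (hk.trans k9_card.symm)
  let E : Soc P ≃* PSU 3 K9 3 := e.trans (Cfsg.Agent.LieClassical.FieldTransfer.psuCongr 3 3 e0)
  let π : P →* PSU 3 K9 3 := E.toMonoidHom.comp (toSoc P)
  have hπ : Function.Surjective π := E.surjective.comp (toSoc_surjective P)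
  have hker : π.ker = (scalars ι F).subgroupOf P := ker_comp E
  have hkc : π.ker ≤ Subgroup.center P := by rw [hker]; exact scalars_le_center
  have hM : HasCyclicSchurMultiplier (PSU 3 K9 3) 1 :=
    Cfsg.Agent.S2089.result 3 3 (by rw [k9_card]; norm_num) le_rfl (by norm_num) (by simp)
  have hπi : Function.Injective π := H95.StemCover.injective_of_trivial hM hC.commutator_top π hπ hkc
  let E' : P ≃* PSU 3 K9 3 := MulEquiv.ofBijective π ⟨hπi, hπ⟩
  have hcF : Nat.card K9 = 3 ^ 2 := by rw [Nat.card_eq_fintype_card, k9_card]; norm_num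
  obtain ⟨q, hqs, hqk⟩ := H906.exists_psu_hom (σ := s9) (m := 3) (by norm_num) s9_pow hcF
  let φ' : SUG s9 →* GL ι F := P.subtype.comp (E'.symm.toMonoidHom.comp q)
  have hrange : φ'.range = P := by
    ext g
    constructor
    · rintro ⟨w, rfl⟩
      exact (E'.symm (q w)).2
    · intro hg
      obtain ⟨w, hw⟩ := hqs (E' ⟨g, hg⟩)
      refine ⟨w, ?_⟩
      change ((E'.symm (q w) : P) : GL ι F) = g
      rw [hw, MulEquiv.symm_apply_apply]
  have hφ1 : ∀ w, φ' w = 1 → w ∈ Subgroup.center (SUG s9) := by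
    intro w hw
    rw [← hqk]
    have h1 : E'.symm (q w) = 1 := Subtype.ext hw
    exact (MulEquiv.map_eq_one_iff E'.symm).1 h1
  let A := AlgebraicClosure F
  have hinj : Function.Injective (algebraMap F A) := (algebraMap F A).injective
  have hne : ∀ q : ℕ, q.Prime → q ≠ p → (q : A) ≠ 0 := by
    intro q hq hqp h0
    have h4 : ((q : ℕ) : F) = 0 := by
      apply hinj
      rw [map_natCast, map_zero, h0]
    rw [CharP.cast_eq_zero_iff F p] at h4
    exact hqp ((Nat.prime_dvd_prime_iff_eq hp.out hq).1 h4).symm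
  have h2 : (2 : A) ≠ 0 := by exact_mod_cast hne 2 Nat.prime_two (Ne.symm hp2)
  have h3 : (3 : A) ≠ 0 := by exact_mod_cast hne 3 Nat.prime_three (Ne.symm hp3)
  -- the matrices
  let f7 : ι ≃ Fin 7 := Fintype.equivFinOfCardEq hn
  let re := H464.Sl2.reGL (F := F) f7
  let ρ7 : SUG s9 →* GL (Fin 7) F := re.toMonoidHom.comp φ'
  have hr7 : ρ7.range = P.map re.toMonoidHom := by
    rw [MonoidHom.range_comp, hrange]
  have habs : ActsAbsolutelyIrreducibly (matrixSet ρ7.range) := by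
    rw [hr7]
    exact H464.Sl2.absIrr_reGL f7 hC.absIrred
  let ρ' : SUG s9 →* Matrix (Fin 7) (Fin 7) F := (Units.coeHom _).comp ρ7
  have hspan : Submodule.span F (Set.range ρ') = ⊤ := by
    rw [← H906.span_subtype habs]
    congr 1
    ext X
    constructor
    · rintro ⟨g, rfl⟩
      exact ⟨⟨ρ7 g, g, rfl⟩, rfl⟩
    · rintro ⟨⟨_, g, rfl⟩, rfl⟩
      exact ⟨g, rfl⟩
  let ρA : SUG s9 →* Matrix (Fin 7) (Fin 7) A := extRep A ρ'
  have hspanA : Submodule.span A (Set.range ρA) = ⊤ := span_extRep hspan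
  have hnt : ∀ z : HG s9, z ≠ 1 → ρA (emb s9 z) ≠ 1 := by
    intro z hz h0
    have h1 : ρ7 (emb s9 z) = 1 := by
      apply Units.ext
      ext i j
      apply hinj
      have := congrFun (congrFun h0 i) j
      change algebraMap F A ((ρ7 (emb s9 z) : Matrix (Fin 7) (Fin 7) F) i j) = _ at this
      rw [this]
      by_cases hij : i = j
      · subst hij; simp
      · simp [hij]
    have h4 : φ' (emb s9 z) = 1 := (MulEquiv.map_eq_one_iff re).1 h1
    exact hz (eq_one_of_mem_center (hφ1 _ h4))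
  -- the invariant form
  have htr7 : ∀ g ∈ ρ7.range, ((g⁻¹ : GL (Fin 7) F) : Matrix (Fin 7) (Fin 7) F).trace =
      (RingEquiv.refl F) ((g : Matrix (Fin 7) (Fin 7) F).trace) := by
    intro g hg
    rw [hr7] at hg
    obtain ⟨g, hg, rfl⟩ := hg
    change ((re g)⁻¹ : GL (Fin 7) F).1.trace = (re g : GL (Fin 7) F).1.trace
    rw [← map_inv, H464.Sl2.trace_reGL, H464.Sl2.trace_reGL]
    exact hsd g hg
  obtain ⟨M, hMu, hMi⟩ := exists_invariant_of_trace habs (RingEquiv.refl F) (fun a => rfl) htr7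
  have hMi' : ∀ g, (ρ' g)ᵀ * M * ρ' g = M := by
    intro g
    have h4 := hMi (ρ7 g) ⟨g, rfl⟩
    have hid : ((ρ7 g : GL (Fin 7) F) : Matrix (Fin 7) (Fin 7) F).map (RingEquiv.refl F) =
        ((ρ7 g : GL (Fin 7) F) : Matrix (Fin 7) (Fin 7) F) := by ext i j; simp
    rw [hid] at h4
    exact h4
  have hMA : ∀ g, (ρA g)ᵀ * M.map (algebraMap F A) * ρA g = M.map (algebraMap F A) := by
    intro g
    have h4 : (((ρ' g)ᵀ * M * ρ' g).map (algebraMap F A)) = M.map (algebraMap F A) := by rw [hMi' g]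
    rw [Matrix.map_mul, Matrix.map_mul] at h4
    exact h4
  have hMA0 : ∀ v, M.map (algebraMap F A) *ᵥ v = 0 → v = 0 := by
    intro v hv
    have h4 : IsUnit (M.map (algebraMap F A)) := hMu.map (RingHom.mapMatrix (m := Fin 7) (algebraMap F A))
    obtain ⟨N, hN⟩ := h4
    have h5 : ((N⁻¹ : (Matrix (Fin 7) (Fin 7) A)ˣ) : Matrix (Fin 7) (Fin 7) A) * (N : Matrix (Fin 7) (Fin 7) A) = 1 :=
      N.inv_mul
    rw [← Matrix.one_mulVec v, ← h5, ← Matrix.mulVec_mulVec, hN, hv, Matrix.mulVec_zero]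
  obtain ⟨f, hf, hf0, hfi⟩ := exists_form h2 h3 hspanA hnt hMA hMA0
  -- descend
  let c : (ι → F) →ₗ[F] (Fin 7 → A) :=
    { toFun := fun x i => algebraMap F A (x (f7.symm i))
      map_add' := fun x y => by funext i; simp
      map_smul' := fun a x => by
        funext i
        simp only [Pi.smul_apply, smul_eq_mul, map_mul, RingHom.id_apply, Algebra.smul_def] }
  have hc : Submodule.span A (Set.range c) = ⊤ := by
    rw [eq_top_iff, ← (Pi.basisFun A (Fin 7)).span_eq, Submodule.span_le]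
    rintro _ ⟨i, rfl⟩
    apply Submodule.subset_span
    refine ⟨Pi.single (f7.symm i) 1, ?_⟩
    funext j
    change algebraMap F A ((Pi.single (f7.symm i) 1 : ι → F) (f7.symm j)) =
      (Pi.basisFun A (Fin 7) i) j
    rw [Pi.basisFun_apply, Pi.single_apply, Pi.single_apply]
    simp only [EmbeddingLike.apply_eq_iff_eq]
    split_ifs <;> simp
  obtain ⟨f', hf', hf'0, hinv⟩ := descend (F := F) (V := ι → F) hf hf0 c hc
  refine ⟨f', hf', hf'0, ?_⟩
  intro g hg x y z
  rw [← hrange] at hg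
  obtain ⟨g, rfl⟩ := hg
  have hcg : ∀ x, c ((φ' g : Matrix ι ι F) *ᵥ x) = ρA g *ᵥ (c x) := by
    intro x
    funext i
    change algebraMap F A (((φ' g : Matrix ι ι F) *ᵥ x) (f7.symm i)) =
      (((ρ7 g : Matrix _ _ F).map (algebraMap F A)) *ᵥ (c x)) i
    simp only [Matrix.mulVec, dotProduct, map_sum, map_mul]
    rw [← Equiv.sum_comp f7]
    refine Finset.sum_congr rfl fun j _ => ?_
    change _ = algebraMap F A ((φ' g : Matrix ι ι F) (f7.symm i)
      (f7.symm (f7 j))) * algebraMap F A (x (f7.symm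
        (f7 j)))
    rw [Equiv.symm_apply_apply]
  apply hinv
  rw [hcg, hcg, hcg, hfi]

end Cfsg.Agent.H856.U33
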