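import Cfsg.Agent.H856.Tz1
import Cfsg.Agent.H856.Sv5
import Cfsg.Agent.H856.Sx2
import Cfsg.Agent.H856.J1d
import Cfsg.Agent.H856.U33f
import Cfsg.Agent.H856.L13c
import Cfsg.Agent.H179.G2Main
import Cfsg.Agent.H882.Del.Stein
import Cfsg.Agent.H464.L2StageOne
import Cfsg.Agent.H1.TJ1
import Cfsg.Agent.H879.Nine.Ctx

/-!
# `Ω₇(q)`: the setting and the consequences of an invariant 3-form (helper856)
-/

set_option autoImplicit false
set_option linter.unusedSectionVars false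

namespace Cfsg.Agent.H856.Tz

open QuadraticMap Matrix Cfsg Cfsg.Geo Cfsg.Agent.H925 Cfsg.Agent.H856.Sv Cfsg.Agent.H915.LD Cfsg.Agent.H179.G2
open Cfsg.Agent.LieClassical.OrthCore Cfsg.Agent.LieClassical.OrthTrans Cfsg.Agent.LieClassical.OrthFinite

universe u v

variable {ι : Type} [Fintype ι] [DecidableEq ι] {F : Type u} [Field F]

/-- The setting. -/
structure C7 [Fintype F] (p : ℕ) (Q : QuadraticForm F (ι → F)) (H P : Subgroup (GL ι F)) : Prop where
  prime : p.Prime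
  charP : CharP F p
  two : (2 : F) ≠ 0
  seven : Fintype.card ι = 7
  nd : Nondeg Q
  max : IsMaximalIn (omegaGL (Q : (ι → F) → F)) H
  res : IsResidualCore H P

/-- the conclusion -/
def Concl [Fintype F] (P : Subgroup (GL ι F)) : Prop :=
  (Nonempty (Soc P ≃* alternatingGroup (Fin 9)) ∧ Fintype.card F = 3) ∨
  (Nonempty (Soc P ≃* Cfsg.PSp 3 (ZMod 2)) ∧ (Fintype.card F).Prime) ∨
  Nonempty (Soc P ≃* Cfsg.Lie.G2 F)

namespace C7

variable [Fintype F] {p : ℕ} {Q : QuadraticForm F (ι → F)} {H P : Subgroup (GL ι F)} (c : C7 p Q H P)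
include c

theorem core : Core P := core_of_residual c.res

theorem ne_two : p ≠ 2 := by
  rintro rfl
  have := c.charP
  exact c.two (by exact_mod_cast CharP.cast_eq_zero F 2)

theorem ndf : IsNondegenerateQuadraticForm (Q : (ι → F) → F) := isND_of_nondeg c.nd

theorem fixes : FixesQuadForm (matrixSet P) (Q : (ι → F) → F) := by
  rintro _ ⟨g, hg, rfl⟩ v
  exact H879.Nine.isometry_of_mem (c.max.1.le (c.res.le hg)) v

theorem fixQ : FixQ P := ⟨Q, c.ndf, c.fixes⟩

theorem sd : SD P := H879.Nine.sd_of_fixQ c.fixQ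

theorem bot : (scalars ι F).subgroupOf P = ⊥ := scalars_bot c.ndf c.seven c.max c.res

/-- `P` is simple -/
noncomputable def soc : P ≃* Soc P := socEquiv c.bot

theorem max7 : Max7 (qf c.ndf) (H.map (glEquiv ι F).toMonoidHom) (P.map (glEquiv ι F).toMonoidHom) :=
  Tz.max7 c.ndf c.two c.seven c.max c.res

/-- **an invariant 3-form gives `G₂(F)`** -/
theorem g2_of_form (f : (ι → F) →ₗ[F] (ι → F) →ₗ[F] (ι → F) →ₗ[F] F) (h1 : ∀ x y, f x x y = 0)
    (h2 : ∀ x y, f x y y = 0) (h0 : f ≠ 0)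
    (hinv : ∀ g ∈ P, ∀ x y z, f ((g : Matrix ι ι F) *ᵥ x) ((g : Matrix ι ι F) *ᵥ y) ((g : Matrix ι ι F) *ᵥ z) = f x y z) :
    Concl P := by
  obtain ⟨e⟩ := thmA c.max7 f ⟨h1, h2⟩ h0 (by
    rintro _ ⟨g, hg, rfl⟩ x y z
    exact hinv g hg x y z)
  exact Or.inr (Or.inr ⟨c.soc.symm.trans ((mapEquiv P).trans e)⟩)

/-- `A₈` -/
theorem not_a8 (e : Soc P ≃* alternatingGroup (Fin 8)) : False :=
  c.max7.not_a8 (((mapEquiv P).symm.trans c.soc).trans e)

/-- `L₂(7)`, cross characteristic -/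
theorem not_l27 {K : Type v} [Field K] [Fintype K] (hK : Fintype.card K = 7) (hp : p ≠ 7)
    (e : Soc P ≃* ProjectiveSpecialLinearGroup (Fin 2) K) : False := by
  have := Fact.mk c.prime
  have := c.charP
  have h7 : (Fintype.card K : F) ≠ 0 := by
    rw [hK]
    intro h
    exact hp ((Nat.prime_dvd_prime_iff_eq c.prime (by norm_num)).1 ((CharP.cast_eq_zero_iff F p 7).1 h))
  exact H882.Del.steinberg_kill c.two c.nd c.max c.res (by rw [hK]) (by rw [hK]) h7 (by rw [c.seven, hK]) e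

/-- `L₂(8)` -/
theorem l28 {K : Type v} [Field K] [Fintype K] (hK : Fintype.card K = 8)
    (e : Soc P ≃* ProjectiveSpecialLinearGroup (Fin 2) K) : Concl P := by
  have h2K : CharP K 2 := by
    obtain ⟨s, hs⟩ := CharP.exists K
    have hsp : s.Prime := CharP.char_is_prime K s
    have hd : s ∣ 2 ^ 3 := by
      rw [show 2 ^ 3 = Fintype.card K by rw [hK]; norm_num]
      exact (CharP.cast_eq_zero_iff K s _).1 (Nat.cast_card_eq_zero K)
    rw [(Nat.prime_dvd_prime_iff_eq hsp Nat.prime_two).1 (hsp.dvd_of_dvd_pow hd)] at hs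
    exact hs
  obtain ⟨ρ, hρ, hρe⟩ := H464.Sl2.l2_rep c.core (by rw [hK]; norm_num) (by rw [hK]; norm_num) e
  have hinj : Function.Injective ρ := by
    rw [← MonoidHom.ker_eq_bot_iff, Subgroup.eq_bot_iff_forall]
    intro g hg
    have h1 : ρ g = 1 := hg
    have h2 := hρe g (by rw [h1]; exact P.one_mem)
    have h3 : (⟨ρ g, by rw [h1]; exact P.one_mem⟩ : P) = 1 := Subtype.ext h1
    rw [h3, map_one, map_one] at h2
    have h4 : g ∈ Subgroup.center (SpecialLinearGroup (Fin 2) K) := (QuotientGroup.eq_one_iff g).1 h2.symm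
    rw [Matrix.SpecialLinearGroup.mem_center_iff] at h4
    obtain ⟨r, hr, hr2⟩ := h4
    have h5 : r = 1 := by
      rw [Fintype.card_fin] at hr
      have h6 : (r - 1) ^ 2 = 0 := by
        have h7 : (2 : K) = 0 := CharTwo.two_eq_zero
        linear_combination hr + (1 - r) * h7
      exact sub_eq_zero.1 (pow_eq_zero_iff (two_ne_zero) |>.1 h6)
    apply Subtype.ext
    rw [← hr2, h5]
    exact (Matrix.scalar (Fin 2)).map_one
  obtain ⟨f, hf, hf0, hinv⟩ := c.max7.l28_form hK ((glEquiv ι F).toMonoidHom.comp ρ)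
    ((glEquiv ι F).injective.comp hinj) (by rw [MonoidHom.range_comp, hρ])
  exact c.g2_of_form f hf.self hf.z23 hf0 (fun g hg => hinv (glEquiv ι F g) ⟨g, hg, rfl⟩)

/-- `L₂(13)` -/
theorem l213 {K : Type v} [Field K] [Fintype K] (hK : Fintype.card K = 13) (hp : p ≠ 13)
    (e : Soc P ≃* ProjectiveSpecialLinearGroup (Fin 2) K) : Concl P := by
  have := Fact.mk c.prime
  have := c.charP
  have h13 : (13 : F) ≠ 0 := by
    intro h
    have h1 : ((13 : ℕ) : F) = 0 := by exact_mod_cast h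
    exact hp ((Nat.prime_dvd_prime_iff_eq c.prime (by norm_num)).1 ((CharP.cast_eq_zero_iff F p 13).1 h1))
  obtain ⟨ρ, hρ, -⟩ := H464.Sl2.l2_rep c.core (by rw [hK]; norm_num) (by rw [hK]; norm_num) e
  obtain ⟨f, hf, hf0, hinv⟩ := L13.l13_form c.core hK ρ hρ h13 c.two c.seven
  exact c.g2_of_form f hf.self hf.z23 hf0 hinv

/-- `U₃(3)` -/
theorem u33 {K : Type v} [Field K] [Fintype K] (hK : Fintype.card K = 9) (hp : p ≠ 3) (e : Soc P ≃* PSU 3 K 3) :
    Concl P := by
  have := Fact.mk c.prime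
  have := c.charP
  obtain ⟨f, hf, hf0, hinv⟩ := U33.u33_form c.core c.sd p c.ne_two hp c.seven hK e
  exact c.g2_of_form f hf.self hf.z23 hf0 hinv

/-- `J₁` -/
theorem j1 (hp : p = 11) (e : Soc P ≃* Spor.J1) : Concl P := by
  have := c.charP
  have h11 : (11 : F) = 0 := by
    subst hp
    exact_mod_cast CharP.cast_eq_zero F 11
  let φ : Spor.J1 ≃* P := (c.soc.trans e).symm
  let ρ : Spor.J1 →* ((ι → F) ≃ₗ[F] (ι → F)) :=
    (glEquiv ι F).toMonoidHom.comp (P.subtype.comp φ.toMonoidHom)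
  have hinj : Function.Injective ρ :=
    (glEquiv ι F).injective.comp (P.subtype_injective.comp φ.injective)
  obtain ⟨f, hf, hf0, hinv⟩ := JOne.form_of_hom ρ (fun h => JOne.r_ne (hinj (by rw [h, map_one]))) h11
    (by rw [Module.finrank_fintype_fun_eq_card, c.seven])
  refine c.g2_of_form f hf.self hf.z23 hf0 (fun g hg x y z => ?_)
  have h1 := hinv (φ.symm ⟨g, hg⟩) x y z
  have h2 : ρ (φ.symm ⟨g, hg⟩) = glEquiv ι F g := by
    show glEquiv ι F ((φ (φ.symm ⟨g, hg⟩) : P) : GL ι F) = _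
    rw [MulEquiv.apply_symm_apply]
  rw [h2] at h1
  exact h1

end C7

end Cfsg.Agent.H856.Tz
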