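import Cfsg.Agent.H856.Tz2
import Cfsg.Agent.H48.SporSeven
import Cfsg.Agent.H871.Par7
import Cfsg.Agent.H936.List12b
import Cfsg.Agent.H879.TL.Reindex
import Cfsg.Agent.H937.T2Rep
import Cfsg.Agent.H637.SevenA7
import Cfsg.Agent.H614.AMod.Main
import Cfsg.Agent.H814.SzEightCore
import Cfsg.Agent.H916.T8
import Cfsg.Agent.H659.Sp4Stage

/-!
# `Ω₇(q)`: cross characteristic rows (helper856)
-/

set_option autoImplicit false
set_option linter.unusedSectionVars false

namespace Cfsg.Agent.H856.Tz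

open QuadraticMap Matrix Cfsg Cfsg.Geo Cfsg.Agent.H915.LD Cfsg.Agent.H936.List12 Cfsg.Agent.H912.Bd
  Cfsg.Agent.H912.Five
open Cfsg.Agent.LieClassical.OrthCore

universe u v

/-! ### sporadic groups in `GL₇` -/

section spor

variable {F : Type u} [Field F] [Finite F] {P : Subgroup (GL (Fin 7) F)}

/-- `11:5` in a self-dual core of degree 7 forces the characteristic 11 -/
theorem no_frob {p : ℕ} [hp : Fact p.Prime] [CharP F p] (hC : Core P) (hsd : SD P) {T : Type v} [Group T]
    (e : Soc P ≃* T) (hT : H871.Par.Frob11 T) : p = 11 := by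
  by_contra h
  have h11 : (11 : F) ≠ 0 := by
    intro h0
    have h1 : ((11 : ℕ) : F) = 0 := by exact_mod_cast h0
    exact h ((Nat.prime_dvd_prime_iff_eq hp.out (by norm_num)).1 ((CharP.cast_eq_zero_iff F p 11).1 h1))
  have h2 := (H871.Par.pd_of_sd hC hsd e).of_frob11 h11 hT
  rw [Fintype.card_fin] at h2
  omega

open Cfsg.Agent.SporadicB.J1.Mat Cfsg.Agent.SporadicB.J1.Data Cfsg.Agent.SporadicB.J1.Main in
theorem frob11_J1 : H871.Par.Frob11 Spor.J1 :=
  ⟨ev [0, 1, 1], ev [1, 0, 1, 1, 2, 1, 0, 3], ((rep_ev _).pow 11).eq Rep.one (by decide +kernel),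
    (rep_ev _).ne Rep.one (by decide +kernel), mul_inv_eq_iff_eq_mul.2
      (((rep_ev _).mul (rep_ev _)).eq (((rep_ev _).pow 3).mul (rep_ev _)) (by decide +kernel))⟩

/-- sporadic groups: only `J₁` in characteristic 11 (and `J₂`) -/
theorem spor_cases {p : ℕ} [hp : Fact p.Prime] [CharP F p] (hC : Core P) (hsd : SD P) (h : SporC (Soc P)) :
    (p = 11 ∧ Spor.IsoJ1 (Soc P)) ∨ Spor.IsoJ2 (Soc P) := by
  have h3 : Nat.Prime 3 := Nat.prime_three
  rcases h with h | h | h | h | h | h | h | h | h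
  · exfalso
    obtain ⟨e⟩ := h
    have h11 := no_frob hC hsd e H871.Par.frob11_M11
    exact H48.Seven.no_orb p hC e (H921.Spor.M24.M11_three.orb (by norm_num)) h3 (by omega) (by norm_num) le_rfl
  · exfalso
    obtain ⟨e⟩ := h
    have h11 := no_frob hC hsd e H871.Par.frob11_M12
    exact H48.Seven.no_orb p hC e (H921.Spor.M24.M12_three.orb (by norm_num)) h3 (by omega) (by norm_num) le_rfl
  · exfalso
    obtain ⟨e⟩ := h
    have h11 := no_frob hC hsd e H871.Par.frob11_M22
    exact H48.Seven.no_orb p hC e H921.Spor.M24.M22_three h3 (by omega) (by norm_num) le_rfl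
  · exfalso
    obtain ⟨e⟩ := h
    have h11 := no_frob hC hsd e H871.Par.frob11_M23
    exact H48.Seven.no_orb p hC e H921.Spor.M24.M23_three h3 (by omega) (by norm_num) le_rfl
  · exfalso
    obtain ⟨e⟩ := h
    have h11 := no_frob hC hsd e H871.Par.frob11_M24
    exact H48.Seven.no_orb p hC e H921.Spor.M24.M24_three h3 (by omega) (by norm_num) le_rfl
  · left
    refine ⟨?_, h⟩
    obtain ⟨e⟩ := h
    exact no_frob hC hsd e frob11_J1
  · exact Or.inr h
  · exfalso
    obtain ⟨K, _, _, ω, hF, hω, ⟨e⟩⟩ := h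
    have H := Cfsg.Agent.J3.Core.good_of_card hF hω
    exact H48.Seven.no_pr2 hC e (H921.Spor.Pr2.mk' 19 17 ((H921.Spor.J3.J3_nineteen hF H).orb (by norm_num))
      ((H921.Spor.J3.J3_seventeen hF H).orb (by norm_num)) (by norm_num) (by norm_num) (by norm_num))
  · exfalso
    obtain ⟨e⟩ := h
    exact H48.Seven.no_pr2 hC e (H921.Spor.Pr2.mk' 3 11 H921.Spor.Suz.Suz_three
      (H921.Spor.Suz.Suz_eleven.orb (by norm_num)) (by norm_num) (by norm_num) (by norm_num))

end spor

/-! ### a copy in `GL₇` -/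

section copy

variable {ι : Type} [Fintype ι] [DecidableEq ι] {F : Type u} [Field F]

/-- the same group in `GL (Fin 7) F` -/
structure Cop (P : Subgroup (GL ι F)) (P' : Subgroup (GL (Fin 7) F)) : Prop where
  core : Core P'
  fixQ : FixQ P'
  sd : SD P'
  bot : (scalars (Fin 7) F).subgroupOf P' = ⊥
  iso : Nonempty (Soc P ≃* Soc P')

variable [Fintype F] {p : ℕ} {Q : QuadraticForm F (ι → F)} {H P : Subgroup (GL ι F)}

theorem C7.cop (c : C7 p Q H P) : ∃ P' : Subgroup (GL (Fin 7) F), Cop P P' := by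
  let e : ι ≃ Fin 7 := Fintype.equivFinOfCardEq c.seven
  have hC := H879.Rx.core_rx e c.core
  have hQ := H879.Rx.fixQ_rx e c.fixQ
  exact ⟨H879.Rx.rx e P, hC, hQ, H879.Nine.sd_of_fixQ hQ, H879.TL.scalars_bot_of_odd hC hQ (by decide),
    ⟨H879.Rx.socEqv e P⟩⟩

end copy

/-! ### rows -/

namespace C7

variable {ι : Type} [Fintype ι] [DecidableEq ι] {F : Type u} [Field F] [Fintype F] {p : ℕ}
  {Q : QuadraticForm F (ι → F)} {H P : Subgroup (GL ι F)} (c : C7 p Q H P)
include c

/-- `A₇` -/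
theorem not_a7 (e : Soc P ≃* alternatingGroup (Fin 7)) : False := by
  obtain ⟨P', h⟩ := c.cop
  obtain ⟨s⟩ := h.iso
  let φ : alternatingGroup (Fin 7) ≃* P' := ((socEquiv h.bot).trans (s.symm.trans e)).symm
  refine H637.SevenA7.seven_A7 (P'.subtype.comp φ.toMonoidHom) ?_
  have h1 : (P'.subtype.comp φ.toMonoidHom).range = P' := by
    rw [MonoidHom.range_comp, MonoidHom.range_eq_top.2 φ.surjective, ← MonoidHom.range_eq_map,
      Subgroup.range_subtype]
  rw [h1]
  exact h.core.absIrred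

/-- `A_m`, `m ≥ 8` -/
theorem alt {m : ℕ} (hm : 8 ≤ m) (e : Soc P ≃* alternatingGroup (Fin m)) : Concl P := by
  have := Fact.mk c.prime
  have := c.charP
  have h2 := c.ne_two
  have h7 := c.seven
  have hsf := H614.AMod.Main.alt_sd_fr c.core p e hm (by omega) (fun h => h2 h.2)
  rcases H614.AMod.Main.alt_cases c.core p e hm (by omega) (fun h => h2 h.2) with h | h | h
  · rcases H614.AMod.Main.Nat'.dim c.core hm h p with ⟨h3, h4⟩ | ⟨h3, h4⟩
    · obtain rfl : m = 8 := by omega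
      exact (c.not_a8 e).elim
    · obtain rfl : m = 9 := by omega
      have hp3 : p = 3 := by
        have h5 : p ∣ 3 ^ 2 := by norm_num; exact h3
        exact (Nat.prime_dvd_prime_iff_eq c.prime Nat.prime_three).1 (c.prime.dvd_of_dvd_pow h5)
      left
      refine ⟨⟨e⟩, ?_⟩
      rw [← hp3]
      exact c.core.card_eq p hsf.2
  · have := h.n8
    omega
  · omega

/-- `Sp₆(2)` -/
theorem sp62 (h : IsS 3 2 (Soc P)) : Concl P := by
  have := Fact.mk c.prime
  have := c.charP
  obtain ⟨K, iF, iT, hK, ⟨e⟩⟩ := h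
  have h1 := H916.T8.sp hK c.core p e c.two (by rw [c.seven]; norm_num)
  right
  left
  refine ⟨?_, ?_⟩
  · let e0 : K ≃+* ZMod 2 := (ZMod.ringEquivOfPrime K Nat.prime_two hK).symm
    exact ⟨e.trans (Cfsg.Agent.LieClassical.FieldTransfer.pspCongr 3 e0)⟩
  · rw [c.core.card_eq p h1.2.2]
    exact c.prime

end C7

end Cfsg.Agent.H856.Tz
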