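import Cfsg.Agent.H856.Tz3
import Cfsg.Agent.H875.TriSeven
import Cfsg.Agent.H911.AdTri
import Cfsg.Agent.H905.Sp4Final
import Cfsg.Agent.H929.UThreeTri
import Cfsg.Agent.H876.D3.FourFive
import Cfsg.Agent.H879.Nine.RowPSU
import Cfsg.Agent.H879.Nine.RowPSL
import Cfsg.Agent.H141.ReeK.Main
import Cfsg.Agent.H922.OmKill
import Cfsg.Agent.H392.TD.Main
import Cfsg.Agent.H927.G2Main
import Cfsg.Agent.H921.SporJ2
import Cfsg.Agent.H638.G2Iso
import Cfsg.Agent.H161.G2Emb


/-!
# `Ω₇(q)`: own characteristic and the assembly (helper856)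
-/

set_option autoImplicit false
set_option linter.unusedSectionVars false

namespace Cfsg.Agent.H856.Tz

open QuadraticMap Matrix Cfsg Cfsg.Geo Cfsg.Agent.H915.LD Cfsg.Agent.H936.List12 Cfsg.Agent.H912.Bd
  Cfsg.Agent.H912.Five
open Cfsg.Agent.LieClassical.OrthCore

universe u v

/-- the octonion group over isomorphic finite fields -/
theorem g2_congr {K : Type v} {F : Type u} [Field K] [Field F] [Finite K] [Finite F] (σ : K ≃+* F) :
    Nonempty (Cfsg.Lie.G2 K ≃* Cfsg.Lie.G2 F) := by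
  let f : Cfsg.Lie.G2 K →* Cfsg.Lie.G2 F :=
    ((Matrix.GeneralLinearGroup.map (n := Fin 8) (σ : K →+* F)).comp (Cfsg.Lie.G2 K).subtype).codRestrict _
      (fun g => Cfsg.Agent.H161.Oct.map_mem_G2 (σ : K →+* F) g.2)
  have hinj : Function.Injective f := by
    intro g h hgh
    apply Subtype.ext
    apply Cfsg.Agent.H161.Oct.emb_inj (σ : K →+* F)
    have h1 := congrArg Subtype.val hgh
    exact congrArg (Cfsg.Agent.H161.Oct.toE F) h1
  have hcard : Nat.card (Cfsg.Lie.G2 K) = Nat.card (Cfsg.Lie.G2 F) := by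
    rw [Cfsg.Agent.H638.G2Iso.card_G2, Cfsg.Agent.H638.G2Iso.card_G2, Nat.card_congr σ.toEquiv]
  exact ⟨MulEquiv.ofBijective f ((Nat.bijective_iff_injective_and_card f).2 ⟨hinj, hcard⟩)⟩

/-- `PSL_m(K)`, `m ≥ 4`, own characteristic -/
theorem own_psl {F : Type u} [Field F] [Finite F] {p : ℕ} [Fact p.Prime] [CharP F p] {P : Subgroup (GL (Fin 7) F)}
    (hC : Core P) (hQ : FixQ P) {K : Type v} [Field K] [Finite K] [CharP K p] {m : ℕ} (hm : 4 ≤ m)
    (e : Soc P ≃* ProjectiveSpecialLinearGroup (Fin m) K) : False := by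
  have hc7 : Fintype.card (Fin 7) = 7 := Fintype.card_fin 7
  rcases (show m < 7 ∨ m = 7 ∨ 8 ≤ m by omega) with h | h | h
  · have h1 := H887.DS.dim_cases p hC (by omega) (by rw [hc7]; exact h) (by rw [hc7]; norm_num) e
    rw [hc7] at h1
    rcases h1 with ⟨h1, -⟩ | ⟨-, h1 | ⟨-, h1⟩⟩ | ⟨-, h1⟩ <;> omega
  · subst h
    have h1 := H905.Md.psl_eq (l := 6) p hC.absIrred hC.perfect (by norm_num) (by norm_num) e hC.no_subfield rfl
    rw [h1.2] at hQ
    exact H879.Nine.not_fixQ_sl (by norm_num) hQ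
  · obtain ⟨l, rfl⟩ : ∃ l, m = l + 1 := ⟨m - 1, by omega⟩
    have h2 : (8).choose 2 ≤ (l + 1).choose 2 := Nat.choose_le_choose 2 h
    have h3 : (8).choose 2 = 28 := by decide
    have h1 := H905.Md.psl_dim p hC.absIrred hC.perfect (by omega) (by omega) e (by omega)
      (Or.inl (by rw [hc7]; omega))
    rw [hc7] at h1
    omega

namespace C7

variable {ι : Type} [Fintype ι] [DecidableEq ι] {F : Type u} [Field F] [Fintype F] {p : ℕ}
  {Q : QuadraticForm F (ι → F)} {H P : Subgroup (GL ι F)} (c : C7 p Q H P)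
include c

/-- `A₅` -/
theorem not_a5 (hp5 : p ≠ 5) (e : Soc P ≃* alternatingGroup (Fin 5)) : False := by
  have := Fact.mk c.prime
  have := c.charP
  have h := H937.T2.a5_dims p c.core e hp5
  rw [c.seven] at h
  exact absurd h (by decide)

/-- `A₆` -/
theorem not_a6 (hp3 : p ≠ 3) (e : Soc P ≃* alternatingGroup (Fin 6)) : False := by
  have := Fact.mk c.prime
  have := c.charP
  have h := H937.T2.a6_dims p c.core e
    (H937.T2.not_dvd_scalars c.core Nat.prime_three (by rw [c.seven]; norm_num)) hp3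
  rw [c.seven] at h
  exact absurd h (by decide)

/-- `L₂(q)`, own characteristic -/
theorem own_l2 (E : Type v) [Field E] [Fintype E] [CharP E p] (e : Soc P ≃* ProjectiveSpecialLinearGroup (Fin 2) E) :
    Concl P := by
  have := Fact.mk c.prime
  have := c.charP
  obtain ⟨f, h0, h1, h2, hinv⟩ := H875.TriSeven.tri_seven p c.two c.ndf c.seven c.max c.res e
  exact c.g2_of_form f h1 h2 h0 hinv

/-- `L₃(q)`, own characteristic -/
theorem own_l3 (E : Type) [Field E] [Fintype E] [CharP E p] (e : Soc P ≃* ProjectiveSpecialLinearGroup (Fin 3) E) :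
    Concl P := by
  have := Fact.mk c.prime
  have := c.charP
  obtain ⟨f, h0, h1, h2, hinv⟩ := H911.Ad.psl3_tri p c.core c.sd e (by rw [c.seven]; norm_num)
  exact c.g2_of_form f h1 h2 h0 hinv

/-- `U₃(q)`, own characteristic -/
theorem own_u3 (E : Type) [Field E] [Fintype E] [CharP E p] {q : ℕ} (hE : Fintype.card E = q ^ 2) (hq : 3 ≤ q)
    (e : Soc P ≃* PSU 3 E q) : Concl P := by
  have := Fact.mk c.prime
  have := c.charP
  obtain ⟨f, h1, h2, ⟨x, y, z, h0⟩, hinv⟩ := H929.U3.exists_alt_psu3 p c.core c.sd hq hE e c.seven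
  exact c.g2_of_form f h1 h2 (by rintro rfl; exact h0 rfl) hinv

/-- Ree groups -/
theorem own_ree (hp3 : p = 3) (h : Lie.IsoRee (Soc P)) : Concl P := by
  have := c.charP
  subst hp3
  obtain ⟨K, _, _, m, hm, hK, ⟨e⟩⟩ := h
  obtain ⟨-, -, f, h1, h2, h0, hinv⟩ := H141.ReeK.ree_tri c.core hm hK e (by rw [c.seven]; norm_num)
  exact c.g2_of_form f h1 h2 h0 hinv

/-- `G₂(q)` -/
theorem own_g2 (K : Type) [Field K] [Fintype K] [CharP K p] (h3 : 3 ≤ Fintype.card K)
    (e : Soc P ≃* Lie.chevG2.group K) : Concl P := by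
  have := Fact.mk c.prime
  have := c.charP
  obtain ⟨-, -, ⟨σ⟩, -, -⟩ := H927.G2.core_g2 p c.core (by rwa [Nat.card_eq_fintype_card]) e
    (by rw [c.seven]; norm_num)
  obtain ⟨e1⟩ := H638.G2Iso.equiv (F := K)
  obtain ⟨e2⟩ := g2_congr σ
  exact Or.inr (Or.inr ⟨(e.trans e1.symm).trans e2⟩)

end C7

end Cfsg.Agent.H856.Tz
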