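import Cfsg.Agent.UThreeGen.MatGroup

/-!
# The field with nine elements and the alternating function of triples of isotropic vectors
-/

set_option autoImplicit false

namespace Cfsg.Agent.H856.U33

open Cfsg.Agent.UThreeGen.MatGroup Matrix

/-- the field with nine elements -/
abbrev K9 : Type := QuadraticAlgebra (ZMod 3) 2 0

instance fact9 : Fact (∀ r : ZMod 3, r ^ 2 ≠ 2 + 0 * r) := ⟨by decide⟩

instance : Fintype K9 := Fintype.ofEquiv _ (QuadraticAlgebra.equivProd (R := ZMod 3) 2 0).symm

theorem forall9 {p : K9 → Prop} (h : ∀ a b : ZMod 3, p ⟨a, b⟩) : ∀ x, p x := fun x => h x.re x.im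

/-- conjugation -/
def s9 : K9 →+* K9 where
  toFun x := ⟨x.re, -x.im⟩
  map_one' := by decide +kernel
  map_mul' := by
    apply forall9; intro a b; apply forall9; revert a b; decide +kernel
  map_zero' := by decide +kernel
  map_add' := by
    apply forall9; intro a b; apply forall9; revert a b; decide +kernel

theorem s9_apply (x : K9) : s9 x = ⟨x.re, -x.im⟩ := rfl

theorem s9_pow (x : K9) : s9 x = x ^ 3 := by
  revert x; apply forall9; decide +kernel

instance : Fact (∀ x, s9 (s9 x) = x) := ⟨by apply forall9; decide +kernel⟩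

theorem card9 : Fintype.card K9 = 9 := by
  rw [Fintype.card_congr (QuadraticAlgebra.equivProd (R := ZMod 3) 2 0)]
  rfl

/-- signs -/
def ss (a : ZMod 3) : ℤ := if a = 0 then 0 else if a = 1 then 1 else -1

/-- the quadratic character -/
def ch (x : K9) : ℤ := if x = 0 then 0 else if x ^ 4 = 1 then 1 else -1

/-- the quadratic character, with value one at zero -/
def chh (x : K9) : ℤ := if x = 0 then 1 else ch x

/-- the odd function -/
def J (x : K9) : ℤ := if x.re = 0 then 2 * ss x.im else ss x.re * ss x.im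

theorem ch_mul : ∀ x y : K9, ch (x * y) = ch x * ch y := by
  apply forall9; intro a b; apply forall9; revert a b; decide +kernel

theorem ch_neg : ∀ x : K9, ch (-x) = ch x := by
  apply forall9; decide +kernel

theorem chh_neg : ∀ x : K9, chh (-x) = chh x := by
  apply forall9; decide +kernel

theorem ch_s9 : ∀ x : K9, ch (s9 x) = ch x := by
  apply forall9; decide +kernel

theorem ch_sq : ∀ x : K9, x ≠ 0 → ch x * ch x = 1 := by
  apply forall9; decide +kernel

theorem J_s9 : ∀ x : K9, J (s9 x) = - J x := by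
  apply forall9; decide +kernel

theorem J_zero : J 0 = 0 := by decide +kernel

theorem homog : ∀ t d α : K9, t ≠ 0 → α + s9 α = d * s9 d →
    chh (t * d) * J (t * s9 t * α) = ch t * (chh d * J α) := by
  apply forall9; intro a b; apply forall9; intro c d; apply forall9; revert a b c d; decide +kernel

/-! ### The group of order 27 -/

/-- the pairs -/
def hgE : HG s9 ≃ {p : K9 × K9 // p.2 + s9 p.2 = p.1 * s9 p.1} where
  toFun x := ⟨(x.a, x.b), x.h⟩
  invFun p := ⟨p.1.1, p.1.2, p.2⟩
  left_inv _ := rfl
  right_inv _ := rfl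

instance : Fintype (HG s9) := Fintype.ofEquiv _ hgE.symm

theorem card_hg : Fintype.card (HG s9) = 27 := by
  rw [Fintype.card_congr hgE]
  decide +kernel

theorem sum_hg (f : K9 → K9 → ℤ) : ∑ x : HG s9, f x.a x.b =
    ∑ a : K9, ∑ b : K9, if b + s9 b = a * s9 a then f a b else 0 := by
  rw [← Equiv.sum_comp hgE.symm, ← Fintype.sum_prod_type']
  have h1 : ∀ p : {p : K9 × K9 // p.2 + s9 p.2 = p.1 * s9 p.1}, f (hgE.symm p).a (hgE.symm p).b =
    (fun p : K9 × K9 => f p.1 p.2) p.1 := fun _ => rfl
  rw [Finset.sum_congr rfl fun p _ => h1 p, ← Finset.sum_filter]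
  exact (Finset.sum_subtype _ (by simp) (fun p : K9 × K9 => f p.1 p.2)).symm

theorem sum_ch : ∑ x : HG s9, ch x.b = -6 := by
  rw [sum_hg (fun _ b => ch b)]
  decide +kernel

/-- the values of the alternating function on `e, n e, u n e` -/
def T0 (a b : K9) : ℤ := - (chh a * J b)

theorem sum_T0 : ∑ x : HG s9, T0 x.a x.b = 0 := by
  rw [sum_hg T0]
  decide +kernel

theorem eigen_aux : ∀ c d : K9, d + s9 d = c * s9 c → (∑ a : K9, ∑ b : K9,
    if b + s9 b = a * s9 a then T0 a b * ch (s9 b + d + -a * s9 c) else 0) = -9 * T0 c d := by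
  apply forall9; intro a b; apply forall9; revert a b; decide +kernel

theorem eigen (y : HG s9) : ∑ x : HG s9, T0 x.a x.b * ch (x⁻¹ * y).b = -9 * T0 y.a y.b := by
  rw [← eigen_aux y.a y.b y.h, ← sum_hg (fun a b => T0 a b * ch (s9 b + y.b + -a * s9 y.a))]
  rfl

end Cfsg.Agent.H856.U33
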