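import Cfsg.Agent.H856.U33a

/-!
# The alternating function of triples of elements of `SU₃(3)`
-/

set_option autoImplicit false

namespace Cfsg.Agent.H856.U33

open Cfsg.Agent.UThreeGen.MatGroup Cfsg.Agent.LieRecognition.RankOneAbstract Matrix

/-- the hermitian form -/
def form (x y : Fin 3 → K9) : K9 := x 0 * s9 (y 2) - x 1 * s9 (y 1) + x 2 * s9 (y 0)

/-- the determinant -/
def dt (x y z : Fin 3 → K9) : K9 :=
  x 0 * (y 1 * z 2 - y 2 * z 1) - x 1 * (y 0 * z 2 - y 2 * z 0) + x 2 * (y 0 * z 1 - y 1 * z 0)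

theorem s9s9 (x : K9) : s9 (s9 x) = x := sig x

theorem s9_form (x y : Fin 3 → K9) : s9 (form x y) = form y x := by
  simp only [form, map_add, map_sub, map_mul, s9s9]; ring

/-- the alternating function -/
def TT (x y z : Fin 3 → K9) : ℤ := chh (dt x y z) * J (form x y * form y z * form z x)

theorem TT12 (x y z : Fin 3 → K9) : TT y x z = - TT x y z := by
  have h1 : dt y x z = - dt x y z := by simp only [dt]; ring
  have h2 : form y x * form x z * form z y = s9 (form x y * form y z * form z x) := by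
    rw [map_mul, map_mul, s9_form, s9_form, s9_form]; ring
  rw [TT, TT, h1, h2, chh_neg, J_s9, mul_neg]

theorem TT23 (x y z : Fin 3 → K9) : TT x z y = - TT x y z := by
  have h1 : dt x z y = - dt x y z := by simp only [dt]; ring
  have h2 : form x z * form z y * form y x = s9 (form x y * form y z * form z x) := by
    rw [map_mul, map_mul, s9_form, s9_form, s9_form]; ring
  rw [TT, TT, h1, h2, chh_neg, J_s9, mul_neg]

theorem gram {x y z : Fin 3 → K9} (hx : form x x = 0) (hy : form y y = 0) (hz : form z z = 0) :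
    form x y * form y z * form z x + s9 (form x y * form y z * form z x) = dt x y z * s9 (dt x y z) := by
  rw [map_mul, map_mul, s9_form, s9_form, s9_form]
  have h : dt x y z * s9 (dt x y z) = form x x * form y y * form z z + form x y * form y z * form z x +
      form y x * form z y * form x z - form x x * form y z * form z y - form y y * form x z * form z x -
      form z z * form x y * form y x := by
    simp only [dt, form, map_add, map_sub, map_mul]
    ring
  rw [h, hx, hy, hz]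
  ring

theorem TT_smul {x y z : Fin 3 → K9} (hx : form x x = 0) (hy : form y y = 0) (hz : form z z = 0) {t : K9}
    (ht : t ≠ 0) : TT (t • x) y z = ch t * TT x y z := by
  have h1 : dt (t • x) y z = t * dt x y z := by simp only [dt, Pi.smul_apply, smul_eq_mul]; ring
  have h2 : form (t • x) y * form y z * form z (t • x) = t * s9 t * (form x y * form y z * form z x) := by
    simp only [form, Pi.smul_apply, smul_eq_mul, map_mul]; ring
  rw [TT, TT, h1, h2, homog t _ _ ht (gram hx hy hz)]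

/-- the first column -/
def col (g : SUG s9) : Fin 3 → K9 := fun i => g.1.1 i 0

theorem col_iso (g : SUG s9) : form (col g) (col g) = 0 := by
  have h := entry_of_mem_SUG g.2 0 0
  have h2 : Gm K9 0 0 = 0 := rfl
  rw [h2] at h
  exact h

theorem form_mul (k : SUG s9) (x y : Fin 3 → K9) : form (k.1.1 *ᵥ x) (k.1.1 *ᵥ y) = form x y := by
  have e := entry_of_mem_SUG k.2
  have e00 := e 0 0
  have e01 := e 0 1
  have e02 := e 0 2
  have e10 := e 1 0
  have e11 := e 1 1
  have e12 := e 1 2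
  have e20 := e 2 0
  have e21 := e 2 1
  have e22 := e 2 2
  simp [Gm] at e00 e01 e02 e10 e11 e12 e20 e21 e22
  simp only [form, Matrix.mulVec, dotProduct, Fin.sum_univ_three, map_add, map_mul]
  linear_combination x 0 * s9 (y 0) * e00 + x 0 * s9 (y 1) * e01 + x 0 * s9 (y 2) * e02 +
    x 1 * s9 (y 0) * e10 + x 1 * s9 (y 1) * e11 + x 1 * s9 (y 2) * e12 +
    x 2 * s9 (y 0) * e20 + x 2 * s9 (y 1) * e21 + x 2 * s9 (y 2) * e22

theorem dt_mul (k : SUG s9) (x y z : Fin 3 → K9) : dt (k.1.1 *ᵥ x) (k.1.1 *ᵥ y) (k.1.1 *ᵥ z) = dt x y z := by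
  have hd : k.1.1.det = 1 := k.1.2
  rw [Matrix.det_fin_three] at hd
  simp only [dt, Matrix.mulVec, dotProduct, Fin.sum_univ_three]
  linear_combination (x 0 * (y 1 * z 2 - y 2 * z 1) - x 1 * (y 0 * z 2 - y 2 * z 0) +
    x 2 * (y 0 * z 1 - y 1 * z 0)) * hd

theorem col_mul (k g : SUG s9) : col (k * g) = k.1.1 *ᵥ col g := by
  funext i
  show (k * g).1.1 i 0 = _
  rw [coe_mul_SUG, Matrix.mul_apply]
  rfl

/-- the alternating function on triples of group elements -/
def T3 (g₁ g₂ g₃ : SUG s9) : ℤ := TT (col g₁) (col g₂) (col g₃)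

theorem T3_left (k g₁ g₂ g₃ : SUG s9) : T3 (k * g₁) (k * g₂) (k * g₃) = T3 g₁ g₂ g₃ := by
  rw [T3, T3, col_mul, col_mul, col_mul, TT, TT, form_mul, form_mul, form_mul, dt_mul]

theorem T3_12 (g₁ g₂ g₃ : SUG s9) : T3 g₂ g₁ g₃ = - T3 g₁ g₂ g₃ := TT12 _ _ _

theorem T3_23 (g₁ g₂ g₃ : SUG s9) : T3 g₁ g₃ g₂ = - T3 g₁ g₂ g₃ := TT23 _ _ _

theorem col_borel {b : SUG s9} (hb : b ∈ borel s9) (g : SUG s9) : col (g * b) = b.1.1 0 0 • col g := by
  funext i
  show (g * b).1.1 i 0 = b.1.1 0 0 * g.1.1 i 0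
  rw [coe_mul_SUG, Matrix.mul_apply, Fin.sum_univ_three, hb.1, hb.2]
  ring

theorem borel_ne {b : SUG s9} (hb : b ∈ borel s9) : b.1.1 0 0 ≠ 0 := by
  intro h0
  have hdet : b.1.1.det = 1 := b.1.2
  rw [Matrix.det_fin_three, hb.1, hb.2, h0] at hdet
  simp at hdet

theorem T3_b1 {b : SUG s9} (hb : b ∈ borel s9) (g₁ g₂ g₃ : SUG s9) :
    T3 (g₁ * b) g₂ g₃ = ch (b.1.1 0 0) * T3 g₁ g₂ g₃ := by
  rw [T3, col_borel hb, TT_smul (col_iso _) (col_iso _) (col_iso _) (borel_ne hb)]
  rfl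

theorem T3_b2 {b : SUG s9} (hb : b ∈ borel s9) (g₁ g₂ g₃ : SUG s9) :
    T3 g₁ (g₂ * b) g₃ = ch (b.1.1 0 0) * T3 g₁ g₂ g₃ := by
  rw [T3_12, T3_b1 hb, T3_12]; ring

theorem T3_b3 {b : SUG s9} (hb : b ∈ borel s9) (g₁ g₂ g₃ : SUG s9) :
    T3 g₁ g₂ (g₃ * b) = ch (b.1.1 0 0) * T3 g₁ g₂ g₃ := by
  rw [T3_23, T3_b2 hb, T3_23]; ring

theorem T3_bb {b : SUG s9} (hb : b ∈ borel s9) (g : SUG s9) : T3 1 b g = 0 := by
  have h1 : col b = b.1.1 0 0 • col 1 := by
    have := col_borel hb 1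
    rwa [one_mul] at this
  have h2 : form (col 1) (col b) = 0 := by
    have h3 : form (col 1) (b.1.1 0 0 • col 1) = s9 (b.1.1 0 0) * form (col 1) (col 1) := by
      simp only [form, Pi.smul_apply, smul_eq_mul, map_mul]; ring
    rw [h1, h3, col_iso, mul_zero]
  rw [T3, TT, h2, zero_mul, zero_mul, J_zero, mul_zero]

theorem col_one : col 1 = ![1, 0, 0] := by
  funext i
  fin_cases i <;> rfl

theorem col_wel : col (wel s9) = ![0, 0, -1] := by
  funext i
  fin_cases i <;> rfl

theorem col_emb_wel (x : HG s9) : col (emb s9 x * wel s9) = ![-x.b, -s9 x.a, -1] := by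
  rw [col_mul, col_wel, emb_val]
  funext i
  fin_cases i <;> simp [umat, Matrix.mulVec, dotProduct, Fin.sum_univ_three]

theorem T3_emb (x : HG s9) : T3 1 (wel s9) (emb s9 x * wel s9) = T0 x.a x.b := by
  rw [T3, col_one, col_wel, col_emb_wel, TT]
  have h1 : dt ![1, 0, 0] ![0, 0, -1] ![-x.b, -s9 x.a, -1] = -s9 x.a := by
    simp [dt]
  have h2 : form ![1, 0, 0] ![0, 0, -1] * form ![0, 0, -1] ![-x.b, -s9 x.a, -1] *
      form ![-x.b, -s9 x.a, -1] ![1, 0, 0] = s9 x.b := by
    simp [form]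
  rw [h1, h2, chh_neg, J_s9, T0]
  have h3 : chh (s9 x.a) = chh x.a := by
    have : ∀ x : K9, chh (s9 x) = chh x := by apply forall9; decide +kernel
    exact this _
  rw [h3]
  ring

end Cfsg.Agent.H856.U33
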