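import Cfsg.Agent.H856.U33b
import Cfsg.Agent.H906.U3Def

/-!
# Sums over `SU₃(3)`; the contraction identity
-/

set_option autoImplicit false

namespace Cfsg.Agent.H856.U33

open Cfsg.Agent.UThreeGen.MatGroup Cfsg.Agent.LieRecognition.RankOneAbstract Matrix

theorem emb_mem_borel (x : HG s9) : emb s9 x ∈ borel s9 := data_SUG.le ⟨x, rfl⟩

/-- the Bruhat decomposition -/
noncomputable def bru : (borel s9 ⊕ (HG s9 × borel s9)) ≃ SUG s9 :=
  Equiv.ofBijective (fun z => match z with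
    | Sum.inl b => (b : SUG s9)
    | Sum.inr (x, b) => emb s9 x * wel s9 * b) (by
    have hnot : ∀ (x : HG s9) (b : borel s9), emb s9 x * wel s9 * b ∉ borel s9 := by
      intro x b h
      apply (data_SUG (σ := s9)).w_not_mem
      have h1 : wel s9 = (emb s9 x)⁻¹ * (emb s9 x * wel s9 * b) * (b : SUG s9)⁻¹ := by group
      rw [h1]
      exact (borel s9).mul_mem ((borel s9).mul_mem ((borel s9).inv_mem (emb_mem_borel x)) h)
        ((borel s9).inv_mem b.2)
    constructor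
    · rintro (b | ⟨x, b⟩) (b' | ⟨x', b'⟩) h
      · exact congrArg Sum.inl (Subtype.ext h)
      · exact absurd (by rw [← (show (b : SUG s9) = emb s9 x' * wel s9 * b' from h)]; exact b.2) (hnot x' b')
      · exact absurd (by rw [(show emb s9 x * wel s9 * b = (b' : SUG s9) from h)]; exact b'.2) (hnot x b)
      · have h' : emb s9 x * wel s9 * b = emb s9 x' * wel s9 * b' := h
        have h1 : (wel s9)⁻¹ * emb s9 (x'⁻¹ * x) * wel s9 ∈ borel s9 := by
          have h2 : (wel s9)⁻¹ * emb s9 (x'⁻¹ * x) * wel s9 = (b' : SUG s9) * (b : SUG s9)⁻¹ := by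
            rw [map_mul, map_inv, eq_mul_inv_iff_mul_eq]
            have h3 : (wel s9)⁻¹ * ((emb s9 x')⁻¹ * emb s9 x) * wel s9 * b =
              (wel s9)⁻¹ * (emb s9 x')⁻¹ * (emb s9 x * wel s9 * b) := by group
            rw [h3, h']
            group
          rw [h2]
          exact (borel s9).mul_mem b'.2 ((borel s9).inv_mem b.2)
        have h3 := data_SUG.inter _ ⟨_, rfl⟩ h1
        have h4 : x'⁻¹ * x = 1 := emb_injective (h3.trans (map_one _).symm)
        have h5 : x = x' := (inv_mul_eq_one.1 h4).symm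
        subst h5
        have h6 : b = b' := Subtype.ext (mul_left_cancel h')
        rw [h6]
    · intro g
      by_cases hg : g ∈ borel s9
      · exact ⟨Sum.inl ⟨g, hg⟩, rfl⟩
      · obtain ⟨_, ⟨x, rfl⟩, h⟩ := data_SUG.bruhat g hg
        exact ⟨Sum.inr (x, ⟨_, h⟩), by show emb s9 x * wel s9 * ((emb s9 x * wel s9)⁻¹ * g) = g; group⟩)

theorem bru_inl (b : borel s9) : bru (Sum.inl b) = b := rfl
theorem bru_inr (x : HG s9) (b : borel s9) : bru (Sum.inr (x, b)) = emb s9 x * wel s9 * b := rfl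

theorem emb_tor_00 (x : HG s9) (c : K9ˣ) : (emb s9 x * H906.tor s9 c).1.1 0 0 = c := by
  rw [coe_mul_SUG, emb_val, H906.tor_val]
  simp [umat, Matrix.mul_apply, Fin.sum_univ_three]

/-- the Borel subgroup as pairs -/
noncomputable def borE : (HG s9 × K9ˣ) ≃ borel s9 :=
  Equiv.ofBijective (fun z => ⟨emb s9 z.1 * H906.tor s9 z.2,
    (borel s9).mul_mem (emb_mem_borel _) (H906.tor_mem_borel _)⟩) (by
    constructor
    · rintro ⟨x, c⟩ ⟨x', c'⟩ h
      have h1 : emb s9 x * H906.tor s9 c = emb s9 x' * H906.tor s9 c' := congrArg Subtype.val h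
      have h2 : c = c' := Units.ext (by rw [← emb_tor_00 x c, h1, emb_tor_00])
      subst h2
      have h3 := emb_injective (mul_right_cancel h1)
      rw [h3]
    · rintro ⟨b, hb⟩
      obtain ⟨_, ⟨x, rfl⟩, c, rfl⟩ := H906.borel_eq b hb
      exact ⟨(x, c), rfl⟩)

noncomputable instance : Fintype (borel s9) := Fintype.ofEquiv _ borE

theorem card_borel : Fintype.card (borel s9) = 216 := by
  rw [← Fintype.card_congr borE, Fintype.card_prod, card_hg, Fintype.card_units, card9]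

noncomputable instance : Fintype (SUG s9) := Fintype.ofEquiv _ bru

section sums

variable {A : Type*} [Field A]

/-- sums over the group of functions on the cosets of the Borel subgroup -/
theorem sum_G (ψ : SUG s9 → A) (hψ : ∀ g, ∀ b ∈ borel s9, ψ (g * b) = ψ g) :
    ∑ g, ψ g = 216 * (ψ 1 + ∑ x : HG s9, ψ (emb s9 x * wel s9)) := by
  rw [← Equiv.sum_comp bru, Fintype.sum_sum_type]
  have h1 : ∀ b : borel s9, ψ (bru (Sum.inl b)) = ψ 1 := fun b => by
    rw [bru_inl, ← hψ 1 b b.2, one_mul]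
  have h2 : ∀ z : HG s9 × borel s9, ψ (bru (Sum.inr z)) = ψ (emb s9 z.1 * wel s9) := by
    rintro ⟨x, b⟩
    rw [bru_inr, hψ _ b b.2]
  rw [Finset.sum_congr rfl fun b _ => h1 b, Finset.sum_congr rfl fun z _ => h2 z, Fintype.sum_prod_type]
  simp only [Finset.sum_const, Finset.card_univ, card_borel, nsmul_eq_mul]
  rw [← Finset.mul_sum]
  push_cast
  ring

/-- the matrix coefficient -/
structure Co (Φ : SUG s9 → A) (c : A) : Prop where
  c3 : 3 * c = -1
  mem : ∀ g ∈ borel s9, Φ g = ((ch (g.1.1 0 0) : ℤ) : A)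
  not_mem : ∀ g ∉ borel s9, Φ g = c * ((ch (g.1.1 2 0) : ℤ) : A)

variable {Φ : SUG s9 → A} {c : A} (hΦ : Co Φ c)

include hΦ

theorem Co.mul_b {b : SUG s9} (hb : b ∈ borel s9) (g : SUG s9) : Φ (g * b) = ((ch (b.1.1 0 0) : ℤ) : A) * Φ g := by
  have hc : ∀ i, (g * b).1.1 i 0 = b.1.1 0 0 * g.1.1 i 0 := fun i => congrFun (col_borel hb g) i
  by_cases hg : g ∈ borel s9
  · rw [hΦ.mem _ ((borel s9).mul_mem hg hb), hΦ.mem _ hg, hc, ch_mul]
    push_cast
    ring
  · have hgb : g * b ∉ borel s9 := fun h => hg (by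
      have h1 : g = g * b * b⁻¹ := by group
      rw [h1]
      exact (borel s9).mul_mem h ((borel s9).inv_mem hb))
    rw [hΦ.not_mem _ hgb, hΦ.not_mem _ hg, hc, ch_mul]
    push_cast
    ring

theorem Co.b_mul {b : SUG s9} (hb : b ∈ borel s9) (g : SUG s9) : Φ (b * g) = ((ch (b.1.1 0 0) : ℤ) : A) * Φ g := by
  by_cases hg : g ∈ borel s9
  · have hc : (b * g).1.1 0 0 = g.1.1 0 0 * b.1.1 0 0 := congrFun (col_borel hg b) 0
    rw [hΦ.mem _ ((borel s9).mul_mem hb hg), hΦ.mem _ hg, hc, ch_mul]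
    push_cast
    ring
  · have hgb : b * g ∉ borel s9 := fun h => hg (by
      have h1 : g = b⁻¹ * (b * g) := by group
      rw [h1]
      exact (borel s9).mul_mem ((borel s9).inv_mem hb) h)
    have hc : ch ((b * g).1.1 2 0) = ch (b.1.1 0 0) * ch (g.1.1 2 0) := by
      obtain ⟨_, ⟨x, rfl⟩, a, rfl⟩ := H906.borel_eq b hb
      rw [emb_tor_00]
      have h2 : (emb s9 x * H906.tor s9 a * g).1.1 2 0 = (s9 (a : K9))⁻¹ * g.1.1 2 0 := by
        rw [coe_mul_SUG, coe_mul_SUG, emb_val, H906.tor_val]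
        simp [umat, Matrix.mul_apply, Fin.sum_univ_three]
      rw [h2, ch_mul]
      congr 1
      have h3 : ∀ x : K9, x ≠ 0 → ch ((s9 x)⁻¹) = ch x := by
        intro x hx
        have h4 := ch_mul (s9 x) (s9 x)⁻¹
        have h5 : s9 x ≠ 0 := (map_ne_zero s9).2 hx
        rw [mul_inv_cancel₀ h5, ch_s9] at h4
        have h6 : ch (1 : K9) = 1 := by decide +kernel
        rw [h6] at h4
        have h7 := ch_sq x hx
        have h8 : ch x ≠ 0 := fun h => by rw [h, zero_mul] at h7; exact zero_ne_one h7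
        exact mul_left_cancel₀ h8 (h4.symm.trans h7.symm)
      exact h3 _ a.ne_zero
    rw [hΦ.not_mem _ hgb, hΦ.not_mem _ hg, hc]
    push_cast
    ring

omit [Field A] hΦ in
theorem ch_inv_borel {b : SUG s9} (hb : b ∈ borel s9) : ch (b.1.1 0 0) * ch ((b⁻¹).1.1 0 0) = 1 := by
  have h1 : (b⁻¹ * b).1.1 0 0 = b.1.1 0 0 * (b⁻¹).1.1 0 0 := congrFun (col_borel hb b⁻¹) 0
  rw [inv_mul_cancel] at h1
  have h2 : ((1 : SUG s9).1.1 : Matrix (Fin 3) (Fin 3) K9) 0 0 = 1 := by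
    show (1 : Matrix (Fin 3) (Fin 3) K9) 0 0 = 1
    simp
  rw [← ch_mul, ← h1, h2]
  decide +kernel

instance : DecidableEq (HG s9) := hgE.decidableEq

theorem Co.wxw (x : HG s9) : Φ ((wel s9)⁻¹ * emb s9 x * wel s9) =
    (if x = 1 then 1 else 0) + c * ((ch x.b : ℤ) : A) := by
  by_cases hx : x = 1
  · rw [if_pos hx, hx, map_one, mul_one, inv_mul_cancel, hΦ.mem 1 (borel s9).one_mem]
    have h2 : ((1 : SUG s9).1.1 : Matrix (Fin 3) (Fin 3) K9) 0 0 = 1 := by
      show (1 : Matrix (Fin 3) (Fin 3) K9) 0 0 = 1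
      simp
    have h3 : ch (1 : K9) = 1 := by decide +kernel
    have h4 : ch (1 : HG s9).b = 0 := by rw [one_b]; decide +kernel
    rw [h2, h3, h4]
    simp
  · rw [if_neg hx, zero_add, hΦ.not_mem]
    · have h1 : ((wel s9)⁻¹ * emb s9 x * wel s9).1.1 2 0 = x.b := by
        rw [wel_inv, coe_mul_SUG, coe_mul_SUG, wel_val, emb_val]
        simp [umat, Wm, Matrix.mul_apply, Fin.sum_univ_three]
      rw [h1]
    · intro h
      exact hx (emb_injective ((data_SUG.inter _ ⟨_, rfl⟩ h).trans (map_one _).symm))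

theorem Co.xw_inv (x : HG s9) : Φ ((emb s9 x * wel s9)⁻¹) = c := by
  have h1 : ((emb s9 x * wel s9)⁻¹).1.1 2 0 = -1 := by
    rw [_root_.mul_inv_rev, wel_inv, ← map_inv, coe_mul_SUG, wel_val, emb_val]
    simp [umat, Wm, Matrix.mul_apply, Fin.sum_univ_three]
  rw [hΦ.not_mem, h1]
  · have : ch (-1 : K9) = 1 := by decide +kernel
    rw [this, Int.cast_one, mul_one]
  · intro h
    rw [h.2] at h1
    revert h1
    decide +kernel

/-- the contraction -/
theorem Co.contr0 (h : SUG s9) : ∑ g, ((T3 1 (wel s9) g : ℤ) : A) * Φ (g⁻¹ * h) = 864 * ((T3 1 (wel s9) h : ℤ) : A) := by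
  have hT1 : T3 1 (wel s9) 1 = 0 := by
    rw [T3_23, T3_bb (borel s9).one_mem, neg_zero]
  have hψ : ∀ h g, ∀ b ∈ borel s9, ((T3 1 (wel s9) (g * b) : ℤ) : A) * Φ ((g * b)⁻¹ * h) =
      ((T3 1 (wel s9) g : ℤ) : A) * Φ (g⁻¹ * h) := by
    intro h g b hb
    rw [T3_b3 hb, _root_.mul_inv_rev, mul_assoc b⁻¹, hΦ.b_mul ((borel s9).inv_mem hb)]
    have h1 := congrArg (Int.cast : ℤ → A) (ch_inv_borel hb)
    push_cast at h1 ⊢
    linear_combination ((T3 1 (wel s9) g : ℤ) : A) * Φ (g⁻¹ * h) * h1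
  have key1 : ∑ g, ((T3 1 (wel s9) g : ℤ) : A) * Φ (g⁻¹ * 1) = 864 * ((T3 1 (wel s9) 1 : ℤ) : A) := by
    rw [sum_G _ (hψ 1), hT1]
    simp only [mul_one, hΦ.xw_inv, T3_emb]
    rw [← Finset.sum_mul, ← Int.cast_sum, sum_T0]
    simp
  have key2 : ∀ y : HG s9, ∑ g, ((T3 1 (wel s9) g : ℤ) : A) * Φ (g⁻¹ * (emb s9 y * wel s9)) =
      864 * ((T3 1 (wel s9) (emb s9 y * wel s9) : ℤ) : A) := by
    intro y
    rw [sum_G _ (hψ _), hT1, Int.cast_zero, zero_mul, zero_add]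
    have h1 : ∀ x : HG s9, ((T3 1 (wel s9) (emb s9 x * wel s9) : ℤ) : A) *
        Φ ((emb s9 x * wel s9)⁻¹ * (emb s9 y * wel s9)) =
        (if x = y then ((T0 x.a x.b : ℤ) : A) else 0) + c * ((T0 x.a x.b * ch (x⁻¹ * y).b : ℤ) : A) := by
      intro x
      have h2 : (emb s9 x * wel s9)⁻¹ * (emb s9 y * wel s9) = (wel s9)⁻¹ * emb s9 (x⁻¹ * y) * wel s9 := by
        rw [map_mul, map_inv]; group
      rw [h2, hΦ.wxw, T3_emb]
      have h3 : x⁻¹ * y = 1 ↔ x = y := inv_mul_eq_one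
      simp only [h3]
      push_cast
      split_ifs <;> ring
    rw [Finset.sum_congr rfl fun x _ => h1 x, Finset.sum_add_distrib, Finset.sum_ite_eq' Finset.univ y,
      if_pos (Finset.mem_univ _), ← Finset.mul_sum, ← Int.cast_sum, eigen, T3_emb]
    push_cast
    linear_combination (-(648 : A)) * ((T0 y.a y.b : ℤ) : A) * hΦ.c3
  by_cases hh : h ∈ borel s9
  · have h1 : ∀ g : SUG s9, Φ (g⁻¹ * h) = ((ch (h.1.1 0 0) : ℤ) : A) * Φ (g⁻¹ * 1) := fun g => by
      rw [hΦ.mul_b hh, mul_one]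
    have h2 : T3 1 (wel s9) h = ch (h.1.1 0 0) * T3 1 (wel s9) 1 := by
      rw [← T3_b3 hh, one_mul]
    simp only [h1]
    rw [h2]
    push_cast
    calc _ = ((ch (h.1.1 0 0) : ℤ) : A) * ∑ g, ((T3 1 (wel s9) g : ℤ) : A) * Φ (g⁻¹ * 1) := by
          rw [Finset.mul_sum]
          exact Finset.sum_congr rfl fun g _ => by ring
      _ = _ := by rw [key1]; ring
  · obtain ⟨_, ⟨y, rfl⟩, hb⟩ := data_SUG.bruhat h hh
    set b := (emb s9 y * wel s9)⁻¹ * h with hbdef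
    have hhb : h = emb s9 y * wel s9 * b := by rw [hbdef]; group
    have h1 : ∀ g : SUG s9, Φ (g⁻¹ * h) = ((ch (b.1.1 0 0) : ℤ) : A) * Φ (g⁻¹ * (emb s9 y * wel s9)) := fun g => by
      rw [hhb, ← mul_assoc, hΦ.mul_b hb]
    have h2 : T3 1 (wel s9) h = ch (b.1.1 0 0) * T3 1 (wel s9) (emb s9 y * wel s9) := by
      rw [hhb, T3_b3 hb]
    simp only [h1]
    rw [h2]
    push_cast
    calc _ = ((ch (b.1.1 0 0) : ℤ) : A) * ∑ g, ((T3 1 (wel s9) g : ℤ) : A) * Φ (g⁻¹ * (emb s9 y * wel s9)) := by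
          rw [Finset.mul_sum]
          exact Finset.sum_congr rfl fun g _ => by ring
      _ = _ := by rw [key2]; ring

theorem Co.contr (g₁ g₂ h : SUG s9) : ∑ g, ((T3 g₁ g₂ g : ℤ) : A) * Φ (g⁻¹ * h) = 864 * ((T3 g₁ g₂ h : ℤ) : A) := by
  -- invariance
  have inv : ∀ k g₁ g₂ h : SUG s9, (∑ g, ((T3 (k * g₁) (k * g₂) g : ℤ) : A) * Φ (g⁻¹ * (k * h)) =
      864 * ((T3 (k * g₁) (k * g₂) (k * h) : ℤ) : A)) →
      ∑ g, ((T3 g₁ g₂ g : ℤ) : A) * Φ (g⁻¹ * h) = 864 * ((T3 g₁ g₂ h : ℤ) : A) := by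
    intro k g₁ g₂ h hk
    rw [T3_left] at hk
    rw [← hk]
    conv_rhs => rw [← Equiv.sum_comp (Equiv.mulLeft k)]
    refine Finset.sum_congr rfl fun g _ => ?_
    have e1 : (k * g)⁻¹ * (k * h) = g⁻¹ * h := by group
    show _ = ((T3 (k * g₁) (k * g₂) (k * g) : ℤ) : A) * Φ ((k * g)⁻¹ * (k * h))
    rw [T3_left, e1]
  have one : ∀ g₂ h : SUG s9, ∑ g, ((T3 1 g₂ g : ℤ) : A) * Φ (g⁻¹ * h) = 864 * ((T3 1 g₂ h : ℤ) : A) := by
    intro g₂ h
    by_cases hg : g₂ ∈ borel s9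
    · simp only [T3_bb hg]
      simp
    · obtain ⟨_, ⟨y, rfl⟩, hb⟩ := data_SUG.bruhat g₂ hg
      set b := (emb s9 y * wel s9)⁻¹ * g₂ with hbdef
      have hhb : g₂ = emb s9 y * wel s9 * b := by rw [hbdef]; group
      apply inv (emb s9 y)⁻¹
      have hy : (emb s9 y)⁻¹ ∈ borel s9 := (borel s9).inv_mem (emb_mem_borel y)
      have e1 : (emb s9 y)⁻¹ * g₂ = wel s9 * b := by rw [hhb]; group
      have e2 : ch (((emb s9 y)⁻¹).1.1 0 0) = 1 := by
        rw [← map_inv, emb_val]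
        show ch (1 : K9) = 1
        decide +kernel
      have e3 : ∀ g, T3 ((emb s9 y)⁻¹ * 1) ((emb s9 y)⁻¹ * g₂) g = ch (b.1.1 0 0) * T3 1 (wel s9) g := by
        intro g
        have e4 : T3 ((emb s9 y)⁻¹ * 1) (wel s9 * b) g = T3 (1 * (emb s9 y)⁻¹) (wel s9 * b) g := by
          rw [mul_one, one_mul]
        rw [e1, e4, T3_b1 hy, e2, one_mul, T3_b2 hb]
      simp only [e3]
      push_cast
      calc _ = ((ch (b.1.1 0 0) : ℤ) : A) * ∑ g, ((T3 1 (wel s9) g : ℤ) : A) * Φ (g⁻¹ * ((emb s9 y)⁻¹ * h)) := by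
            rw [Finset.mul_sum]
            exact Finset.sum_congr rfl fun g _ => by ring
        _ = _ := by rw [hΦ.contr0]; ring
  apply inv g₁⁻¹
  rw [inv_mul_cancel]
  exact one _ _

end sums

end Cfsg.Agent.H856.U33
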