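import Cfsg.Agent.H856.U33c
import Cfsg.Agent.H659.SevenU33

/-!
# The 7-dimensional orthogonal representation of `SU₃(3)` (helper856)

The first section is an adapted copy of `H659/SevenU33` (the torus element is made explicit).
-/

set_option autoImplicit false

namespace Cfsg.Agent.H856.U33

open Cfsg.Agent.UThreeGen.MatGroup Cfsg.Agent.H906 Cfsg.Agent.H659.BorelCoef Cfsg.Agent.H659.HeisLine
open Cfsg.Agent.H659.SevenU33 (tor_conj)
open scoped MatrixGroups Matrix

section Group

variable {K : Type*} [Field K] {σ : K →+* K} [hσ : Fact (∀ x, σ (σ x) = x)]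

variable [Finite K] (hs : ∀ x, σ x = x ^ 3) (hK : Nat.card K = 3 ^ 2)

include hs hK in
theorem exists_hdata : ∃ (a0 : Kˣ) (z x y : HG σ), (∀ a : Kˣ, ∃ k : ℕ, a0 ^ k = a) ∧ z.a = 0 ∧ z ≠ 1 ∧
    HData (emb σ).range (tor σ a0) (emb σ z) (emb σ x) (emb σ y) ∧
    (∀ b ∈ borel σ, ∃ u ∈ (emb σ).range, ∃ k : ℕ, b = u * (tor σ a0) ^ k) ∧
    (wel σ)⁻¹ * (tor σ a0) * wel σ = ((tor σ a0) ^ 3)⁻¹ := by
  classical
  obtain ⟨a0, ha0⟩ := IsCyclic.exists_generator (α := Kˣ)
  have hord : orderOf a0 = 8 := by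
    rw [orderOf_eq_card_of_forall_mem_zpowers ha0, Nat.card_units, hK]; norm_num
  have ha04 : (a0 : K) ^ 4 = -1 := by
    have h1 : ((a0 : K) ^ 4 - 1) * ((a0 : K) ^ 4 + 1) = 0 := by
      have h2 : a0 ^ 8 = 1 := by rw [← hord]; exact pow_orderOf_eq_one a0
      have h3 := congrArg Units.val h2
      rw [Units.val_pow_eq_pow_val, Units.val_one] at h3
      linear_combination h3
    rcases mul_eq_zero.1 h1 with h2 | h2
    · exfalso
      have h3 : a0 ^ 4 = 1 := Units.ext (by rw [Units.val_pow_eq_pow_val, Units.val_one]; exact sub_eq_zero.1 h2)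
      have h4 := orderOf_dvd_of_pow_eq_one h3
      rw [hord] at h4
      norm_num at h4
    · exact eq_neg_of_add_eq_zero_left h2
  have h3K : (3 : K) = 0 := by
    have h1 : ((Nat.card K : ℕ) : K) = 0 := by
      have := Fintype.ofFinite K
      rw [Nat.card_eq_fintype_card]
      exact Nat.cast_card_eq_zero K
    rw [hK] at h1
    have h2 : (3 : K) ^ 2 = 0 := by exact_mod_cast h1
    exact pow_eq_zero_iff (two_ne_zero) |>.1 h2
  have hne0 : (a0 : K) ≠ 0 := a0.ne_zero
  have h1ne : (-1 : K) ≠ 1 := by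
    intro h
    have h2 : (1 : K) = 0 := by linear_combination h3K + h
    exact one_ne_zero h2
  have ha01 : (a0 : K) ≠ 1 := by
    intro h
    rw [h, one_pow] at ha04
    exact h1ne ha04.symm
  have ha02 : (a0 : K) ^ 2 ≠ 1 := by
    intro h
    apply h1ne
    rw [← ha04]
    linear_combination ((a0 : K) ^ 2 + 1) * h
  obtain ⟨x, hx⟩ := aHom_surjective (σ := σ) (by norm_num) hs hK 1
  obtain ⟨y, hy⟩ := aHom_surjective (σ := σ) (by norm_num) hs hK (a0 : K)
  obtain ⟨z, hxy⟩ : ∃ z : HG σ, x * y = z * (y * x) := ⟨x * y * (y * x)⁻¹, by group⟩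
  have hza : z.a = 0 := by
    have := congrArg HG.a hxy
    rw [mul_a, mul_a, mul_a] at this
    linear_combination -this
  have hzb : z.b = (a0 : K) ^ 3 - a0 := by
    have := congrArg HG.b hxy
    rw [mul_b, mul_b, mul_b, hza, hx, hy, map_one, hs] at this
    linear_combination -this
  have hzb0 : z.b ≠ 0 := by
    rw [hzb]
    intro h
    apply ha02
    have : (a0 : K) * ((a0 : K) ^ 2 - 1) = 0 := by linear_combination h
    exact sub_eq_zero.1 ((mul_eq_zero.1 this).resolve_left hne0)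
  have hsz : σ z.b = -z.b := by
    have := z.h
    rw [hza, zero_mul] at this
    linear_combination this
  have hzpow : ∀ k : ℕ, (z ^ k).a = 0 ∧ (z ^ k).b = k * z.b := by
    intro k
    induction k with
    | zero => rw [pow_zero]; constructor <;> simp [one_a]
    | succ k ih =>
      rw [pow_succ, mul_a, mul_b, ih.1, ih.2, hza]
      constructor
      · ring
      · rw [map_zero]; push_cast; ring
  have hpowh : ∀ k : ℕ, (tor σ a0) ^ k = tor σ (a0 ^ k) := fun k => (map_pow _ _ _).symm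
  have hs0 : σ (a0 : K) = (a0 : K) ^ 3 := hs _
  refine ⟨a0, z, x, y, ?_, hza, ?_, ?_, ?_, ?_⟩
  · intro a
    have h1 := ha0 a
    rw [← mem_powers_iff_mem_zpowers] at h1
    exact h1
  · rintro h
    rw [h, one_b] at hzb0
    exact hzb0 rfl
  · refine ⟨⟨z, rfl⟩, ⟨x, rfl⟩, ⟨y, rfl⟩, ?_, ?_, ?_, ?_, ?_⟩
    · rw [← map_pow, ← map_one (emb σ)]
      congr 1
      ext
      · exact (hzpow 3).1
      · rw [(hzpow 3).2]
        change ((3 : ℕ) : K) * z.b = 0
        push_cast
        rw [h3K, zero_mul]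
    · rintro _ ⟨u, rfl⟩
      rw [← map_mul, ← map_mul]
      congr 1
      ext
      · rw [mul_a, mul_a, add_comm]
      · rw [mul_b, mul_b, hza, map_zero, zero_mul, mul_zero, add_comm u.b]
    · rw [← map_mul, ← map_mul, ← map_mul, hxy]
    · have h1 := tor_conj a0 z z⁻¹ (by rw [inv_a, hza, neg_zero, mul_zero]) (by
        rw [inv_b, hsz, hs0]
        linear_combination z.b * ha04 * (-1))
      rw [← map_inv, ← h1]
      group
    · rintro _ ⟨u, rfl⟩
      have hd : (a0 : K)⁻¹ - 1 ≠ 0 := by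
        intro h
        apply ha01
        simpa using sub_eq_zero.1 h
      obtain ⟨t, ht⟩ := aHom_surjective (σ := σ) (by norm_num) hs hK (u.a / ((a0 : K)⁻¹ - 1))
      have hh : -t.b + σ (-t.b) = ((a0 : K)⁻¹ * t.a) * σ ((a0 : K)⁻¹ * t.a) := by
        have h2 := t.h
        rw [map_neg, map_mul, map_inv₀, hs0]
        have h5 : (a0 : K)⁻¹ * ((a0 : K) ^ 3)⁻¹ = -1 := by
          rw [← mul_inv, ← pow_succ', ha04]
          norm_num
        linear_combination -h2 - t.a * σ t.a * h5
      set t' : HG σ := ⟨(a0 : K)⁻¹ * t.a, -t.b, hh⟩ with ht'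
      have h1 := tor_conj a0 t t' (by
        change (a0 : K)⁻¹ * t.a = _
        rw [hs0]
        field_simp) (by
        change -t.b = _
        rw [hs0]
        linear_combination t.b * ha04 * (-1))
      -- the remaining factor
      obtain ⟨s, hs'⟩ : ∃ s : HG σ, u = t' * t⁻¹ * s := ⟨(t' * t⁻¹)⁻¹ * u, by group⟩
      have hsa : s.a = 0 := by
        have := congrArg HG.a hs'
        rw [mul_a, mul_a, inv_a] at this
        change u.a = (a0 : K)⁻¹ * t.a + -t.a + s.a at this
        have h2 : t.a * ((a0 : K)⁻¹ - 1) = u.a := by rw [ht, div_mul_cancel₀ _ hd]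
        linear_combination -this - h2
      have hsb : σ s.b = -s.b := by
        have := s.h
        rw [hsa, zero_mul] at this
        linear_combination this
      obtain ⟨k, hk⟩ : ∃ k : ℕ, s = z ^ k := by
        set c := s.b / z.b with hc
        have hsc : c ^ 3 = c := by
          rw [← hs, hc, map_div₀, hsb, hsz, neg_div_neg_eq]
        have hc3 : c * ((c - 1) * (c + 1)) = 0 := by linear_combination hsc
        have hsbc : s.b = c * z.b := by rw [hc, div_mul_cancel₀ _ hzb0]
        rcases mul_eq_zero.1 hc3 with h4 | h4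
        · refine ⟨0, ?_⟩
          ext
          · rw [hsa, (hzpow 0).1]
          · rw [hsbc, h4, (hzpow 0).2, Nat.cast_zero]
        rcases mul_eq_zero.1 h4 with h5 | h5
        · refine ⟨1, ?_⟩
          ext
          · rw [hsa, (hzpow 1).1]
          · rw [hsbc, sub_eq_zero.1 h5, (hzpow 1).2, Nat.cast_one]
        · refine ⟨2, ?_⟩
          ext
          · rw [hsa, (hzpow 2).1]
          · rw [hsbc, eq_neg_of_add_eq_zero_left h5, (hzpow 2).2]
            push_cast
            linear_combination -z.b * h3K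
      refine ⟨emb σ t, ⟨t, rfl⟩, k, ?_⟩
      rw [h1, hs', hk, map_mul, map_mul, map_inv, map_pow]
  · intro b hb
    obtain ⟨u, hu, a, rfl⟩ := borel_eq b hb
    have h1 := ha0 a
    rw [← mem_powers_iff_mem_zpowers] at h1
    obtain ⟨k, rfl⟩ := h1
    exact ⟨u, hu, k, by rw [map_pow]⟩
  · rw [wel_tor, ← map_pow]
    congr 2
    apply Units.ext
    rw [Units.val_pow_eq_pow_val]
    exact hs _

end Group

/-- From the fixed line to the adapted pair. -/
theorem exists_ad' {G : Type*} [Group G] {A : Type*} [Field A] {U : Subgroup G} {h z x y : G}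
    [IsAlgClosed A] (h3 : (3 : A) ≠ 0) (H : HData U h z x y) (ρ : G →* Matrix (Fin 7) (Fin 7) A)
    (hz : ρ z ≠ 1) : ∃ (v φ : Fin 7 → A) (l : A), Ad U h ρ v φ l ∧
      ∀ w, (1 + ρ z + ρ (z * z)) *ᵥ w = (3 * (φ ⬝ᵥ w)) • v := by
  classical
  let ρE : G →* Module.End A (Fin 7 → A) := (Matrix.toLinAlgEquiv' (R := A) (n := Fin 7)).toMonoidHom.comp ρ
  have hρE : ∀ g (w : Fin 7 → A), ρE g w = ρ g *ᵥ w := fun _ _ => rfl
  obtain ⟨v, hv0, hzv, hline, hUv, l, hl⟩ := exists_line h3 H ρE (by simp) (by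
    intro h0
    apply hz
    apply (Matrix.toLinAlgEquiv' (R := A) (n := Fin 7)).injective
    rw [map_one]
    exact h0)
  obtain ⟨i, hi⟩ : ∃ i, v i ≠ 0 := by
    by_contra hcon
    push Not at hcon
    exact hv0 (funext hcon)
  -- the projection
  set e : Matrix (Fin 7) (Fin 7) A := (3 : A)⁻¹ • (1 + ρ z + ρ (z * z)) with he
  have hcomm : ∀ g : G, (z * g = g * z ∨ z * g = g * z⁻¹) → e * ρ g = ρ g * e := by
    intro g hg
    have hzz : z⁻¹ = z * z := by
      rw [inv_eq_iff_mul_eq_one, ← pow_two, ← pow_succ']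
      exact H.z3
    rw [he, smul_mul_assoc, mul_smul_comm]
    congr 1
    rw [add_mul, add_mul, mul_add, mul_add, one_mul, mul_one, ← map_mul, ← map_mul, ← map_mul, ← map_mul]
    rcases hg with hg | hg
    · rw [hg]
      congr 2
      rw [mul_assoc, hg, ← mul_assoc, hg, mul_assoc]
    · have h4 : z * z * g = g * z := by
        rw [mul_assoc, hg, ← mul_assoc, hg, mul_assoc, ← _root_.mul_inv_rev, ← hzz, inv_inv]
      rw [hg, h4, hzz]
      abel
  have hez : ρ z * e = e := by
    rw [he, mul_smul_comm]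
    congr 1
    have h4 : ρ (z * (z * z)) = 1 := by
      rw [← pow_two, ← pow_succ', H.z3, map_one]
    rw [mul_add, mul_add, mul_one, ← map_mul, ← map_mul, h4]
    abel
  have hev : e *ᵥ v = v := by
    have h4 : ρ z *ᵥ v = v := hzv
    rw [he, Matrix.smul_mulVec, Matrix.add_mulVec, Matrix.add_mulVec, Matrix.one_mulVec, rho_mulVec, h4, h4]
    have : v + v + v = (3 : A) • v := by
      rw [show (3 : A) = 1 + 1 + 1 by norm_num, add_smul, add_smul, one_smul]
    rw [this, smul_smul, inv_mul_cancel₀ h3, one_smul]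
  let φ : Fin 7 → A := fun j => (v i)⁻¹ * e i j
  have hφ : ∀ w : Fin 7 → A, φ ⬝ᵥ w = (v i)⁻¹ * (e *ᵥ w) i := by
    intro w
    simp only [φ, dotProduct, Matrix.mulVec, Finset.mul_sum, mul_assoc]
  have hew : ∀ w : Fin 7 → A, e *ᵥ w = (φ ⬝ᵥ w) • v := by
    intro w
    obtain ⟨c, hc⟩ := hline (e *ᵥ w) (by
      rw [hρE, Matrix.mulVec_mulVec, hez])
    rw [hφ, hc]
    congr 1
    rw [Pi.smul_apply, smul_eq_mul, mul_comm, mul_assoc, mul_inv_cancel₀ hi, mul_one]
  have hinj : ∀ a b : A, a • v = b • v → a = b := by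
    intro a b hab
    have : (a - b) • v = 0 := by rw [sub_smul, hab, sub_self]
    exact sub_eq_zero.1 ((smul_eq_zero.1 this).resolve_right hv0)
  have hzh : z * h = h * z⁻¹ := by
    have := H.hz
    have e : z * (h * z) * z⁻¹ = z * (z⁻¹ * h) * z⁻¹ := by rw [this]
    simpa [mul_assoc] using e
  refine ⟨v, φ, l, ⟨?_, hUv, hl, ?_, ?_⟩, ?_⟩
  · rw [hφ, hev, inv_mul_cancel₀ hi]
  · intro u hu w
    apply hinj
    rw [← hew, Matrix.mulVec_mulVec, hcomm u (Or.inl (H.cent u hu)), ← Matrix.mulVec_mulVec, hew, Matrix.mulVec_smul]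
    have : ρ u *ᵥ v = v := hUv u hu
    rw [this]
  · intro w
    apply hinj
    rw [← hew, Matrix.mulVec_mulVec, hcomm h (Or.inr hzh), ← Matrix.mulVec_mulVec, hew, Matrix.mulVec_smul]
    have : ρ h *ᵥ v = l • v := hl
    rw [this, smul_smul, mul_comm]
  · intro w
    rw [mul_smul, ← hew, he, Matrix.smul_mulVec, smul_smul, mul_inv_cancel₀ h3, one_smul]

end Cfsg.Agent.H856.U33
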