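import Cfsg.Agent.H856.U33d
import Cfsg.Agent.H856.Tri

/-!
# The invariant alternating 3-form of `SU₃(3)` in dimension 7 (helper856)
-/

set_option autoImplicit false

namespace Cfsg.Agent.H856.U33

open Cfsg.Agent.UThreeGen.MatGroup Cfsg.Agent.H906 Cfsg.Agent.H659.BorelCoef Cfsg.Agent.H659.HeisLine
open Cfsg.Agent.H856.Tri Cfsg.Agent.H179.G2
open scoped MatrixGroups Matrix

variable {A : Type*} [Field A]

section form

variable {ρ : SUG s9 →* Matrix (Fin 7) (Fin 7) A} {v φ : Fin 7 → A}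

/-- the functionals -/
def fn (ρ : SUG s9 →* Matrix (Fin 7) (Fin 7) A) (φ : Fin 7 → A) (g : SUG s9) : (Fin 7 → A) →ₗ[A] A where
  toFun w := φ ⬝ᵥ (ρ g⁻¹ *ᵥ w)
  map_add' x y := by rw [Matrix.mulVec_add, dotProduct_add]
  map_smul' c x := by rw [Matrix.mulVec_smul, dotProduct_smul]; rfl

theorem fn_apply (g : SUG s9) (w : Fin 7 → A) : fn ρ φ g w = φ ⬝ᵥ (ρ g⁻¹ *ᵥ w) := rfl

/-- the 3-form -/
noncomputable def fU (ρ : SUG s9 →* Matrix (Fin 7) (Fin 7) A) (φ : Fin 7 → A) :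
    (Fin 7 → A) →ₗ[A] (Fin 7 → A) →ₗ[A] (Fin 7 → A) →ₗ[A] A :=
  ofTable (fun g₁ g₂ g₃ => ((T3 g₁ g₂ g₃ : ℤ) : A)) (fn ρ φ)

theorem fU_isAlt (h2 : (2 : A) ≠ 0) : IsAltForm (fU ρ φ) :=
  ofTable_isAlt h2 _ (fun a b c => by rw [T3_12, Int.cast_neg]) (fun a b c => by rw [T3_23, Int.cast_neg])

theorem fU_inv (k : SUG s9) (x y z : Fin 7 → A) : fU ρ φ (ρ k *ᵥ x) (ρ k *ᵥ y) (ρ k *ᵥ z) = fU ρ φ x y z := by
  refine ofTable_inv (g := Matrix.toLin' (ρ k)) (Equiv.mulLeft k⁻¹) (fun _ => 1) (fun g w => ?_)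
    (fun a b c => ?_) x y z
  · rw [one_mul]
    show φ ⬝ᵥ (ρ g⁻¹ *ᵥ (ρ k *ᵥ w)) = φ ⬝ᵥ (ρ (k⁻¹ * g)⁻¹ *ᵥ w)
    rw [← rho_mulVec]
    congr 3
    group
  · rw [one_mul, one_mul, one_mul]
    show _ = ((T3 (k⁻¹ * a) (k⁻¹ * b) (k⁻¹ * c) : ℤ) : A)
    rw [T3_left]

theorem fU_eval {c : A} (hΦ : Co (fun g => φ ⬝ᵥ (ρ g *ᵥ v)) c) (h₁ h₂ h₃ : SUG s9) :
    fU ρ φ (ρ h₁ *ᵥ v) (ρ h₂ *ᵥ v) (ρ h₃ *ᵥ v) = 864 ^ 3 * ((T3 h₁ h₂ h₃ : ℤ) : A) := by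
  have hf : ∀ g h : SUG s9, fn ρ φ g (ρ h *ᵥ v) = φ ⬝ᵥ (ρ (g⁻¹ * h) *ᵥ v) := by
    intro g h
    rw [fn_apply, ← rho_mulVec]
  have h1 : fU ρ φ (ρ h₁ *ᵥ v) (ρ h₂ *ᵥ v) (ρ h₃ *ᵥ v) = ∑ a, ∑ b, ∑ c', ((T3 a b c' : ℤ) : A) *
      (φ ⬝ᵥ (ρ (a⁻¹ * h₁) *ᵥ v) * φ ⬝ᵥ (ρ (b⁻¹ * h₂) *ᵥ v) * φ ⬝ᵥ (ρ (c'⁻¹ * h₃) *ᵥ v)) := by
    rw [fU, ofTable_apply]
    simp only [hf]
  rw [h1]
  have hc3 : ∀ a b h : SUG s9, ∑ g, ((T3 a b g : ℤ) : A) * φ ⬝ᵥ (ρ (g⁻¹ * h) *ᵥ v) =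
    864 * ((T3 a b h : ℤ) : A) := fun a b h => hΦ.contr a b h
  have e1 : ∀ a b : SUG s9, ∑ c', ((T3 a b c' : ℤ) : A) *
      (φ ⬝ᵥ (ρ (a⁻¹ * h₁) *ᵥ v) * φ ⬝ᵥ (ρ (b⁻¹ * h₂) *ᵥ v) * φ ⬝ᵥ (ρ (c'⁻¹ * h₃) *ᵥ v)) =
      -(864 * (φ ⬝ᵥ (ρ (a⁻¹ * h₁) *ᵥ v)) * (((T3 a h₃ b : ℤ) : A) * φ ⬝ᵥ (ρ (b⁻¹ * h₂) *ᵥ v))) := by
    intro a b
    have e2 := hc3 a b h₃
    calc _ = (φ ⬝ᵥ (ρ (a⁻¹ * h₁) *ᵥ v)) * (φ ⬝ᵥ (ρ (b⁻¹ * h₂) *ᵥ v)) *
        ∑ g, ((T3 a b g : ℤ) : A) * φ ⬝ᵥ (ρ (g⁻¹ * h₃) *ᵥ v) := by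
          rw [Finset.mul_sum]
          exact Finset.sum_congr rfl fun g _ => by ring
      _ = _ := by
          rw [e2, T3_23 a b h₃]
          push_cast
          ring
  simp only [e1]
  have e3 : ∀ a : SUG s9, ∑ b, -(864 * (φ ⬝ᵥ (ρ (a⁻¹ * h₁) *ᵥ v)) *
      (((T3 a h₃ b : ℤ) : A) * φ ⬝ᵥ (ρ (b⁻¹ * h₂) *ᵥ v))) =
      864 ^ 2 * (((T3 h₂ h₃ a : ℤ) : A) * (φ ⬝ᵥ (ρ (a⁻¹ * h₁) *ᵥ v))) := by
    intro a
    rw [Finset.sum_neg_distrib, ← Finset.mul_sum, hc3, T3_23 a h₂ h₃, T3_12 h₂ a h₃, T3_23 h₂ h₃ a]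
    push_cast
    ring
  simp only [e3]
  have hcyc : T3 h₂ h₃ h₁ = T3 h₁ h₂ h₃ := by rw [T3_23 h₂ h₁ h₃, T3_12 h₁ h₂ h₃, neg_neg]
  rw [← Finset.mul_sum, hc3, hcyc]
  ring

end form

section main

variable [IsAlgClosed A] (h2 : (2 : A) ≠ 0) (h3 : (3 : A) ≠ 0) {ρ : SUG s9 →* Matrix (Fin 7) (Fin 7) A}
  (hspan : Submodule.span A (Set.range ρ) = ⊤) (hnt : ∀ z : HG s9, z ≠ 1 → ρ (emb s9 z) ≠ 1)
  {M : Matrix (Fin 7) (Fin 7) A} (hM : ∀ g, (ρ g)ᵀ * M * ρ g = M) (hM0 : ∀ v, M *ᵥ v = 0 → v = 0)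

theorem ch_im : ∀ b : K9, b + s9 b = 0 → b ≠ 0 → ch b = 1 := by
  apply forall9; decide +kernel

include h2 h3 hspan hnt hM hM0

/-- **the invariant alternating 3-form** -/
theorem exists_form : ∃ f : (Fin 7 → A) →ₗ[A] (Fin 7 → A) →ₗ[A] (Fin 7 → A) →ₗ[A] A,
    IsAltForm f ∧ f ≠ 0 ∧ ∀ g x y z, f (ρ g *ᵥ x) (ρ g *ᵥ y) (ρ g *ᵥ z) = f x y z := by
  have hcK : Nat.card K9 = 3 ^ 2 := by rw [Nat.card_eq_fintype_card, card9]; norm_num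
  obtain ⟨a0, z, x, y, hgen, hza, hz1, H, hB, hn⟩ := exists_hdata (σ := s9) s9_pow hcK
  obtain ⟨v, φ, l, had, hew⟩ := exists_ad' h3 H ρ (hnt z hz1)
  have hcard : Nat.card (emb s9).range = 27 := by
    rw [← Nat.card_congr (MonoidHom.ofInjective (emb_injective (σ := s9))).toEquiv, Nat.card_eq_fintype_card,
      card_hg]
  have hfin : Finite (emb s9).range := Nat.finite_of_card_ne_zero (by rw [hcard]; norm_num)
  have hl1 : l ≠ 1 := ne_one data_SUG hB hspan had (by rw [hcard]; simp) (by simp)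
  -- the bilinear form
  set β : (Fin 7 → A) → (Fin 7 → A) → A := fun a b => a ⬝ᵥ (M *ᵥ b) with hβ
  have hinv : ∀ g a b, β (ρ g *ᵥ a) (ρ g *ᵥ b) = β a b := by
    intro g a b
    show (ρ g *ᵥ a) ⬝ᵥ (M *ᵥ (ρ g *ᵥ b)) = a ⬝ᵥ (M *ᵥ b)
    have h4 : a ⬝ᵥ (((ρ g)ᵀ * M * ρ g) *ᵥ b) = (ρ g *ᵥ a) ⬝ᵥ (M *ᵥ (ρ g *ᵥ b)) := by
      rw [← Matrix.mulVec_mulVec, ← Matrix.mulVec_mulVec, Matrix.dotProduct_mulVec, Matrix.vecMul_transpose]
    rw [← h4, hM g]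
  have hzU : ∀ w, β (ρ (emb s9 z) *ᵥ w) v = β w v := by
    intro w
    have := hinv (emb s9 z) w v
    rwa [had.uv _ ⟨z, rfl⟩] at this
  have hzzU : ∀ w, β (ρ (emb s9 z * emb s9 z) *ᵥ w) v = β w v := by
    intro w
    rw [rho_mulVec, hzU, hzU]
  have hβv : ∀ w, β w v = (φ ⬝ᵥ w) * β v v := by
    intro w
    have h4 := congrArg (fun t => β t v) (hew w)
    have h5 : β ((1 + ρ (emb s9 z) + ρ (emb s9 z * emb s9 z)) *ᵥ w) v = 3 * β w v := by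
      have h6 : β ((1 + ρ (emb s9 z) + ρ (emb s9 z * emb s9 z)) *ᵥ w) v =
          β w v + β (ρ (emb s9 z) *ᵥ w) v + β (ρ (emb s9 z * emb s9 z) *ᵥ w) v := by
        show ((1 + ρ (emb s9 z) + ρ (emb s9 z * emb s9 z)) *ᵥ w) ⬝ᵥ _ = _
        rw [Matrix.add_mulVec, Matrix.add_mulVec, Matrix.one_mulVec, add_dotProduct, add_dotProduct]
      rw [h6, hzU, hzzU]
      ring
    have h7 : β ((3 * (φ ⬝ᵥ w)) • v) v = 3 * ((φ ⬝ᵥ w) * β v v) := by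
      show ((3 * (φ ⬝ᵥ w)) • v) ⬝ᵥ _ = _
      rw [smul_dotProduct, smul_eq_mul, mul_assoc]
    change β ((1 + ρ (emb s9 z) + ρ (emb s9 z * emb s9 z)) *ᵥ w) v = β ((3 * (φ ⬝ᵥ w)) • v) v at h4
    rw [h5, h7] at h4
    exact mul_left_cancel₀ h3 h4
  have hvv : β v v ≠ 0 := by
    intro h0
    apply had.v_ne_zero
    apply hM0
    funext i
    have := hβv (Pi.single i 1)
    rw [h0, mul_zero] at this
    change (Pi.single i 1) ⬝ᵥ (M *ᵥ v) = 0 at this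
    rwa [single_one_dotProduct] at this
  have hl2 : l ^ 2 = 1 := by
    have h4 := hinv (tor s9 a0) v v
    rw [had.hv] at h4
    have h5 : β (l • v) (l • v) = l ^ 2 * β v v := by
      show (l • v) ⬝ᵥ (M *ᵥ (l • v)) = _
      rw [Matrix.mulVec_smul, smul_dotProduct, dotProduct_smul, smul_eq_mul, smul_eq_mul]
      ring
    rw [h5] at h4
    exact mul_right_cancel₀ hvv (by rw [one_mul]; exact h4)
  have hl : l = -1 := by
    have h4 : (l - 1) * (l + 1) = 0 := by linear_combination hl2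
    rcases mul_eq_zero.1 h4 with h5 | h5
    · exact absurd (sub_eq_zero.1 h5) hl1
    · exact eq_neg_of_add_eq_zero_left h5
  -- the torus
  have hcha : ∀ k : ℕ, ch ((a0 ^ k : K9ˣ) : K9) = (ch (a0 : K9)) ^ k := by
    intro k
    induction k with
    | zero =>
      rw [pow_zero, pow_zero]
      decide +kernel
    | succ k ih => rw [pow_succ, Units.val_mul, ch_mul, ih, pow_succ]
  have hch0 : ch (a0 : K9) = -1 := by
    have h4 : (⟨1, 1⟩ : K9) ≠ 0 := by decide +kernel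
    obtain ⟨k, hk⟩ := hgen (Units.mk0 ⟨1, 1⟩ h4)
    have h5 : ch (⟨1, 1⟩ : K9) = -1 := by decide +kernel
    have h6 := hcha k
    rw [hk, Units.val_mk0, h5] at h6
    have h7 : ch (a0 : K9) = 1 ∨ ch (a0 : K9) = -1 := by
      have := ch_sq (a0 : K9) a0.ne_zero
      exact mul_self_eq_one_iff.1 this
    rcases h7 with h7 | h7
    · rw [h7, one_pow] at h6
      norm_num at h6
    · exact h7
  have hlk : ∀ k : ℕ, l ^ k = ((ch ((a0 ^ k : K9ˣ) : K9) : ℤ) : A) := by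
    intro k
    rw [hcha, hch0, hl]
    push_cast
    rfl
  have htv : ∀ a : K9ˣ, ρ (tor s9 a) *ᵥ v = ((ch (a : K9) : ℤ) : A) • v := by
    intro a
    obtain ⟨k, rfl⟩ := hgen a
    rw [map_pow (tor s9), had.pow_v, hlk]
  have hbv : ∀ b ∈ borel s9, ρ b *ᵥ v = ((ch (b.1.1 0 0) : ℤ) : A) • v := by
    intro b hb
    obtain ⟨_, ⟨u, rfl⟩, a, rfl⟩ := borel_eq b hb
    rw [emb_tor_00, rho_mulVec, htv, Matrix.mulVec_smul, had.uv _ ⟨u, rfl⟩]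
  set c := φ ⬝ᵥ (ρ (wel s9) *ᵥ v) with hc
  have hmem : ∀ g ∈ borel s9, φ ⬝ᵥ (ρ g *ᵥ v) = ((ch (g.1.1 0 0) : ℤ) : A) := by
    intro g hg
    rw [hbv g hg, dotProduct_smul, had.one, smul_eq_mul, mul_one]
  have hnm : ∀ g ∉ borel s9, φ ⬝ᵥ (ρ g *ᵥ v) = c * ((ch (g.1.1 2 0) : ℤ) : A) := by
    intro g hg
    obtain ⟨_, ⟨u, rfl⟩, hb⟩ := (data_SUG (σ := s9)).bruhat g hg
    set b := (emb s9 u * wel s9)⁻¹ * g with hbdef
    have hgb : g = emb s9 u * wel s9 * b := by rw [hbdef]; group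
    have h4 : g.1.1 2 0 = -(b.1.1 0 0) := by
      have h5 := congrFun (col_borel hb (emb s9 u * wel s9)) 2
      rw [← hgb, col_emb_wel] at h5
      change g.1.1 2 0 = b.1.1 0 0 * (-1) at h5
      rw [h5]; ring
    rw [h4, ch_neg, hgb, rho_mulVec, rho_mulVec, hbv b hb, Matrix.mulVec_smul, Matrix.mulVec_smul, dotProduct_smul,
      had.uφ _ ⟨u, rfl⟩, smul_eq_mul, mul_comm]
  have hwxw : ∀ u : HG s9, φ ⬝ᵥ (ρ (wel s9) *ᵥ (ρ (emb s9 u) *ᵥ (ρ (wel s9) *ᵥ v))) =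
      (if u = 1 then 1 else 0) + c * ((ch u.b : ℤ) : A) := by
    intro u
    rw [← rho_mulVec, ← rho_mulVec]
    by_cases hu : u = 1
    · rw [if_pos hu, hu, map_one, mul_one, wel_mul_wel, map_one, Matrix.one_mulVec, had.one]
      have h4 : ch (1 : HG s9).b = 0 := by rw [one_b]; decide +kernel
      rw [h4, Int.cast_zero, mul_zero, add_zero]
    · rw [if_neg hu, zero_add, hnm]
      · have h1 : (wel s9 * emb s9 u * wel s9).1.1 2 0 = u.b := by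
          rw [coe_mul_SUG, coe_mul_SUG, wel_val, emb_val]
          simp [umat, Wm, Matrix.mul_apply, Fin.sum_univ_three]
        rw [h1]
      · intro h
        apply hu
        have h5 : (wel s9)⁻¹ * emb s9 u * wel s9 ∈ borel s9 := by rwa [wel_inv]
        exact emb_injective (((data_SUG (σ := s9)).inter _ ⟨_, rfl⟩ h5).trans (map_one _).symm)
  -- the two relations
  have rel1 : 1 + 2 * c = 3 * c ^ 2 := by
    have h4 := congrArg (fun t => φ ⬝ᵥ (ρ (wel s9) *ᵥ t)) (hew (ρ (wel s9) *ᵥ v))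
    simp only [Matrix.add_mulVec, Matrix.one_mulVec, Matrix.mulVec_add, Matrix.mulVec_smul, dotProduct_add,
      dotProduct_smul, smul_eq_mul] at h4
    rw [← map_mul (emb s9), hwxw, hwxw] at h4
    have h5 : φ ⬝ᵥ (ρ (wel s9) *ᵥ (ρ (wel s9) *ᵥ v)) = 1 := by
      rw [← rho_mulVec, wel_mul_wel, map_one, Matrix.one_mulVec, had.one]
    have hzb : z.b + s9 z.b = 0 := by rw [z.h, hza, zero_mul]
    have hzz : z * z ≠ 1 := by
      intro h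
      apply hz1
      have h6 : (z * z).b = 0 := by rw [h]; rfl
      rw [mul_b, hza, zero_mul, add_zero] at h6
      have h7 : ∀ b : K9, b + b = 0 → b = 0 := by apply forall9; decide +kernel
      exact HG.ext hza (h7 _ h6)
    have hzzb : (z * z).b + s9 (z * z).b = 0 := by rw [(z * z).h, mul_a, hza, add_zero, zero_mul]
    rw [h5, if_neg hz1, if_neg hzz, ch_im _ hzb (b_ne_zero hz1), ch_im _ hzzb (b_ne_zero hzz), ← hc] at h4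
    push_cast at h4
    linear_combination h4
  have rel2 : 1 - 6 * c = 27 * c ^ 2 := by
    set W := ∑ u : HG s9, ρ (emb s9 u) *ᵥ (ρ (wel s9) *ᵥ v) with hW
    have hφW : φ ⬝ᵥ W = 27 * c := by
      rw [hW, dotProduct_sum]
      have h4 : ∀ u : HG s9, φ ⬝ᵥ (ρ (emb s9 u) *ᵥ (ρ (wel s9) *ᵥ v)) = c := fun u => had.uφ _ ⟨u, rfl⟩ _
      simp only [h4, Finset.sum_const, Finset.card_univ, card_hg, nsmul_eq_mul]
      norm_num
    have hzW : ∀ t : HG s9, ρ (emb s9 t) *ᵥ W = W := by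
      intro t
      rw [hW, Matrix.mulVec_sum]
      conv_rhs => rw [← Equiv.sum_comp (Equiv.mulLeft t)]
      refine Finset.sum_congr rfl fun u _ => ?_
      rw [← rho_mulVec, ← map_mul]
      rfl
    have h4 := hew W
    rw [Matrix.add_mulVec, Matrix.add_mulVec, Matrix.one_mulVec, ← map_mul (emb s9), hzW, hzW, hφW] at h4
    have h5 : W = (27 * c) • v := by
      have h6 : (3 : A) • W = (3 : A) • ((27 * c) • v) := by
        rw [smul_smul, ← h4, show (3 : A) = 1 + 1 + 1 by norm_num, add_smul, add_smul, one_smul]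
      have h7 := congrArg (fun t => (3 : A)⁻¹ • t) h6
      simpa only [smul_smul, inv_mul_cancel₀ h3, one_smul, ← mul_assoc, one_mul] using h7
    have h6 := congrArg (fun t => φ ⬝ᵥ (ρ (wel s9) *ᵥ t)) h5
    simp only [Matrix.mulVec_smul, dotProduct_smul, smul_eq_mul] at h6
    rw [hW, Matrix.mulVec_sum, dotProduct_sum, Finset.sum_congr rfl fun u _ => hwxw u, Finset.sum_add_distrib,
      Finset.sum_ite_eq' Finset.univ (1 : HG s9), if_pos (Finset.mem_univ _), ← Finset.mul_sum, ← Int.cast_sum,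
      sum_ch, ← hc] at h6
    push_cast at h6
    linear_combination h6
  have hc3 : 3 * c = -1 := by
    have h4 : (3 * c + 1) * (c - 1) = 0 := by linear_combination -rel1
    rcases mul_eq_zero.1 h4 with h5 | h5
    · linear_combination h5
    · exfalso
      rw [sub_eq_zero.1 h5] at rel2
      apply pow_ne_zero 5 h2
      linear_combination -rel2
  have hΦ : Co (fun g => φ ⬝ᵥ (ρ g *ᵥ v)) c := ⟨hc3, hmem, hnm⟩
  refine ⟨fU ρ φ, fU_isAlt h2, ?_, fun g => fU_inv g⟩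
  intro hf
  have hx0 : (⟨0, 1⟩ : K9) + s9 ⟨0, 1⟩ = 0 * s9 0 := by decide +kernel
  have h4 := fU_eval hΦ 1 (wel s9) (emb s9 (⟨0, ⟨0, 1⟩, hx0⟩ : HG s9) * wel s9)
  rw [hf, T3_emb] at h4
  have h5 : T0 (⟨0, ⟨0, 1⟩, hx0⟩ : HG s9).a (⟨0, ⟨0, 1⟩, hx0⟩ : HG s9).b = -2 := by
    show T0 0 ⟨0, 1⟩ = -2
    decide +kernel
  rw [h5] at h4
  have h6 : (864 : A) = 2 ^ 5 * 3 ^ 3 := by norm_num
  have h7 : (864 : A) ^ 3 * ((-2 : ℤ) : A) ≠ 0 := by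
    refine mul_ne_zero (pow_ne_zero _ ?_) ?_
    · rw [h6]
      exact mul_ne_zero (pow_ne_zero _ h2) (pow_ne_zero _ h3)
    · push_cast
      exact neg_ne_zero.2 h2
  exact h7 h4.symm

end main

end Cfsg.Agent.H856.U33
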