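import Cfsg.Agent.H856.U3Five

/-!
# `L₂(7) < 3.A₇ < SU₃(5)`: the overgroup as stabiliser of 105 lines
-/

set_option autoImplicit false
set_option linter.unusedSectionVars false
set_option maxRecDepth 100000

namespace Cfsg.Agent.H856.U3

open Cfsg Cfsg.Geo Matrix
open Cfsg.Agent.H907 Cfsg.Agent.H907.Mdl Cfsg.Agent.H907.Mdl.SU35 Cfsg.Agent.H918 Cfsg.Agent.LieClassical.HermBasic
open scoped MatrixGroups

variable {F : Type*} [Field F]

/-! ### models -/

def nD : M := (((1,0),(0,0),(0,0)), ((0,0),(1,0),(0,0)), ((0,0),(0,0),(0,1)))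
def nDi : M := (((1,0),(0,0),(0,0)), ((0,0),(1,0),(0,0)), ((0,0),(0,0),(4,4)))
def nV2 : M := (((4,0),(0,0),(0,0)), ((0,0),(1,0),(0,0)), ((0,0),(0,0),(4,0)))
def nC : M := (((0,0),(0,0),(1,0)), ((1,0),(0,0),(0,0)), ((0,0),(1,0),(0,0)))
def nT : M := (((4,0),(0,0),(0,0)), ((0,0),(0,0),(4,0)), ((0,0),(4,0),(0,0)))
def nX : M := (((0,0),(4,1),(4,1)), ((3,4),(3,0),(2,0)), ((2,1),(3,0),(2,0)))
def cj (m : M) : M := mm c5 (mm c5 nD m) nDi
def nY : M := mm c5 (cj nC) (cj nX)
def nG : M := (((4,0),(0,1),(3,3)), ((3,0),(0,1),(4,4)), ((4,0),(0,2),(4,4)))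

theorem chk_V2 : chk c5 S105 (cj nV2) = true := by decide +kernel
theorem chk_C : chk c5 S105 (cj nC) = true := by decide +kernel
theorem chk_T : chk c5 S105 (cj nT) = true := by decide +kernel
theorem chk_X : chk c5 S105 (cj nX) = true := by decide +kernel
theorem chk_G : chk c5 S105 nG = true := by decide +kernel
theorem isSU_G : isSU c5 nG = true := by decide +kernel
theorem pow_G : meq (mpow c5 nG 5) I3 = true := by decide +kernel
theorem ne_G : mne c5 nG I3 = true := by decide +kernel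
theorem tr3 : kne c5 (mtrace c5 (mpow c5 nY 3)) (mtrace c5 nY) = true := by decide +kernel
theorem tr5 : kne c5 (mtrace c5 (mpow c5 nY 5)) (mtrace c5 nY) = true := by decide +kernel
theorem tr6 : kne c5 (mtrace c5 (mpow c5 nY 6)) (mtrace c5 nY) = true := by decide +kernel

section sem

variable {α θ : F} (h5 : (5 : F) = 0) (hα : α ≠ 0) (hr : 2 * α ^ 2 + α + 1 = 0) (hθ : θ = 3 - α)
include h5

theorem toM_V2 : toM θ nV2 = D2 := by
  ext i j
  fin_cases i <;> fin_cases j <;> simp [toM, toV, nV2, D2, ev] <;> linear_combination h5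

theorem toM_C : toM θ nC = C0 := by
  ext i j
  fin_cases i <;> fin_cases j <;> simp [toM, toV, nC, C0, ev]

theorem toM_T : toM θ nT = T0 := by
  ext i j
  fin_cases i <;> fin_cases j <;> simp [toM, toV, nT, T0, ev] <;> linear_combination h5

include hα hr hθ in
theorem toM_X : toM θ nX = X0 α := by
  have h2 : (2 : F)⁻¹ = 3 := by
    have h20 : (2 : F) ≠ 0 := by
      intro h
      have : (1 : F) = 0 := by linear_combination h5 - 2 * h
      exact one_ne_zero this
    field_simp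
    linear_combination -h5
  have hi : (2 * α)⁻¹ = 4 + θ := by
    have h20 : (2 : F) ≠ 0 := by
      intro h
      have : (1 : F) = 0 := by linear_combination h5 - 2 * h
      exact one_ne_zero this
    rw [inv_eq_iff_eq_inv]
    rw [eq_comm, inv_eq_iff_eq_inv, eq_comm]
    apply inv_eq_of_mul_eq_one_right
    rw [hθ]
    linear_combination -hr + 3 * α * h5
  ext i j
  fin_cases i <;> fin_cases j <;> simp [toM, toV, nX, X0, ev, h2, hi] <;>
    first
      | linear_combination h5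
      | linear_combination 4 * hθ + (3 - α) * h5
      | linear_combination hθ + h5

end sem

theorem chk_S : chk c5 S105 (msmul c5 (0, 1) I3) = true := by decide +kernel
theorem isSU_mg : isSU c5 mg = true := by decide +kernel
theorem chk_mg : chkNot c5 S105 (mv c5 mg v₀) = true := by decide +kernel
theorem mem_v₀ : v₀ ∈ S105 := by decide +kernel

theorem comm_of {G : Type*} [Group G] {u h y w : G} (hu : u * y = w * u) (hh : h * y = w * h) :
    u⁻¹ * h * y = y * (u⁻¹ * h) := by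
  have h1 : u⁻¹ * w = y * u⁻¹ := by rw [inv_mul_eq_iff_eq_mul, ← mul_assoc, hu, mul_inv_cancel_right]
  rw [mul_assoc, hh, ← mul_assoc, h1, mul_assoc]

theorem mem_of_generators {ρ : L →* GL (Fin 3) F} [IsSimpleGroup L] (S : Subgroup (GL (Fin 3) F))
    (h1 : ρ V2 ∈ S) (hC : ρ C ∈ S) (hT : ρ T ∈ S) (hX : ρ X ∈ S) (g : L) : ρ g ∈ S := by
  have := eq_top (S.comap ρ) h1 hC hT hX
  have h : g ∈ S.comap ρ := by rw [this]; trivial
  exact h

/-- **Main exclusion.** A subgroup of `SU₃(5)` with a normal subgroup `L₃(2)` is not maximal. -/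
theorem not_maximal [Fintype F] [IsSimpleGroup L] (hF : Fintype.card F = 5 ^ 2) {H P : Subgroup (GL (Fin 3) F)}
    (hH : IsMaximalIn (SUg 3 F 5) H) (hPH : P ≤ H) (hnorm : ∀ h ∈ H, ∀ x ∈ P, h * x * h⁻¹ ∈ P)
    (ψ : L ≃* P) : False := by
  have hchar := Mdl.charP_of_card (F := F) (by norm_num) hF
  have h5 : (5 : F) = 0 := by
    have := CharP.cast_eq_zero F 5
    exact_mod_cast this
  have h20 : (2 : F) ≠ 0 := by
    intro h
    have : (1 : F) = 0 := by linear_combination h5 - 2 * h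
    exact one_ne_zero this
  have h70 : (7 : F) ≠ 0 := by
    intro h
    have : (2 : F) = 0 := by linear_combination h - h5
    exact h20 this
  let ρ : L →* GL (Fin 3) F := P.subtype.comp ψ.toMonoidHom
  have hρ : ∀ g, ρ g ∈ P := fun g => (ψ g).2
  have hinj : Function.Injective ρ := P.subtype_injective.comp ψ.injective
  have hρS : ∀ g, ρ g ∈ SUg 3 F 5 := fun g => hH.1.le (hPH (hρ g))
  have hdet : ∀ g, (ρ g : Matrix (Fin 3) (Fin 3) F).det = 1 := fun g => (mem_SUg.1 (hρS g)).2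
  obtain ⟨M, hM, hfr⟩ := exists_unitary_frame hF h20 (relA hinj) (hρS _).1 (hρS _).1 (hρS _).1
  obtain ⟨α, hnf⟩ := exists_NF h20 hdet hfr
  obtain ⟨θ, hθ⟩ : ∃ θ, θ = 3 - α := ⟨_, rfl⟩
  have hroot : θ ^ 2 + θ + 1 = 0 := by
    rw [hθ]
    linear_combination 3 * hnf.root + (2 - 2 * α - α ^ 2) * h5
  have hg := good_of_root hF hroot
  -- the diagonal matrix
  have hDD : toM θ nD * toM θ nDi = 1 := by
    rw [← toM_mm hg, toM_congr (show meq (mm c5 nD nDi) I3 = true by decide +kernel), toM_I3 hg]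
  have hDD' : toM θ nDi * toM θ nD = 1 := by
    rw [← toM_mm hg, toM_congr (show meq (mm c5 nDi nD) I3 = true by decide +kernel), toM_I3 hg]
  obtain ⟨D, hD⟩ : ∃ D : GL (Fin 3) F, D = ⟨toM θ nD, toM θ nDi, hDD, hDD'⟩ := ⟨_, rfl⟩
  have hDv : (D : Matrix (Fin 3) (Fin 3) F) = toM θ nD := by rw [hD]
  have hDi : ((D⁻¹ : GL (Fin 3) F) : Matrix (Fin 3) (Fin 3) F) = toM θ nDi := by rw [hD]; rfl
  have hDU : D ∈ Cfsg.GU 3 F 5 := by
    rw [mem_GU_iff_ct hF]
    have : ct 5 (D : Matrix (Fin 3) (Fin 3) F) = toM θ (star c5 nD) := by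
      ext i j
      rw [toM_star hg, hDv]
      rfl
    rw [this, hDv, ← toM_mm hg, toM_congr (show meq (mm c5 (star c5 nD) nD) I3 = true by decide +kernel), toM_I3 hg]
  obtain ⟨N, hN⟩ : ∃ N, N = M * D⁻¹ := ⟨_, rfl⟩
  have hNU : N ∈ Cfsg.GU 3 F 5 := by rw [hN]; exact mul_mem hM (inv_mem hDU)
  let τ : L →* GL (Fin 3) F := (MulAut.conj N⁻¹).toMonoidHom.comp ρ
  have hτ : ∀ g, τ g = N⁻¹ * ρ g * N := fun g => by
    change N⁻¹ * ρ g * N⁻¹⁻¹ = _
    rw [inv_inv]
  have hτinj : Function.Injective τ := (MulAut.conj N⁻¹).injective.comp hinj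
  have hconj : ∀ g ∈ SUg 3 F 5, N⁻¹ * g * N ∈ SUg 3 F 5 := by
    intro g hg'
    have := conj_mem_SUg hF (GU_le_similarityGroup hF (inv_mem hNU)) hg'
    rwa [inv_inv] at this
  have hτS : ∀ g, τ g ∈ SUg 3 F 5 := fun g => by rw [hτ]; exact hconj _ (hρS g)
  have hval : ∀ g m, ((M⁻¹ * ρ g * M : GL (Fin 3) F) : Matrix (Fin 3) (Fin 3) F) = toM θ m →
      (τ g : Matrix (Fin 3) (Fin 3) F) = toM θ (cj m) := by
    intro g m h
    have h1 : τ g = D * (M⁻¹ * ρ g * M) * D⁻¹ := by rw [hτ, hN]; group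
    rw [h1, Units.val_mul, Units.val_mul, h, hDv, hDi, cj, toM_mm hg, toM_mm hg]
  have v2 := hval V2 nV2 (by rw [hnf.v2, toM_V2 h5])
  have vC := hval C nC (by rw [hnf.c, toM_C h5])
  have vT := hval T nT (by rw [hnf.t, toM_T h5])
  have vX := hval X nX (by rw [hnf.x, toM_X h5 hnf.ne hnf.root hθ])
  have hτL : ∀ g, τ g ∈ stab (lineSet θ S105) :=
    mem_of_generators _ (mem_stab_of_chk hg okS105 chk_V2 v2) (mem_stab_of_chk hg okS105 chk_C vC)
      (mem_stab_of_chk hg okS105 chk_T vT) (mem_stab_of_chk hg okS105 chk_X vX)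
  obtain ⟨y, hy⟩ : ∃ y, y = τ (C * X) := ⟨_, rfl⟩
  have hyv : (y : Matrix (Fin 3) (Fin 3) F) = toM θ nY := by
    rw [hy, map_mul, Units.val_mul, vC, vX, ← toM_mm hg]; rfl
  have hyo : orderOf y = 7 := by rw [hy, orderOf_injective τ hτinj, orderOf_Y]
  have hyS : y ∈ SUg 3 F 5 := by rw [hy]; exact hτS _
  have hfix : ∀ v, (y : Matrix (Fin 3) (Fin 3) F) *ᵥ v = v → v = 0 := by
    intro v hv
    have h1 : D⁻¹ * y = (M⁻¹ * ρ C * M) * (M⁻¹ * ρ X * M) * D⁻¹ := by
      rw [hy, hτ, hN, map_mul]; group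
    have h2 : (C0 * X0 α) *ᵥ (((D⁻¹ : GL (Fin 3) F) : Matrix (Fin 3) (Fin 3) F) *ᵥ v) =
        ((D⁻¹ : GL (Fin 3) F) : Matrix (Fin 3) (Fin 3) F) *ᵥ v := by
      have h3 := congrArg (fun g : GL (Fin 3) F => (g : Matrix (Fin 3) (Fin 3) F) *ᵥ v) h1
      simp only [Units.val_mul (D⁻¹) y, Units.val_mul ((M⁻¹ * ρ C * M) * (M⁻¹ * ρ X * M)) (D⁻¹),
        Units.val_mul (M⁻¹ * ρ C * M) (M⁻¹ * ρ X * M), hnf.c, hnf.x] at h3
      rw [← Matrix.mulVec_mulVec, ← Matrix.mulVec_mulVec, hv] at h3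
      exact h3.symm
    have h4 := fix_eq_zero h20 h70 hnf.ne hnf.root h2
    have h5' := congrArg (fun w => (D : Matrix (Fin 3) (Fin 3) F) *ᵥ w) h4
    simp only [Matrix.mulVec_mulVec, ← Units.val_mul, mul_inv_cancel, Units.val_one, Matrix.one_mulVec,
      Matrix.mulVec_zero] at h5'
    exact h5'
  -- the scalar
  have hθ0 : θ ≠ 0 := by rintro h; rw [h] at hroot; simp at hroot
  have hθ1 : θ ≠ 1 := by
    rintro h
    rw [h] at hroot
    have h2 : (1 : F) = 0 := by linear_combination 2 * hroot - h5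
    exact one_ne_zero h2
  have hθ3 : θ ^ 3 = 1 := by linear_combination (θ - 1) * hroot
  obtain ⟨s, hs⟩ : ∃ s : GL (Fin 3) F, (s : Matrix (Fin 3) (Fin 3) F) = θ • (1 : Matrix (Fin 3) (Fin 3) F) :=
    ⟨Units.map (Matrix.scalar (Fin 3) : F →+* Matrix (Fin 3) (Fin 3) F).toMonoidHom (Units.mk0 θ hθ0), by
      simp [Matrix.smul_one_eq_diagonal]⟩
  have hscomm : ∀ g, s * g = g * s := by
    intro g
    apply Units.ext
    rw [Units.val_mul, Units.val_mul, hs, Matrix.smul_mul, Matrix.one_mul, Matrix.mul_smul, Matrix.mul_one]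
  have hs3 : s ^ 3 = 1 := by
    apply Units.ext
    rw [Units.val_pow_eq_pow_val, hs, smul_pow, hθ3, one_pow, one_smul, Units.val_one]
  have hs1 : s ≠ 1 := by
    intro h
    have h1 := congrArg (fun g : GL (Fin 3) F => (g : Matrix (Fin 3) (Fin 3) F) 0 0) h
    simp only [hs, Matrix.smul_apply, Matrix.one_apply_eq, smul_eq_mul, mul_one, Units.val_one] at h1
    exact hθ1 h1
  have hso : orderOf s = 3 := orderOf_eq_prime (hp := ⟨by norm_num⟩) hs3 hs1
  have hsL : s ∈ stab (lineSet θ S105) := by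
    apply mem_stab_of_chk hg okS105 chk_S
    rw [hs, toM_msmul hg, toM_I3 hg]
    simp [ev]
  obtain ⟨z, hz⟩ : ∃ z, z = s * y := ⟨_, rfl⟩
  have hzo : orderOf z = 21 := by
    rw [hz, Commute.orderOf_mul_eq_mul_orderOf_of_coprime (hscomm y) (by rw [hso, hyo]; norm_num), hso, hyo]
  have hzy : z * y = y * z := by rw [hz, hscomm y, mul_assoc, hscomm y]
  have hcent : ∀ c ∈ SUg 3 F 5, c * y = y * c → c ∈ Subgroup.zpowers z := fun c hc hcy =>
    centralizer_seven hF hyS hyo hfix hzy hzo hc hcy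
  have hyL : y ∈ stab (lineSet θ S105) := by rw [hy]; exact hτL _
  have hzL : Subgroup.zpowers z ≤ stab (lineSet θ S105) := by
    rw [Subgroup.zpowers_le, hz]
    exact mul_mem hsL hyL
  have hby : τ X * y = y ^ 2 * τ X := by
    rw [hy, ← map_mul, X_Y, map_mul, map_pow]
  -- the structure of `N⁻¹ H N`
  have hA : ∀ h ∈ H, ∃ g : L, ∃ c ∈ Subgroup.zpowers z, N⁻¹ * h * N = τ g * c := by
    intro h hh
    obtain ⟨h', hh'⟩ : ∃ h', h' = N⁻¹ * h * N := ⟨_, rfl⟩
    have hh'S : h' ∈ SUg 3 F 5 := by rw [hh']; exact hconj h (hH.1.le hh)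
    have hWP : h * ρ (C * X) * h⁻¹ ∈ P := hnorm h hh _ (hρ _)
    obtain ⟨W, hW⟩ : ∃ W : L, ρ W = h * ρ (C * X) * h⁻¹ :=
      ⟨ψ.symm ⟨_, hWP⟩, by
        change ((ψ (ψ.symm ⟨_, hWP⟩) : P) : GL (Fin 3) F) = _
        rw [MulEquiv.apply_symm_apply]⟩
    have hτW : τ W = h' * y * h'⁻¹ := by
      rw [hτ, hW, hh', hy, hτ]; group
    have hWo : orderOf W = 7 := by
      rw [← orderOf_injective τ hτinj, hτW, ← hyo]
      exact ((SemiconjBy.conj_mk h' y).orderOf_eq h').symm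
    obtain ⟨t, -, ht⟩ := SU3.exists_conj_of_card (G := L) (S := ⊤) (A := Subgroup.zpowers W)
      (B := Subgroup.zpowers (C * X)) (r := 7) (k := 1) (by norm_num) le_top le_top
      (by rw [Nat.card_zpowers, hWo]; norm_num) (by rw [Nat.card_zpowers, orderOf_Y]; norm_num)
      (by rw [Subgroup.card_top, card_L]; norm_num)
    have ht1 := ht W (Subgroup.mem_zpowers W)
    classical
    have hfin : IsOfFinOrder (C * X) := isOfFinOrder_of_finite _
    rw [hfin.mem_zpowers_iff_mem_range_orderOf, Finset.mem_image] at ht1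
    obtain ⟨k, hk, hky⟩ := ht1
    rw [Finset.mem_range, orderOf_Y] at hk
    obtain ⟨u, hu⟩ : ∃ u, u = τ t * h' := ⟨_, rfl⟩
    have huS : u ∈ SUg 3 F 5 := by rw [hu]; exact mul_mem (hτS t) hh'S
    have hky' : y ^ k = u * y * u⁻¹ := by
      have h1 : τ ((C * X) ^ k) = τ (t * W * t⁻¹) := congrArg τ hky
      have e1 : τ ((C * X) ^ k) = y ^ k := by rw [map_pow, hy]
      have e2 : τ (t * W * t⁻¹) = τ t * τ W * (τ t)⁻¹ := by simp only [map_mul, map_inv]
      rw [← e1, h1, e2, hτW, hu]; group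
    have huy : u * y = y ^ k * u := by rw [hky']; group
    have htrk : Matrix.trace ((y ^ k : GL (Fin 3) F) : Matrix (Fin 3) (Fin 3) F) =
        Matrix.trace (y : Matrix (Fin 3) (Fin 3) F) := by
      rw [hky', Units.val_mul, Units.val_mul]
      exact Matrix.trace_units_conj u (y : Matrix (Fin 3) (Fin 3) F)
    have htr : ∀ k, kne c5 (mtrace c5 (mpow c5 nY k)) (mtrace c5 nY) = true →
        Matrix.trace ((y ^ k : GL (Fin 3) F) : Matrix (Fin 3) (Fin 3) F) ≠
        Matrix.trace (y : Matrix (Fin 3) (Fin 3) F) := by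
      intro k hk
      rw [Units.val_pow_eq_pow_val, hyv, ← toM_mpow hg, ← ev_mtrace hg, ← ev_mtrace hg]
      exact kne_ne hg hk
    have fin : ∀ b : L, τ b * y = y ^ k * τ b → ∃ g : L, ∃ c ∈ Subgroup.zpowers z, N⁻¹ * h * N = τ g * c := by
      intro b hb
      refine ⟨t⁻¹ * b, (τ b)⁻¹ * u, hcent _ (mul_mem (inv_mem (hτS b)) huS) (comm_of hb huy), ?_⟩
      rw [← hh', map_mul, map_inv, hu]; group
    interval_cases k
    · exfalso
      rw [pow_zero, one_mul] at huy
      have : y = 1 := mul_left_cancel (a := u) (by rw [huy, mul_one])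
      rw [this, orderOf_one] at hyo
      norm_num at hyo
    · exact fin 1 (by rw [map_one, one_mul, mul_one, pow_one])
    · exact fin X hby
    · exact absurd htrk (htr 3 tr3)
    · refine fin (X * X) ?_
      rw [map_mul, mul_assoc, hby, ← mul_assoc, sq, ← mul_assoc, hby, mul_assoc (y ^ 2), hby]
      group
    · exact absurd htrk (htr 5 tr5)
    · exact absurd htrk (htr 6 tr6)
  refine SU3.excl hF hH hNU (L := stab (lineSet θ S105)) ?_ ?_ ?_
  · intro h hh
    obtain ⟨g, c, hc, e⟩ := hA h hh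
    rw [e]
    exact mul_mem (hτL g) (hzL hc)
  · obtain ⟨G, hGS, hG⟩ := exists_SU hg hF isSU_mg
    exact ⟨G, hGS, not_mem_stab_of_chk hg mem_v₀ chk_mg hG⟩
  · obtain ⟨G, hGS, hG⟩ := exists_SU hg hF isSU_G
    refine ⟨G, hGS, mem_stab_of_chk hg okS105 chk_G hG, ?_⟩
    intro hGH
    obtain ⟨g, c, ⟨j, hj⟩, e⟩ := hA _ hGH
    have hj' : z ^ j = c := hj
    have e1 : G = s ^ j * τ (g * (C * X) ^ j) := by
      have h1 : N⁻¹ * (N * G * N⁻¹) * N = G := by group
      rw [h1, ← hj', hz, (show Commute s y from hscomm y).mul_zpow] at e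
      rw [e, map_mul, map_zpow, ← hy, ← mul_assoc, ← mul_assoc]
      congr 1
      exact ((show Commute s (τ g) from hscomm _).zpow_left j).eq.symm
    have h504 : G ^ 504 = 1 := by
      rw [e1, ((show Commute s (τ (g * (C * X) ^ j)) from hscomm _).zpow_left j).mul_pow]
      have h1 : (s ^ j) ^ 504 = 1 := by
        rw [← zpow_natCast, ← _root_.zpow_mul, mul_comm, _root_.zpow_mul, zpow_natCast,
          show 504 = 3 * 168 from rfl, pow_mul, hs3, one_pow, _root_.one_zpow]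
      have h2 : (τ (g * (C * X) ^ j)) ^ 504 = 1 := by
        rw [← map_pow, show 504 = Nat.card L * 3 by rw [card_L], pow_mul, pow_card_eq_one', one_pow, map_one]
      rw [h1, h2, one_mul]
    have h5G : G ^ 5 = 1 := by
      apply Units.ext
      rw [Units.val_pow_eq_pow_val, hG, ← toM_mpow hg, toM_congr pow_G, toM_I3 hg, Units.val_one]
    have h1G : G = 1 := by
      have h1 : G ^ 504 = (G ^ 5) ^ 100 * G ^ 4 := by rw [← pow_mul, ← pow_add]
      rw [h504, h5G, one_pow, one_mul] at h1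
      have h2 : G ^ 5 = G ^ 4 * G := pow_succ _ _
      rw [h5G, ← h1, one_mul] at h2
      exact h2.symm
    have h3 := congrArg Units.val h1G
    rw [hG, Units.val_one, ← toM_I3 hg] at h3
    exact mne_ne hg ne_G h3

end Cfsg.Agent.H856.U3
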