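import Cfsg.Agent.H856.U3Form

/-!
# `L₂(7) < 3.A₇ < SU₃(5)`: a subgroup with normal subgroup `L₃(2)` is not maximal in `SU₃(5)`
-/

set_option autoImplicit false
set_option linter.unusedSectionVars false
set_option maxRecDepth 100000

namespace Cfsg.Agent.H856.U3

open Cfsg Cfsg.Geo Matrix
open Cfsg.Agent.H907 Cfsg.Agent.H907.Mdl Cfsg.Agent.H918 Cfsg.Agent.LieClassical.HermBasic
open scoped MatrixGroups

variable {F : Type*} [Field F]

theorem good_of_root [Fintype F] (hF : Fintype.card F = 5 ^ 2) {u : F} (hr : u ^ 2 + u + 1 = 0) : Good c5 u := by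
  have := Mdl.charP_of_card (F := F) (by norm_num) hF
  have h5 : (5 : F) = 0 := by
    have := CharP.cast_eq_zero F 5
    exact_mod_cast this
  have h3 : u ^ 3 = 1 := by linear_combination (u - 1) * hr
  have h0 : u ≠ 0 := by
    rintro rfl
    simp at hr
  have h1 : u ≠ 1 := by
    rintro rfl
    have h2 : (3 : F) = 0 := by linear_combination hr
    have h4 : (1 : F) = 0 := by linear_combination 2 * h2 - h5
    exact one_ne_zero h4
  refine ⟨by norm_num [c5], this, ?_, ?_⟩
  · simp only [c5]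
    push_cast
    linear_combination hr - (u + 1) * h5
  · apply indep_of_pow (p := 5) (by norm_num)
    intro h
    apply h1
    have h6 : u ^ 5 = u ^ 2 := by
      calc u ^ 5 = u ^ 3 * u ^ 2 := by ring
        _ = _ := by rw [h3, one_mul]
    rw [h6] at h
    have h7 : u * (u - 1) = 0 := by linear_combination h
    rcases mul_eq_zero.1 h7 with h | h
    · exact absurd h h0
    · exact sub_eq_zero.1 h

/-- no fixed vectors of `y = c x` -/
theorem fix_eq_zero (h2 : (2 : F) ≠ 0) (h7 : (7 : F) ≠ 0) {α : F} (h0 : α ≠ 0) (hr : 2 * α ^ 2 + α + 1 = 0)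
    {v : Fin 3 → F} (hv : (C0 * X0 α) *ᵥ v = v) : v = 0 := by
  have e0 := congrFun hv 0
  have e1 := congrFun hv 1
  have e2 := congrFun hv 2
  simp only [Matrix.mulVec, dotProduct, Matrix.mul_apply, Fin.sum_univ_three, C0, X0, Matrix.of_apply] at e0 e1 e2
  simp at e0 e1 e2
  field_simp at e0 e1 e2
  have k1 : v 2 = (2 * α + 1) * v 0 := by
    have : 2 * (v 2 - (2 * α + 1) * v 0) = 0 := by linear_combination e0 - e2
    exact sub_eq_zero.1 ((mul_eq_zero.1 this).resolve_left h2)
  have k2 : v 1 = (4 * α + 3) * v 0 := by linear_combination e0 + k1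
  have k3 : (α + 2) * v 0 = 0 := by
    have : 2 * (2 * ((α + 2) * v 0)) = 0 := by
      linear_combination (2 * α - 1) * k2 - k1 + 4 * hr * v 0 + e1
    exact (mul_eq_zero.1 ((mul_eq_zero.1 this).resolve_left h2)).resolve_left h2
  have z0 : v 0 = 0 := by
    have : 7 * v 0 = 0 := by linear_combination hr * v 0 - (2 * α - 3) * k3
    exact (mul_eq_zero.1 this).resolve_left h7
  have z1 : v 1 = 0 := by rw [k2, z0, mul_zero]
  have z2 : v 2 = 0 := by rw [k1, z0, mul_zero]
  ext i
  fin_cases i
  · exact z0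
  · exact z1
  · exact z2

/-- An element of order seven without fixed vectors is irreducible when `|F| = 25`. -/
theorem irr_of_seven [Fintype F] (hF : Fintype.card F = 5 ^ 2) {y : GL (Fin 3) F} (h7 : y ^ 7 = 1)
    (hfix : ∀ v, (y : Matrix (Fin 3) (Fin 3) F) *ᵥ v = v → v = 0) :
    ActsIrreducibly (matrixSet (Subgroup.zpowers y)) := by
  classical
  rw [irr_iff]
  intro W hW
  have hinv : ∀ v ∈ W, (y : Matrix (Fin 3) (Fin 3) F) *ᵥ v ∈ W := fun v hv => hW y (Subgroup.mem_zpowers y) v hv
  let f : Function.End W := fun v => ⟨(y : Matrix (Fin 3) (Fin 3) F) *ᵥ v, hinv v v.2⟩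
  have hfp : ∀ n : ℕ, ∀ v : W, (((f ^ n) v : W) : Fin 3 → F) = ((y ^ n : GL (Fin 3) F) : Matrix (Fin 3) (Fin 3) F) *ᵥ v := by
    intro n
    induction n with
    | zero => intro v; rw [pow_zero, pow_zero, Units.val_one, Matrix.one_mulVec]; rfl
    | succ n ih =>
      intro v
      rw [pow_succ', pow_succ']
      change (y : Matrix (Fin 3) (Fin 3) F) *ᵥ ((f ^ n) v : W) = _
      rw [ih, Units.val_mul, Matrix.mulVec_mulVec]
  have hf7 : f ^ 7 ^ 1 = 1 := by
    funext v
    apply Subtype.ext
    rw [hfp, pow_one, h7, Units.val_one, Matrix.one_mulVec]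
    rfl
  have : Fact (Nat.Prime 7) := ⟨by norm_num⟩
  have hmod := Equiv.Perm.card_fixedPoints_modEq (f := f) (p := 7) (n := 1) hf7
  have hfixed : Fintype.card (Function.fixedPoints f) = 1 := by
    rw [Fintype.card_eq_one_iff]
    refine ⟨⟨0, ?_⟩, ?_⟩
    · apply Subtype.ext
      change (y : Matrix (Fin 3) (Fin 3) F) *ᵥ (0 : Fin 3 → F) = 0
      rw [Matrix.mulVec_zero]
    · rintro ⟨v, hv⟩
      apply Subtype.ext
      apply Subtype.ext
      exact hfix v (congrArg Subtype.val hv)
  have hcard : Fintype.card W = 25 ^ Module.finrank F W := by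
    rw [Module.card_eq_pow_finrank (K := F) (V := W), hF]
    norm_num
  have hle : Module.finrank F W ≤ 3 := by
    have := W.finrank_le
    rwa [Module.finrank_fin_fun] at this
  rw [hcard, hfixed] at hmod
  rcases Nat.lt_or_ge (Module.finrank F W) 3 with hlt | hge
  · left
    have h0 : Module.finrank F W = 0 := by
      interval_cases Module.finrank F W
      · rfl
      · exact absurd hmod (by decide)
      · exact absurd hmod (by decide)
    exact Submodule.finrank_eq_zero.1 h0
  · right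
    apply Submodule.eq_top_of_finrank_eq
    rw [Module.finrank_fin_fun]
    omega

/-- The algebra generated by a cyclic group of unitary matrices is closed under adjoints. -/
theorem adj_closed [Fintype F] {q : ℕ} (hF : Fintype.card F = q ^ 2) {N : Subgroup (GL (Fin 3) F)}
    (hN : N ≤ Cfsg.GU 3 F q) :
    IsAdjointClosedFor (hermForm 3 F q) (Algebra.adjoin F (matrixSet N)) := by
  have key : ∀ k ∈ Algebra.adjoin F (matrixSet N), ct q k ∈ Algebra.adjoin F (matrixSet N) := by
    intro k hk
    induction hk using Algebra.adjoin_induction with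
    | mem x hx =>
      obtain ⟨g, hg, rfl⟩ := hx
      have h1 := (mem_GU_iff_ct hF).1 (hN hg)
      have h2 : ct q (g : Matrix (Fin 3) (Fin 3) F) = ((g⁻¹ : GL (Fin 3) F) : Matrix (Fin 3) (Fin 3) F) := by
        calc ct q (g : Matrix (Fin 3) (Fin 3) F) = ct q (g : Matrix (Fin 3) (Fin 3) F) *
              ((g : Matrix (Fin 3) (Fin 3) F) * ((g⁻¹ : GL (Fin 3) F) : Matrix (Fin 3) (Fin 3) F)) := by
              rw [← Units.val_mul, mul_inv_cancel, Units.val_one, mul_one]
          _ = _ := by rw [← mul_assoc, h1, one_mul]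
      rw [h2]
      exact Algebra.subset_adjoin (mem_matrixSet (N.inv_mem hg))
    | algebraMap c =>
      have h1 := ct_smul_one hF (n := 3) c
      rw [Algebra.algebraMap_eq_smul_one, h1]
      exact Subalgebra.smul_mem _ (Subalgebra.one_mem _) _
    | add x y _ _ hx hy => rw [ct_add hF]; exact Subalgebra.add_mem _ hx hy
    | mul x y _ _ hx hy => rw [ct_mul hF]; exact Subalgebra.mul_mem _ hy hx
  intro k hk
  exact ⟨ct q k, key k hk, fun u v => herm_ct hF k u v⟩

/-- The centraliser of an irreducible element of order seven in `SU₃(5)` has order `21`. -/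
theorem centralizer_seven [Fintype F] (hF : Fintype.card F = 5 ^ 2) {y z : GL (Fin 3) F} (hy : y ∈ SUg 3 F 5)
    (h7 : orderOf y = 7) (hfix : ∀ v, (y : Matrix (Fin 3) (Fin 3) F) *ᵥ v = v → v = 0)
    (hzy : z * y = y * z) (hz : orderOf z = 21) {c : GL (Fin 3) F} (hc : c ∈ SUg 3 F 5) (hcy : c * y = y * c) :
    c ∈ Subgroup.zpowers z := by
  have hy7 : y ^ 7 = 1 := by rw [← h7, pow_orderOf_eq_one]
  have hirr := irr_of_seven hF hy7 hfix
  have hab : ∀ a ∈ Subgroup.zpowers y, ∀ b ∈ Subgroup.zpowers y, a * b = b * a := by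
    rintro _ ⟨i, rfl⟩ _ ⟨j, rfl⟩
    change y ^ i * y ^ j = y ^ j * y ^ i
    rw [← _root_.zpow_add, ← _root_.zpow_add, add_comm]
  have hK := isField_adjoin Nat.prime_three (Fintype.card_fin 3) hirr hab
  have hle : Subgroup.zpowers y ≤ Cfsg.GU 3 F 5 := by
    rw [Subgroup.zpowers_le]; exact hy.1
  have hadj := adj_closed hF hle
  have hyK : (y : Matrix (Fin 3) (Fin 3) F) ∈ Algebra.adjoin F (matrixSet (Subgroup.zpowers y)) :=
    Algebra.subset_adjoin (mem_matrixSet (Subgroup.mem_zpowers y))
  have hyns : ¬ ∃ a : F, (y : Matrix (Fin 3) (Fin 3) F) = a • (1 : Matrix (Fin 3) (Fin 3) F) := by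
    rintro ⟨a, ha⟩
    have h1 : a ^ 7 = 1 := by
      have h2 := congrArg (fun g : GL (Fin 3) F => (g : Matrix (Fin 3) (Fin 3) F) 0 0) hy7
      simp only [Units.val_pow_eq_pow_val, ha, smul_pow, one_pow, Units.val_one, Matrix.smul_apply,
        Matrix.one_apply_eq, smul_eq_mul, mul_one] at h2
      exact h2
    have h0 : a ≠ 0 := by rintro rfl; simp at h1
    have h3 : a ^ 24 = 1 := by
      have := FiniteField.pow_card_sub_one_eq_one a h0
      rwa [hF] at this
    have h4 : a = 1 := by
      have h5 : a ^ 28 = a ^ 24 * a ^ 4 := by rw [← pow_add]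
      have h6 : a ^ 28 = 1 := by rw [show 28 = 7 * 4 from rfl, pow_mul, h1, one_pow]
      rw [h6, h3, one_mul] at h5
      have h7' : a ^ 7 * a = (a ^ 4) ^ 2 := by ring
      rw [h1, one_mul, ← h5, one_pow] at h7'
      exact h7'
    rw [h4, one_smul] at ha
    have h5 := hfix (Pi.single 0 1) (by rw [ha, Matrix.one_mulVec])
    have h6 := congrFun h5 0
    simp at h6
  have hcK := SU3.mem_of_comm hK hyK hyns (m := (c : Matrix (Fin 3) (Fin 3) F)) (by
    rw [← Units.val_mul, ← Units.val_mul, hcy])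
  have hzK := SU3.mem_of_comm hK hyK hyns (m := (z : Matrix (Fin 3) (Fin 3) F)) (by
    rw [← Units.val_mul, ← Units.val_mul, hzy])
  have h21 := pow_eq_one_of_mem_SU hF hK hadj hcK hc
  apply mem_zpowers_of_pow hK hcK hzK
  rw [hz]
  exact h21

end Cfsg.Agent.H856.U3
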