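import Cfsg.Agent.H856.U3L32
import Cfsg.Agent.H907.SU3FiveData
import Cfsg.Agent.H907.SU3Conj

/-!
# The normal form of `L₃(2)` in `GL₃(F)`, and its unitary version
-/

set_option autoImplicit false
set_option linter.unusedSectionVars false

namespace Cfsg.Agent.H856.U3

open Cfsg Cfsg.Geo Matrix
open scoped MatrixGroups

variable {F : Type*} [Field F]

/-- normal form of a homomorphism `L₃(2) → GL₃(F)` -/
structure NF (ρ : L →* GL (Fin 3) F) (M : GL (Fin 3) F) (α : F) : Prop where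
  v1 : ((M⁻¹ * ρ V1 * M : GL (Fin 3) F) : Matrix (Fin 3) (Fin 3) F) = D1
  v2 : ((M⁻¹ * ρ V2 * M : GL (Fin 3) F) : Matrix (Fin 3) (Fin 3) F) = D2
  c : ((M⁻¹ * ρ C * M : GL (Fin 3) F) : Matrix (Fin 3) (Fin 3) F) = C0
  t : ((M⁻¹ * ρ T * M : GL (Fin 3) F) : Matrix (Fin 3) (Fin 3) F) = T0
  x : ((M⁻¹ * ρ X * M : GL (Fin 3) F) : Matrix (Fin 3) (Fin 3) F) = X0 α
  ne : α ≠ 0
  root : 2 * α ^ 2 + α + 1 = 0

theorem relA {ρ : L →* GL (Fin 3) F} (hinj : Function.Injective ρ) :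
    RelA (ρ V1 : Matrix (Fin 3) (Fin 3) F) (ρ V2 : Matrix (Fin 3) (Fin 3) F) (ρ C : Matrix (Fin 3) (Fin 3) F) where
  sq₁ := by rw [← Units.val_mul, ← map_mul, V1_sq, map_one, Units.val_one]
  sq₂ := by rw [← Units.val_mul, ← map_mul, V2_sq, map_one, Units.val_one]
  comm := by rw [← Units.val_mul, ← Units.val_mul, ← map_mul, ← map_mul, V_comm]
  ne := by
    intro h
    have h1 : ρ V1 = 1 := Units.ext (by rw [h, Units.val_one])
    rw [← map_one ρ] at h1
    exact V1_ne (hinj h1)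
  c₁ := by rw [← Units.val_mul, ← Units.val_mul, ← map_mul, ← map_mul, C_V1]
  c₂ := by rw [← Units.val_mul, ← Units.val_mul, ← Units.val_mul, ← map_mul, ← map_mul, ← map_mul, C_V2]
  c₃ := by rw [← Units.val_mul, ← Units.val_mul, ← map_mul, ← map_mul, C_cube, map_one, Units.val_one]

theorem trace_conj' (h g : GL (Fin 3) F) :
    ((h * g * h⁻¹ : GL (Fin 3) F) : Matrix (Fin 3) (Fin 3) F).trace = (g : Matrix (Fin 3) (Fin 3) F).trace := by
  rw [Units.val_mul, Units.val_mul, Matrix.trace_mul_comm, ← Matrix.mul_assoc, ← Units.val_mul,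
    inv_mul_cancel, Units.val_one, Matrix.one_mul]

theorem exists_NF (h2 : (2 : F) ≠ 0) {ρ : L →* GL (Fin 3) F}
    (hdet : ∀ g, (ρ g : Matrix (Fin 3) (Fin 3) F).det = 1) {M : GL (Fin 3) F}
    (hM : Frame (ρ V1 : Matrix (Fin 3) (Fin 3) F) (ρ V2 : Matrix (Fin 3) (Fin 3) F)
      (ρ C : Matrix (Fin 3) (Fin 3) F) M) : ∃ α, NF ρ M α := by
  let τ : L →* GL (Fin 3) F := (MulAut.conj M⁻¹).toMonoidHom.comp ρ
  have hτ : ∀ g, τ g = M⁻¹ * ρ g * M := fun g => by
    change M⁻¹ * ρ g * M⁻¹⁻¹ = _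
    rw [inv_inv]
  have key : ∀ g N, (ρ g : Matrix (Fin 3) (Fin 3) F) * (M : Matrix (Fin 3) (Fin 3) F) =
      (M : Matrix (Fin 3) (Fin 3) F) * N → (τ g : Matrix (Fin 3) (Fin 3) F) = N := by
    intro g N h
    rw [hτ, Units.val_mul, Units.val_mul, mul_assoc, h, ← mul_assoc, ← Units.val_mul, inv_mul_cancel,
      Units.val_one, one_mul]
  have k1 := key _ _ hM.e₁
  have k2 := key _ _ hM.e₂
  have kc := key _ _ hM.ec
  have hmul : ∀ a b, (τ (a * b) : Matrix (Fin 3) (Fin 3) F) = (τ a : Matrix (Fin 3) (Fin 3) F) * τ b := by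
    intro a b; rw [map_mul, Units.val_mul]
  have hdet' : ∀ g, (τ g : Matrix (Fin 3) (Fin 3) F).det = 1 := by
    intro g
    rw [hτ, Units.val_mul, Units.val_mul, Matrix.det_mul, Matrix.det_mul, hdet, mul_one, ← Matrix.det_mul,
      ← Units.val_mul, inv_mul_cancel, Units.val_one, Matrix.det_one]
  have kt : (τ T : Matrix (Fin 3) (Fin 3) F) = T0 := by
    apply eq_T0 h2
    · rw [← k1, ← hmul, ← hmul, T_V1]
    · rw [← k1, ← k2, ← hmul, ← hmul, ← hmul, T_V2]
    · rw [← hmul, T_sq, map_one, Units.val_one]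
    · rw [← kc, ← hmul, ← hmul, ← hmul, T_C]
    · exact hdet' _
  have kx := eq_X0 h2 (X := (τ X : Matrix (Fin 3) (Fin 3) F)) (by rw [← k1, ← kt, ← hmul, ← hmul, X_V1])
    (by rw [← k1, ← kt, ← hmul, ← hmul, ← hmul, X_T])
    (by
      rw [← k1, ← k2]
      simp only [← hmul]
      rw [X_inv, map_one, Units.val_one]) (hdet' _)
  set α := (τ X : Matrix (Fin 3) (Fin 3) F) 1 0 with hα
  have htr : (τ (C * (V1 * V2 * X * (V1 * V2))) : Matrix (Fin 3) (Fin 3) F).trace = 0 := by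
    have h1 : C * (V1 * V2 * X * (V1 * V2)) = (C * C * X * T) * C * (C * C * X * T)⁻¹ := by
      rw [CX_conj, mul_inv_cancel_right]
    rw [h1, map_mul, map_mul, map_inv, trace_conj', kc, Matrix.trace_fin_three]
    simp [C0]
  refine ⟨α, ⟨?_, ?_, ?_, ?_, ?_, kx.1, ?_⟩⟩
  · rw [← hτ]; exact k1
  · rw [← hτ]; exact k2
  · rw [← hτ]; exact kc
  · rw [← hτ]; exact kt
  · rw [← hτ]; exact kx.2
  · simp only [hmul, k1, k2, kc] at htr
    rw [kx.2] at htr
    have h0 := kx.1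
    rw [Matrix.trace_fin_three] at htr
    simp only [Matrix.mul_apply, Fin.sum_univ_three, D1, D2, C0, X0, Matrix.of_apply] at htr
    simp at htr
    field_simp at htr
    linear_combination htr

section unitary

open Cfsg.Agent.H907 Cfsg.Agent.H907.Mdl Cfsg.Agent.H918 Cfsg.Agent.LieClassical.HermBasic

variable [Fintype F] {q : ℕ}

theorem frame_smul {v₁ v₂ c : Matrix (Fin 3) (Fin 3) F} {M : GL (Fin 3) F} (h : Frame v₁ v₂ c M) {N : GL (Fin 3) F}
    {a : F} (hN : (N : Matrix (Fin 3) (Fin 3) F) = a • (M : Matrix (Fin 3) (Fin 3) F)) : Frame v₁ v₂ c N where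
  e₁ := by rw [hN, Matrix.mul_smul, h.e₁, Matrix.smul_mul]
  e₂ := by rw [hN, Matrix.mul_smul, h.e₂, Matrix.smul_mul]
  ec := by rw [hN, Matrix.mul_smul, h.ec, Matrix.smul_mul]

/-- The frame may be chosen unitary. -/
theorem exists_unitary_frame (hF : Fintype.card F = q ^ 2) (h2 : (2 : F) ≠ 0) {v₁ v₂ c : GL (Fin 3) F}
    (h : RelA (v₁ : Matrix (Fin 3) (Fin 3) F) (v₂ : Matrix (Fin 3) (Fin 3) F) (c : Matrix (Fin 3) (Fin 3) F))
    (hv1 : v₁ ∈ Cfsg.GU 3 F q) (hv2 : v₂ ∈ Cfsg.GU 3 F q) (hc : c ∈ Cfsg.GU 3 F q) :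
    ∃ M ∈ Cfsg.GU 3 F q, Frame (v₁ : Matrix (Fin 3) (Fin 3) F) (v₂ : Matrix (Fin 3) (Fin 3) F)
      (c : Matrix (Fin 3) (Fin 3) F) M := by
  obtain ⟨M, hM⟩ := exists_frame h2 h
  set e : Fin 3 → Fin 3 → F := fun i => (M : Matrix (Fin 3) (Fin 3) F) *ᵥ Pi.single i 1 with he
  have k1 : ∀ i, (v₁ : Matrix (Fin 3) (Fin 3) F) *ᵥ e i = (![1, -1, -1] : Fin 3 → F) i • e i := by
    intro i
    rw [he, Matrix.mulVec_mulVec, hM.e₁, ← Matrix.mulVec_mulVec, ← Matrix.mulVec_smul]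
    congr 1
    ext j
    fin_cases i <;> fin_cases j <;> simp [D1, Matrix.mulVec, dotProduct, Fin.sum_univ_three]
  have k2 : ∀ i, (v₂ : Matrix (Fin 3) (Fin 3) F) *ᵥ e i = (![-1, 1, -1] : Fin 3 → F) i • e i := by
    intro i
    rw [he, Matrix.mulVec_mulVec, hM.e₂, ← Matrix.mulVec_mulVec, ← Matrix.mulVec_smul]
    congr 1
    ext j
    fin_cases i <;> fin_cases j <;> simp [D2, Matrix.mulVec, dotProduct, Fin.sum_univ_three]
  have kc : ∀ i, (c : Matrix (Fin 3) (Fin 3) F) *ᵥ e i = e (i + 1) := by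
    intro i
    rw [he, Matrix.mulVec_mulVec, hM.ec, ← Matrix.mulVec_mulVec]
    congr 1
    ext j
    fin_cases i <;> fin_cases j <;> simp [C0, Matrix.mulVec, dotProduct, Fin.sum_univ_three]
  have m1 : ((-1 : F)) ^ q = -1 := by rw [neg_pow_q hF, one_pow]
  have horth : ∀ i j, i ≠ j → hermForm 3 F q (e i) (e j) = 0 := by
    intro i j hij
    have e1 := mem_GU.1 hv1 (e i) (e j)
    have e2 := mem_GU.1 hv2 (e i) (e j)
    rw [k1, k1, herm_smul_left, herm_smul_right] at e1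
    rw [k2, k2, herm_smul_left, herm_smul_right] at e2
    have key : ∀ y : F, -y = y → y = 0 := fun y hy => by
      have : 2 * y = 0 := by linear_combination -hy
      exact (mul_eq_zero.1 this).resolve_left h2
    fin_cases i <;> fin_cases j <;> simp [m1] at e1 e2 hij ⊢ <;> first | exact key _ e1 | exact key _ e2
  have hnorm : ∀ i, hermForm 3 F q (e i) (e i) = hermForm 3 F q (e 0) (e 0) := by
    have h01 : hermForm 3 F q (e 1) (e 1) = hermForm 3 F q (e 0) (e 0) := by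
      have := mem_GU.1 hc (e 0) (e 0)
      rwa [kc] at this
    have h12 : hermForm 3 F q (e 2) (e 2) = hermForm 3 F q (e 1) (e 1) := by
      have := mem_GU.1 hc (e 1) (e 1)
      rwa [kc] at this
    intro i
    fin_cases i
    · rfl
    · exact h01
    · exact h12.trans h01
  have hne : hermForm 3 F q (e 0) (e 0) ≠ 0 := by
    intro h0
    have hz : e 0 = 0 := by
      apply herm_nondeg hF
      intro v
      have hv : v = ∑ i, ((((M⁻¹ : GL (Fin 3) F) : Matrix (Fin 3) (Fin 3) F)) *ᵥ v) i • e i := by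
        have h1 : v = (M : Matrix (Fin 3) (Fin 3) F) *ᵥ ((((M⁻¹ : GL (Fin 3) F) : Matrix (Fin 3) (Fin 3) F)) *ᵥ v) := by
          rw [Matrix.mulVec_mulVec, ← Units.val_mul, mul_inv_cancel, Units.val_one, Matrix.one_mulVec]
        nth_rewrite 1 [h1]
        generalize (((M⁻¹ : GL (Fin 3) F) : Matrix (Fin 3) (Fin 3) F)) *ᵥ v = x
        ext k
        simp only [he, Fin.sum_univ_three, Pi.add_apply, Pi.smul_apply, Matrix.mulVec_single_one, Matrix.col_apply,
          smul_eq_mul]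
        rw [Matrix.mulVec, dotProduct, Fin.sum_univ_three]
        ring
      rw [hv, herm_sum_right hF]
      apply Finset.sum_eq_zero
      intro i _
      rw [herm_smul_right]
      by_cases hi : i = 0
      · rw [hi, h0, mul_zero]
      · rw [horth 0 i (Ne.symm hi), mul_zero]
    have h1 := congrArg (fun w => (((M⁻¹ : GL (Fin 3) F) : Matrix (Fin 3) (Fin 3) F)) *ᵥ w) hz
    simp only [he, Matrix.mulVec_mulVec, ← Units.val_mul, inv_mul_cancel, Units.val_one, Matrix.one_mulVec,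
      Matrix.mulVec_zero] at h1
    have h2 := congrFun h1 0
    simp at h2
  obtain ⟨a, ha0, ha⟩ := SU3.exists_unit_smul hF hne
  obtain ⟨N, hN⟩ : ∃ N : GL (Fin 3) F, (N : Matrix (Fin 3) (Fin 3) F) = a • (M : Matrix (Fin 3) (Fin 3) F) :=
    ⟨Units.map (Matrix.scalar (Fin 3) : F →+* Matrix (Fin 3) (Fin 3) F).toMonoidHom (Units.mk0 a ha0) * M, by
      rw [Units.val_mul]
      simp [Matrix.smul_eq_diagonal_mul]⟩
  refine ⟨N, ?_, frame_smul hM hN⟩
  apply mem_GU_of_cols hF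
  intro i j
  have h1 : ∀ i, (fun k => (N : Matrix (Fin 3) (Fin 3) F) k i) = a • e i := by
    intro i
    ext k
    rw [hN]
    simp [he]
  have h2 : ∑ k, (N : Matrix (Fin 3) (Fin 3) F) k i * ((N : Matrix (Fin 3) (Fin 3) F) k j) ^ q =
      hermForm 3 F q (a • e i) (a • e j) := by
    rw [← h1, ← h1, herm_def]
  rw [h2, Matrix.one_apply]
  split_ifs with hij
  · subst hij
    rw [herm_smul_left, herm_smul_right, hnorm, ← herm_smul_right, ← herm_smul_left, ha]
  · rw [herm_smul_left, herm_smul_right, horth i j hij, mul_zero, mul_zero]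

end unitary

end Cfsg.Agent.H856.U3
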