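import Cfsg.Agent.H856.U3Norm
import Cfsg.Agent.H906.ZCases
import Cfsg.Agent.H906.Proj

/-!
# The group `L₃(2)`: generators and relations; lifting to a subgroup `P` of `GL₃(F)`
-/

set_option autoImplicit false
set_option linter.unusedSectionVars false

namespace Cfsg.Agent.H856.U3

open Cfsg Cfsg.Geo Cfsg.Agent.H906
open scoped MatrixGroups

abbrev L := Matrix.SpecialLinearGroup (Fin 3) (ZMod 2)

def V1 : L := ⟨!![1, 0, 1; 0, 1, 0; 0, 0, 1], by decide⟩
def V2 : L := ⟨!![1, 0, 0; 0, 1, 1; 0, 0, 1], by decide⟩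
def C : L := ⟨!![0, 1, 0; 1, 1, 0; 0, 0, 1], by decide⟩
def T : L := ⟨!![1, 1, 0; 0, 1, 0; 0, 0, 1], by decide⟩
def X : L := ⟨!![1, 0, 1; 0, 0, 1; 0, 1, 1], by decide⟩

theorem V1_sq : V1 * V1 = 1 := by decide
theorem V2_sq : V2 * V2 = 1 := by decide
theorem V_comm : V1 * V2 = V2 * V1 := by decide
theorem V1_ne : V1 ≠ 1 := by decide
theorem C_V1 : C * V1 = V2 * C := by decide
theorem C_V2 : C * V2 = V1 * V2 * C := by decide
theorem C_cube : C * C * C = 1 := by decide
theorem T_V1 : T * V1 = V1 * T := by decide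
theorem T_V2 : T * V2 = V1 * V2 * T := by decide
theorem T_sq : T * T = 1 := by decide
theorem T_C : T * C * T = C * C := by decide
theorem X_V1 : X * V1 = T * X := by decide
theorem X_T : X * T = V1 * T * X := by decide
theorem X_inv : V1 * V2 * X * (V1 * V2) * X = 1 := by decide
/-- `C X⁻¹` is conjugate to `C`. -/
theorem CX_conj : (C * C * X * T) * C = (C * (V1 * V2 * X * (V1 * V2))) * (C * C * X * T) := by decide
theorem Y_pow : (C * X) ^ 7 = 1 := by decide
theorem Y_ne : C * X ≠ 1 := by decide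
theorem X_Y : X * (C * X) = (C * X) ^ 2 * X := by decide
theorem TV2_four : (T * V2) ^ 4 = 1 := by decide
theorem TV2_two : (T * V2) ^ 2 ≠ 1 := by decide
theorem C_ne : C ≠ 1 := by decide

theorem card_L : Nat.card L = 168 := by
  rw [Nat.card_eq_fintype_card]
  decide +kernel

theorem orderOf_Y : orderOf (C * X) = 7 := by
  have : Fact (Nat.Prime 7) := ⟨by norm_num⟩
  exact orderOf_eq_prime Y_pow Y_ne

theorem center_L : Subgroup.center L = ⊥ := by
  rw [eq_bot_iff]
  intro z hz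
  obtain ⟨r, hr, hrz⟩ := Matrix.SpecialLinearGroup.mem_center_iff.1 hz
  rw [Subgroup.mem_bot]
  apply Subtype.ext
  have key : ∀ r : ZMod 2, r ^ Fintype.card (Fin 3) = 1 → r = 1 := by decide
  have h1 : r = 1 := key r hr
  rw [← hrz, h1]
  simp

theorem dvd_card {G : Type*} [Group G] {S : Subgroup G} {g : G} (hg : g ∈ S) {n : ℕ} (h : orderOf g = n) :
    n ∣ Nat.card S := by
  rw [← h, ← Subgroup.orderOf_mk g hg]
  exact orderOf_dvd_natCard _

/-- generation -/
theorem eq_top [IsSimpleGroup L] (S : Subgroup L) (h1 : V2 ∈ S) (hC : C ∈ S) (hT : T ∈ S) (hX : X ∈ S) :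
    S = ⊤ := by
  have d7 : 7 ∣ Nat.card S := dvd_card (S.mul_mem hC hX) orderOf_Y
  have d3 : 3 ∣ Nat.card S := by
    have h3 : orderOf C = 3 := by
      have : Fact (Nat.Prime 3) := ⟨by norm_num⟩
      exact orderOf_eq_prime (by rw [pow_succ, sq]; exact C_cube) C_ne
    exact dvd_card hC h3
  have d4 : 4 ∣ Nat.card S := by
    have h4 : orderOf (T * V2) = 2 ^ (1 + 1) := by
      have : Fact (Nat.Prime 2) := ⟨by norm_num⟩
      exact orderOf_eq_prime_pow (by simpa using TV2_two) TV2_four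
    have h4' : orderOf (T * V2) = 4 := by rw [h4]; norm_num
    exact dvd_card (S.mul_mem hT h1) h4'
  have h84 : 84 ∣ Nat.card S := by
    have : Nat.Coprime 4 3 := by norm_num
    have h12 := this.mul_dvd_of_dvd_of_dvd d4 d3
    have h2 : Nat.Coprime (4 * 3) 7 := by norm_num
    exact h2.mul_dvd_of_dvd_of_dvd h12 d7
  have hidx := S.card_mul_index
  rw [card_L] at hidx
  obtain ⟨k, hk⟩ := h84
  rw [hk] at hidx
  have h2 : k * S.index = 2 := by
    have : 84 * (k * S.index) = 84 * 2 := by rw [← mul_assoc]; exact hidx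
    exact Nat.eq_of_mul_eq_mul_left (by norm_num) this
  have h3 : S.index ≤ 2 := Nat.le_of_dvd (by norm_num) (Dvd.intro_left k h2)
  have h4 : S.index ≠ 0 := by intro h; rw [h] at h2; omega
  have h5 : S.index = 1 ∨ S.index = 2 := by omega
  rcases h5 with h5 | h5
  · exact Subgroup.index_eq_one.1 h5
  · have hn := Subgroup.normal_of_index_eq_two h5
    rcases hn.eq_bot_or_eq_top with h6 | h6
    · exfalso
      rw [h6, Subgroup.mem_bot] at hC
      exact C_ne hC
    · exact h6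

variable {F : Type*} [Field F] {P : Subgroup (GL (Fin 3) F)}

/-- The isomorphism `L₃(2) ≃ P` when there are no scalars in `P`. -/
noncomputable def lift (hZ : ∀ g ∈ P, g ∈ scalars (Fin 3) F → g = 1)
    (Φ : (P ⧸ (scalars (Fin 3) F).subgroupOf P) ≃* Matrix.ProjectiveSpecialLinearGroup (Fin 3) (ZMod 2)) :
    L ≃* P :=
  (MulEquiv.ofBijective (QuotientGroup.mk' (Subgroup.center L)) (by
    refine ⟨?_, QuotientGroup.mk'_surjective _⟩
    rw [← MonoidHom.ker_eq_bot_iff, QuotientGroup.ker_mk']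
    exact center_L)).trans
  (Φ.symm.trans (MulEquiv.ofBijective (QuotientGroup.mk' ((scalars (Fin 3) F).subgroupOf P)) (by
    refine ⟨?_, QuotientGroup.mk'_surjective _⟩
    rw [← MonoidHom.ker_eq_bot_iff, QuotientGroup.ker_mk', eq_bot_iff]
    intro z hz
    rw [Subgroup.mem_bot]
    exact Subtype.ext (hZ z z.2 hz))).symm)

theorem no_scalars [Finite F] (hperf : ⁅P, P⁆ = P)
    (Φ : (P ⧸ (scalars (Fin 3) F).subgroupOf P) ≃* Matrix.ProjectiveSpecialLinearGroup (Fin 3) (ZMod 2)) :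
    ∀ g ∈ P, g ∈ scalars (Fin 3) F → g = 1 := by
  intro g hg hs
  obtain ⟨C, hC, hidx⟩ := L3_cyclic (K := ZMod 2) (by decide) (by rw [Nat.card_zmod]; norm_num)
  exact scalar_eq_one_of_cyclic hperf Φ C hC hidx hg hs

end Cfsg.Agent.H856.U3
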