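import Mathlib

/-!
# Normal form of a subgroup `L₃(2)` of `GL₃(F)`, `char F ≠ 2`

Matrices `v₁, v₂, c, t, x` satisfying the relations of the amalgam `S₄ *_{D₈} S₄` are simultaneously conjugate to
explicit ones depending on one parameter `α`.
-/

set_option autoImplicit false

namespace Cfsg.Agent.H856.U3

open Matrix

variable {F : Type*} [Field F]

/-- `diag(1,-1,-1)` -/
def D1 : Matrix (Fin 3) (Fin 3) F := !![1, 0, 0; 0, -1, 0; 0, 0, -1]
/-- `diag(-1,1,-1)` -/
def D2 : Matrix (Fin 3) (Fin 3) F := !![-1, 0, 0; 0, 1, 0; 0, 0, -1]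
/-- the cyclic permutation `e₀ → e₁ → e₂ → e₀` -/
def C0 : Matrix (Fin 3) (Fin 3) F := !![0, 0, 1; 1, 0, 0; 0, 1, 0]
/-- the involution `e₀ → -e₀`, `e₁ ↔ -e₂` -/
def T0 : Matrix (Fin 3) (Fin 3) F := !![-1, 0, 0; 0, 0, -1; 0, -1, 0]
/-- the element of order three normalising `⟨v₁, t⟩` -/
def X0 (α : F) : Matrix (Fin 3) (Fin 3) F :=
  !![0, (2 * α)⁻¹, (2 * α)⁻¹; α, 2⁻¹, -2⁻¹; -α, 2⁻¹, -2⁻¹]

/-- The relations of `V = ⟨v₁, v₂⟩` and `c`. -/
structure RelA (v₁ v₂ c : Matrix (Fin 3) (Fin 3) F) : Prop where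
  sq₁ : v₁ * v₁ = 1
  sq₂ : v₂ * v₂ = 1
  comm : v₁ * v₂ = v₂ * v₁
  ne : v₁ ≠ 1
  c₁ : c * v₁ = v₂ * c
  c₂ : c * v₂ = v₁ * v₂ * c
  c₃ : c * c * c = 1

theorem exists_vec (h2 : (2 : F) ≠ 0) {v₁ v₂ c : Matrix (Fin 3) (Fin 3) F} (h : RelA v₁ v₂ c) :
    ∃ e : Fin 3 → F, e ≠ 0 ∧ v₁ *ᵥ e = e ∧ v₂ *ᵥ e = -e := by
  have hA : (1 + v₁) * (1 - v₂) ≠ 0 := by
    intro hA
    have hc : ∀ X : Matrix (Fin 3) (Fin 3) F, X * c = 0 → X = 0 := by
      intro X hX
      have h1 : X * (c * c * c) = 0 := by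
        rw [← mul_assoc, ← mul_assoc, hX, zero_mul, zero_mul]
      rwa [h.c₃, mul_one] at h1
    have e1 : c * ((1 + v₁) * (1 - v₂)) = ((1 - v₁) * (1 + v₂)) * c := by
      have a1 : c * (v₁ * v₂) = v₁ * c := by
        rw [← mul_assoc, h.c₁, mul_assoc, h.c₂, ← mul_assoc, ← mul_assoc, ← h.comm, mul_assoc v₁, h.sq₂, mul_one]
      have a2 : v₁ * v₂ * c = c * v₂ := h.c₂.symm
      have a3 : v₂ * c = c * v₁ := h.c₁.symm
      simp only [mul_add, add_mul, mul_sub, sub_mul, one_mul, mul_one]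
      rw [a1, a2, a3]
      abel
    have h1 : (1 - v₁) * (1 + v₂) = 0 := hc _ (by rw [← e1, hA, mul_zero])
    have e2 : c * ((1 - v₁) * (1 + v₂)) = ((1 - v₁) * (1 - v₂)) * c := by
      have a1 : c * (v₁ * v₂) = v₁ * c := by
        rw [← mul_assoc, h.c₁, mul_assoc, h.c₂, ← mul_assoc, ← mul_assoc, ← h.comm, mul_assoc v₁, h.sq₂, mul_one]
      have a2 : v₁ * v₂ * c = c * v₂ := h.c₂.symm
      have a3 : v₂ * c = c * v₁ := h.c₁.symm
      simp only [mul_add, add_mul, mul_sub, sub_mul, one_mul, mul_one]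
      rw [a1, a2, a3]
      abel
    have h3 : (1 - v₁) * (1 - v₂) = 0 := hc _ (by rw [← e2, h1, mul_zero])
    have h4 : (2 : F) • (1 - v₁) = 0 := by
      have : (1 - v₁) * (1 + v₂) + (1 - v₁) * (1 - v₂) = 0 := by rw [h1, h3, add_zero]
      rw [← mul_add] at this
      rw [two_smul]
      have e : (1 + v₂ + (1 - v₂) : Matrix (Fin 3) (Fin 3) F) = 1 + 1 := by abel
      rw [e, mul_add, mul_one] at this
      exact this
    rw [smul_eq_zero] at h4
    rcases h4 with h4 | h4
    · exact h2 h4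
    · exact h.ne (sub_eq_zero.1 h4).symm
  obtain ⟨w, hw⟩ : ∃ w, ((1 + v₁) * (1 - v₂)) *ᵥ w ≠ 0 := by
    by_contra hcon
    push Not at hcon
    apply hA
    apply Matrix.toLin'.injective
    apply LinearMap.ext
    intro w
    rw [Matrix.toLin'_apply, hcon w, map_zero, LinearMap.zero_apply]
  refine ⟨_, hw, ?_, ?_⟩
  · rw [Matrix.mulVec_mulVec]
    congr 1
    rw [← mul_assoc, mul_add, mul_one, h.sq₁, add_comm v₁]
  · rw [Matrix.mulVec_mulVec, ← Matrix.neg_mulVec]
    congr 1
    simp only [mul_add, add_mul, mul_sub, sub_mul, one_mul, mul_one]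
    rw [h.sq₂, ← h.comm, ← mul_assoc, ← h.comm, mul_assoc, h.sq₂, mul_one]
    abel

/-- A frame in which `v₁, v₂, c` are standard. -/
structure Frame (v₁ v₂ c : Matrix (Fin 3) (Fin 3) F) (M : GL (Fin 3) F) : Prop where
  e₁ : v₁ * (M : Matrix (Fin 3) (Fin 3) F) = (M : Matrix (Fin 3) (Fin 3) F) * D1
  e₂ : v₂ * (M : Matrix (Fin 3) (Fin 3) F) = (M : Matrix (Fin 3) (Fin 3) F) * D2
  ec : c * (M : Matrix (Fin 3) (Fin 3) F) = (M : Matrix (Fin 3) (Fin 3) F) * C0

theorem exists_frame (h2 : (2 : F) ≠ 0) {v₁ v₂ c : Matrix (Fin 3) (Fin 3) F} (h : RelA v₁ v₂ c) :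
    ∃ M : GL (Fin 3) F, Frame v₁ v₂ c M := by
  obtain ⟨e, he, h1, h2'⟩ := exists_vec h2 h
  have hc0 : ∀ u : Fin 3 → F, u ≠ 0 → c *ᵥ u ≠ 0 := by
    intro u hu h0
    apply hu
    have : (c * c * c) *ᵥ u = 0 := by
      rw [← Matrix.mulVec_mulVec, h0, Matrix.mulVec_zero]
    rwa [h.c₃, Matrix.one_mulVec] at this
  set f := c *ᵥ e with hf
  set g := c *ᵥ f with hg
  have hf0 : f ≠ 0 := hc0 _ he
  have hg0 : g ≠ 0 := hc0 _ hf0
  have hgc : c *ᵥ g = e := by
    rw [hg, hf, Matrix.mulVec_mulVec, Matrix.mulVec_mulVec, h.c₃, Matrix.one_mulVec]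
  have v2f : v₂ *ᵥ f = f := by
    rw [hf, Matrix.mulVec_mulVec, ← h.c₁, ← Matrix.mulVec_mulVec, h1]
  have v1f : v₁ *ᵥ f = -f := by
    have : (v₁ * v₂) *ᵥ f = -f := by
      rw [hf, Matrix.mulVec_mulVec, ← h.c₂, ← Matrix.mulVec_mulVec, h2', Matrix.mulVec_neg]
    rwa [← Matrix.mulVec_mulVec, v2f] at this
  have v2g : v₂ *ᵥ g = -g := by
    rw [hg, Matrix.mulVec_mulVec, ← h.c₁, ← Matrix.mulVec_mulVec, v1f, Matrix.mulVec_neg]
  have v1g : v₁ *ᵥ g = -g := by
    have : (v₁ * v₂) *ᵥ g = g := by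
      rw [hg, Matrix.mulVec_mulVec, ← h.c₂, ← Matrix.mulVec_mulVec, v2f]
    rw [← Matrix.mulVec_mulVec, v2g, Matrix.mulVec_neg] at this
    rw [neg_eq_iff_eq_neg] at this
    exact this
  have hlin : LinearIndependent F ![e, f, g] := by
    rw [Fintype.linearIndependent_iff]
    intro a ha
    simp only [Fin.sum_univ_three, Matrix.cons_val_zero, Matrix.cons_val_one, Matrix.cons_val] at ha
    have ha1 := congrArg (fun u => v₁ *ᵥ u) ha
    have ha2 := congrArg (fun u => v₂ *ᵥ u) ha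
    simp only [Matrix.mulVec_add, Matrix.mulVec_smul, h1, v1f, v1g, h2', v2f, v2g, Matrix.mulVec_zero] at ha1 ha2
    have k0 : (2 * a 0) • e = 0 := by
      have := congrArg₂ (· + ·) ha ha1
      simp only [add_zero] at this
      rw [← this, mul_smul, two_smul]
      simp only [smul_neg]
      abel
    have k1 : (2 * a 1) • f = 0 := by
      have := congrArg₂ (· + ·) ha ha2
      simp only [add_zero] at this
      rw [← this, mul_smul, two_smul]
      simp only [smul_neg]
      abel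
    have z0 : a 0 = 0 := by
      rcases smul_eq_zero.1 k0 with h' | h'
      · exact (mul_eq_zero.1 h').resolve_left h2
      · exact (he h').elim
    have z1 : a 1 = 0 := by
      rcases smul_eq_zero.1 k1 with h' | h'
      · exact (mul_eq_zero.1 h').resolve_left h2
      · exact (hf0 h').elim
    have z2 : a 2 = 0 := by
      rw [z0, z1, zero_smul, zero_smul, zero_add, zero_add] at ha
      exact (smul_eq_zero.1 ha).resolve_right hg0
    intro i
    fin_cases i
    · exact z0
    · exact z1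
    · exact z2
  have hunit : IsUnit (Matrix.of ![e, f, g]) := by
    rw [← Matrix.linearIndependent_rows_iff_isUnit]
    exact hlin
  have hunit' : IsUnit (Matrix.of ![e, f, g])ᵀ := by
    rw [Matrix.isUnit_transpose]
    exact hunit
  obtain ⟨M, hM⟩ := hunit'
  have hcol : ∀ A N : Matrix (Fin 3) (Fin 3) F, (∀ j, A *ᵥ (fun i => (M : Matrix (Fin 3) (Fin 3) F) i j) =
      fun i => ((M : Matrix (Fin 3) (Fin 3) F) * N) i j) → A * (M : Matrix (Fin 3) (Fin 3) F) =
        (M : Matrix (Fin 3) (Fin 3) F) * N := by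
    intro A N hj
    ext i j
    exact congrFun (hj j) i
  have c0 : (fun i => (M : Matrix (Fin 3) (Fin 3) F) i 0) = e := by
    funext i; rw [hM]; rfl
  have c1 : (fun i => (M : Matrix (Fin 3) (Fin 3) F) i 1) = f := by
    funext i; rw [hM]; rfl
  have c2 : (fun i => (M : Matrix (Fin 3) (Fin 3) F) i 2) = g := by
    funext i; rw [hM]; rfl
  have hmul : ∀ (N : Matrix (Fin 3) (Fin 3) F) j, (fun i => ((M : Matrix (Fin 3) (Fin 3) F) * N) i j) =
      N 0 j • e + N 1 j • f + N 2 j • g := by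
    intro N j
    funext i
    rw [Matrix.mul_apply, Fin.sum_univ_three]
    rw [show (M : Matrix (Fin 3) (Fin 3) F) i 0 = e i from congrFun c0 i,
      show (M : Matrix (Fin 3) (Fin 3) F) i 1 = f i from congrFun c1 i,
      show (M : Matrix (Fin 3) (Fin 3) F) i 2 = g i from congrFun c2 i]
    simp only [Pi.add_apply, Pi.smul_apply, smul_eq_mul]
    ring
  refine ⟨M, ⟨?_, ?_, ?_⟩⟩
  · apply hcol
    intro j
    rw [hmul]
    fin_cases j
    · simp only [Fin.zero_eta, c0, h1, D1, Matrix.of_apply]; simp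
    · simp only [Fin.mk_one, c1, v1f, D1, Matrix.of_apply]; simp
    · simp only [Fin.reduceFinMk, c2, v1g, D1, Matrix.of_apply]; simp
  · apply hcol
    intro j
    rw [hmul]
    fin_cases j
    · simp only [Fin.zero_eta, c0, h2', D2, Matrix.of_apply]; simp
    · simp only [Fin.mk_one, c1, v2f, D2, Matrix.of_apply]; simp
    · simp only [Fin.reduceFinMk, c2, v2g, D2, Matrix.of_apply]; simp
  · apply hcol
    intro j
    rw [hmul]
    fin_cases j
    · simp only [Fin.zero_eta, c0, ← hf, C0, Matrix.of_apply]; simp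
    · simp only [Fin.mk_one, c1, ← hg, C0, Matrix.of_apply]; simp
    · simp only [Fin.reduceFinMk, c2, hgc, C0, Matrix.of_apply]; simp

/-- The involution of the normal form. -/
theorem eq_T0 (h2 : (2 : F) ≠ 0) {T : Matrix (Fin 3) (Fin 3) F} (h1 : T * D1 = D1 * T)
    (hT2 : T * D2 = D1 * D2 * T) (hsq : T * T = 1) (hc : T * C0 * T = C0 * C0) (hdet : T.det = 1) : T = T0 := by
  have a := fun i j => congrFun (congrFun h1 i) j
  have b := fun i j => congrFun (congrFun hT2 i) j
  have s := fun i j => congrFun (congrFun hsq i) j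
  have k := fun i j => congrFun (congrFun hc i) j
  simp only [Matrix.mul_apply, Fin.sum_univ_three, D1, D2, C0, Matrix.of_apply] at a b s k
  have z : ∀ y : F, 2 * y = 0 → y = 0 := fun y hy => (mul_eq_zero.1 hy).resolve_left h2
  have t01 : T 0 1 = 0 := z _ (by have := a 0 1; simp at this; linear_combination -this)
  have t02 : T 0 2 = 0 := z _ (by have := a 0 2; simp at this; linear_combination -this)
  have t10 : T 1 0 = 0 := z _ (by have := a 1 0; simp at this; linear_combination this)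
  have t20 : T 2 0 = 0 := z _ (by have := a 2 0; simp at this; linear_combination this)
  have t11 : T 1 1 = 0 := z _ (by have := b 1 1; simp at this; linear_combination this)
  have t22 : T 2 2 = 0 := z _ (by have := b 2 2; simp at this; linear_combination -this)
  rw [Matrix.det_fin_three, t01, t02, t10, t20, t11, t22] at hdet
  have s00 := s 0 0
  have s11 := s 1 1
  have k20 := k 2 0
  simp [t01, t02, t10, t20, t11, t22] at s00 s11 k20
  have t00 : T 0 0 = -1 := by linear_combination -hdet - T 0 0 * s11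
  have t21 : T 2 1 = -1 := by
    rw [t00] at k20
    linear_combination -k20
  have t12 : T 1 2 = -1 := by
    rw [t21] at s11
    linear_combination -s11
  ext i j
  fin_cases i <;> fin_cases j <;> simp [T0, t00, t01, t02, t10, t11, t12, t20, t21, t22]

/-- The second element of order three of the normal form. -/
theorem eq_X0 (h2 : (2 : F) ≠ 0) {X : Matrix (Fin 3) (Fin 3) F} (h1 : X * D1 = T0 * X)
    (hX2 : X * T0 = D1 * T0 * X) (hinv : D1 * D2 * X * (D1 * D2) * X = 1) (hdet : X.det = 1) :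
    X 1 0 ≠ 0 ∧ X = X0 (X 1 0) := by
  have a := fun i j => congrFun (congrFun h1 i) j
  have b := fun i j => congrFun (congrFun hX2 i) j
  have s := fun i j => congrFun (congrFun hinv i) j
  simp only [Matrix.mul_apply, Fin.sum_univ_three, D1, D2, T0, Matrix.of_apply] at a b s
  have z : ∀ y : F, 2 * y = 0 → y = 0 := fun y hy => (mul_eq_zero.1 hy).resolve_left h2
  have x00 : X 0 0 = 0 := z _ (by have := a 0 0; simp at this; linear_combination this)
  have x20 : X 2 0 = -X 1 0 := by have := a 1 0; simp at this; linear_combination this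
  have x21 : X 2 1 = X 1 1 := by have := a 1 1; simp at this; linear_combination -this
  have x22 : X 2 2 = X 1 2 := by have := a 1 2; simp at this; linear_combination -this
  have x02 : X 0 2 = X 0 1 := by have := b 0 1; simp at this; linear_combination this
  have x12 : X 1 2 = -X 1 1 := by have := b 1 1; simp at this; linear_combination -this - x21
  have s00 := s 0 0
  rw [Matrix.det_fin_three] at hdet
  simp [x00, x20, x21, x22, x02, x12] at s00 hdet
  clear a b s
  have h0 : X 1 0 ≠ 0 := by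
    intro h
    rw [h] at s00
    simp at s00
  have h11 : 2 * X 1 1 = 1 := by
    linear_combination hdet - 2 * X 1 1 * s00
  have e11 : X 1 1 = 2⁻¹ := by
    field_simp
    linear_combination h11
  have e01 : X 0 1 = (2 * X 1 0)⁻¹ := by
    field_simp
    linear_combination s00
  refine ⟨h0, ?_⟩
  ext i j
  fin_cases i <;> fin_cases j <;> simp [X0, x00, x20, x21, x22, x02, x12, e11, e01]

end Cfsg.Agent.H856.U3
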